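import Mathlib

/-!
# Thompson transfer to a subgroup of index two of an odd-index subgroup

`H` a subgroup of odd index in `G`, `K` a subgroup of index two of `H`, and `G` without a quotient of order two.
If `x` is a `2`-element all of whose proper powers (of `2`-power exponent) have their `H`-conjugates in `K`, then the number of cosets
`a` of `H` fixed by `x` with `a⁻¹ x a ∉ K` is even. Consequently every `2`-subgroup of `C(x)` fixes a coset `gH` with `g⁻¹ x g ∈ K`.
-/

set_option autoImplicit false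
set_option linter.unusedSectionVars false
set_option linter.unusedVariables false
set_option linter.style.longLine false

namespace Cfsg.Agent.Lib.LocalStruct.ThompsonIdx

variable {G : Type*} [Group G]

/-- Multiplication parity for a subgroup of index two. -/
theorem mul_mem_iff {H K : Subgroup G} (hK : K.relIndex H = 2) {a b : G} (ha : a ∈ H) (hb : b ∈ H) :
    a * b ∈ K ↔ (a ∈ K ↔ b ∈ K) := by
  have h : (K.subgroupOf H).index = 2 := hK
  have := Subgroup.mul_mem_iff_of_index_two h (a := ⟨a, ha⟩) (b := ⟨b, hb⟩)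
  simpa [Subgroup.mem_subgroupOf] using this

/-- The sign of an element of `H` with respect to `K`. -/
noncomputable def sgn (H K : Subgroup G) (hK : K.relIndex H = 2) : ↥H →* ℤˣ := by
  classical
  exact
  { toFun := fun h => if (h : G) ∈ K then 1 else -1
    map_one' := by
      have : (1 : G) ∈ K := one_mem _
      simp [this]
    map_mul' := by
      intro a b
      have h := mul_mem_iff hK a.2 b.2
      by_cases ha : (a : G) ∈ K <;> by_cases hb : (b : G) ∈ K <;> simp [ha, hb, h] }

theorem sgn_apply {H K : Subgroup G} (hK : K.relIndex H = 2) (h : ↥H) :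
    sgn H K hK h = 1 ↔ (h : G) ∈ K := by
  classical
  unfold sgn
  change (if (h : G) ∈ K then (1 : ℤˣ) else -1) = 1 ↔ _
  by_cases h1 : (h : G) ∈ K <;> simp [h1]

theorem sgn_apply' {H K : Subgroup G} (hK : K.relIndex H = 2) (h : ↥H) (h1 : (h : G) ∉ K) :
    sgn H K hK h = -1 := by
  classical
  unfold sgn
  change (if (h : G) ∈ K then (1 : ℤˣ) else -1) = -1
  simp [h1]

/-- The normality of `K` in `H`, elementwise. -/
theorem conj_mem_iff {H K : Subgroup G} (hK : K.relIndex H = 2) {a h : G} (ha : a ∈ H) (hh : h ∈ H) :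
    h⁻¹ * a * h ∈ K ↔ a ∈ K := by
  have h1 : (K.subgroupOf H).index = 2 := hK
  haveI := Subgroup.normal_of_index_eq_two h1
  constructor
  · intro h2
    have h3 : (⟨h⁻¹ * a * h, mul_mem (mul_mem (inv_mem hh) ha) hh⟩ : ↥H) ∈ K.subgroupOf H :=
      Subgroup.mem_subgroupOf.2 h2
    have h4 := (inferInstance : (K.subgroupOf H).Normal).conj_mem _ h3 ⟨h, hh⟩
    rw [Subgroup.mem_subgroupOf] at h4
    have h5 : h * (h⁻¹ * a * h) * h⁻¹ = a := by group
    simpa [h5] using h4
  · intro h2
    have h3 : (⟨a, ha⟩ : ↥H) ∈ K.subgroupOf H := Subgroup.mem_subgroupOf.2 h2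
    have h4 := (inferInstance : (K.subgroupOf H).Normal).conj_mem _ h3 ⟨h⁻¹, inv_mem hh⟩
    rw [Subgroup.mem_subgroupOf] at h4
    simpa using h4

variable [Finite G]

open Classical in
/-- The number of fixed cosets with the conjugate outside `K` is even. -/
theorem even_card_bad (hG : ∀ (f : G →* ℤˣ) (g : G), f g = 1) {H K : Subgroup G} (hKH : K ≤ H) (hK : K.relIndex H = 2)
    {x : G} (n : ℕ) (hxn : x ^ (2 ^ n) = 1)
    (hmin : ∀ k : ℕ, k ≠ 1 → k ∣ 2 ^ n → ∀ g : G, g⁻¹ * x ^ k * g ∈ H → g⁻¹ * x ^ k * g ∈ K) :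
    letI := Fintype.ofFinite (G ⧸ H)
    Even (Finset.univ.filter (fun a : G ⧸ H => x • a = a ∧ a.out⁻¹ * x * a.out ∉ K)).card := by
  letI := Fintype.ofFinite (G ⧸ H)
  letI := Fintype.ofFinite (Quotient (MulAction.orbitRel (Subgroup.zpowers x) (G ⧸ H)))
  set A := Finset.univ.filter (fun a : G ⧸ H => x • a = a ∧ a.out⁻¹ * x * a.out ∉ K) with hA
  have hV := MonoidHom.transfer_eq_prod_quotient_orbitRel_zpowers_quot (sgn H K hK) x
  rw [hG (MonoidHom.transfer (sgn H K hK)) x] at hV
  -- the period
  have hiter : ∀ (a : G ⧸ H) (k : ℕ), (x • ·)^[k] a = x ^ k • a := by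
    intro a k
    induction k with
    | zero => simp
    | succ k ih => rw [Function.iterate_succ_apply', ih, pow_succ', mul_smul]
  have hper : ∀ a : G ⧸ H, Function.minimalPeriod (x • ·) a ∣ 2 ^ n := by
    intro a
    apply Function.IsPeriodicPt.minimalPeriod_dvd
    change (x • ·)^[2 ^ n] a = a
    rw [hiter, hxn, one_smul]
  have hfixper : ∀ a : G ⧸ H, Function.minimalPeriod (x • ·) a = 1 ↔ x • a = a := by
    intro a
    rw [Function.minimalPeriod_eq_one_iff_isFixedPt]
    rfl
  -- the terms
  have hterm : ∀ q : Quotient (MulAction.orbitRel (Subgroup.zpowers x) (G ⧸ H)),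
      sgn H K hK ⟨q.out.out⁻¹ * x ^ Function.minimalPeriod (x • ·) q.out * q.out.out,
        QuotientGroup.out_conj_pow_minimalPeriod_mem H x q.out⟩ = if q.out ∈ A then -1 else 1 := by
    intro q
    by_cases hq : Function.minimalPeriod (x • ·) q.out = 1
    · have hfix := (hfixper _).1 hq
      by_cases hb : q.out.out⁻¹ * x * q.out.out ∈ K
      · have h1 : q.out ∉ A := by
          simp only [hA, Finset.mem_filter, Finset.mem_univ, true_and, not_and, not_not]
          exact fun _ => hb
        rw [if_neg h1]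
        rw [sgn_apply]
        simpa [hq] using hb
      · have h1 : q.out ∈ A := by
          simp only [hA, Finset.mem_filter, Finset.mem_univ, true_and]
          exact ⟨hfix, hb⟩
        rw [if_pos h1]
        apply sgn_apply'
        simpa [hq] using hb
    · have h1 : q.out ∉ A := by
        simp only [hA, Finset.mem_filter, Finset.mem_univ, true_and, not_and]
        intro h2
        exact absurd ((hfixper _).2 h2) hq
      rw [if_neg h1, sgn_apply]
      exact hmin _ hq (hper _) _ (QuotientGroup.out_conj_pow_minimalPeriod_mem H x q.out)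
  have hV2 : (1 : ℤˣ) = ∏ q : Quotient (MulAction.orbitRel (Subgroup.zpowers x) (G ⧸ H)),
      (if q.out ∈ A then (-1 : ℤˣ) else 1) :=
    hV.trans (Finset.prod_congr rfl (fun q _ => hterm q))
  rw [Finset.prod_ite, Finset.prod_const, Finset.prod_const_one, mul_one] at hV2
  -- bijection
  have hcard : (Finset.univ.filter (fun q : Quotient (MulAction.orbitRel (Subgroup.zpowers x) (G ⧸ H)) => q.out ∈ A)).card = A.card := by
    apply Finset.card_bij (fun q _ => q.out)
    · intro q hq
      exact (Finset.mem_filter.1 hq).2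
    · intro q₁ _ q₂ _ h
      exact Quotient.out_injective h
    · intro a ha
      have hfix : x • a = a := (Finset.mem_filter.1 ha).2.1
      refine ⟨(Quotient.mk'' a : Quotient (MulAction.orbitRel (Subgroup.zpowers x) (G ⧸ H))), ?_, ?_⟩
      all_goals
        have h1 : (Quotient.mk'' a : Quotient (MulAction.orbitRel (Subgroup.zpowers x) (G ⧸ H))).out = a := by
          have h1 : Quotient.mk'' (Quotient.mk'' a : Quotient (MulAction.orbitRel (Subgroup.zpowers x) (G ⧸ H))).out =
              (Quotient.mk'' a : Quotient (MulAction.orbitRel (Subgroup.zpowers x) (G ⧸ H))) := Quotient.out_eq' _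
          have h2 := Quotient.exact' h1
          obtain ⟨g, hg⟩ := h2
          rw [← hg]
          obtain ⟨k, hk⟩ := Subgroup.mem_zpowers_iff.mp g.2
          have h3 : (g : G) • a = a := by
            rw [← hk]
            have h6 : x ∈ MulAction.stabilizer G a := hfix
            exact (MulAction.stabilizer G a).zpow_mem h6 k
          exact h3
      · simp only [Finset.mem_filter, Finset.mem_univ, true_and]
        rw [h1]; exact ha
      · exact h1
  rw [hcard] at hV2
  by_contra hodd
  rw [Nat.not_even_iff_odd] at hodd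
  rw [hodd.neg_one_pow] at hV2
  exact absurd hV2 (by decide)

open Classical in
/-- **Thompson transfer**: the strong form. -/
theorem exists_conj_mem (hG : ∀ (f : G →* ℤˣ) (g : G), f g = 1) {H K : Subgroup G} (hodd : ¬ 2 ∣ H.index)
    (hKH : K ≤ H) (hK : K.relIndex H = 2) {x : G} (n : ℕ) (hxn : x ^ (2 ^ n) = 1)
    (hmin : ∀ k : ℕ, k ≠ 1 → k ∣ 2 ^ n → ∀ g : G, g⁻¹ * x ^ k * g ∈ H → g⁻¹ * x ^ k * g ∈ K)
    (P : Subgroup G) (hP : IsPGroup 2 P) (hc : ∀ p ∈ P, p * x = x * p) :
    ∃ g : G, g⁻¹ * x * g ∈ K ∧ ∀ p ∈ P, g⁻¹ * p * g ∈ H := by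
  haveI hF : Fact (Nat.Prime 2) := ⟨Nat.prime_two⟩
  letI := Fintype.ofFinite (G ⧸ H)
  have hev := even_card_bad hG hKH hK n hxn hmin
  -- fixed point criterion
  have hfixmem : ∀ a : G ⧸ H, x • a = a → a.out⁻¹ * x * a.out ∈ H := by
    intro a ha
    have h1 : x • (a.out : G ⧸ H) = (a.out : G ⧸ H) := by rw [QuotientGroup.out_eq']; exact ha
    have h2 : ((x * a.out : G) : G ⧸ H) = (a.out : G ⧸ H) := h1
    rw [QuotientGroup.eq] at h2
    have h3 : (x * a.out)⁻¹ * a.out = (a.out⁻¹ * x * a.out)⁻¹ := by group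
    rw [h3] at h2
    exact (H.inv_mem_iff).1 h2
  have hinvar : ∀ (p : G) (a : G ⧸ H), p ∈ P → x • a = a → (x • (p • a) = p • a ∧
      (((p • a).out⁻¹ * x * (p • a).out ∈ K) ↔ (a.out⁻¹ * x * a.out ∈ K))) := by
    intro p a hp ha
    have h1 : x • (p • a) = p • a := by
      rw [smul_smul, ← hc p hp, mul_smul, ha]
    refine ⟨h1, ?_⟩
    -- `(p • a).out = p * a.out * h`
    have h2 : ((p * a.out : G) : G ⧸ H) = p • a := by
      change p • (a.out : G ⧸ H) = p • a
      rw [QuotientGroup.out_eq']
    have h3 : (((p • a).out : G) : G ⧸ H) = ((p * a.out : G) : G ⧸ H) := by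
      rw [QuotientGroup.out_eq', h2]
    rw [QuotientGroup.eq] at h3
    set h := ((p • a).out)⁻¹ * (p * a.out) with hh
    have h4 : p * a.out = (p • a).out * h := by rw [hh]; group
    have h5 : (p * a.out)⁻¹ * x * (p * a.out) = a.out⁻¹ * x * a.out := by
      have : p⁻¹ * x * p = x := by
        have h6 := hc p hp
        calc p⁻¹ * x * p = p⁻¹ * (x * p) := by group
          _ = p⁻¹ * (p * x) := by rw [h6]
          _ = x := by group
      calc (p * a.out)⁻¹ * x * (p * a.out) = a.out⁻¹ * (p⁻¹ * x * p) * a.out := by group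
        _ = _ := by rw [this]
    rw [← h5, h4]
    have h6 : ((p • a).out * h)⁻¹ * x * ((p • a).out * h) = h⁻¹ * ((p • a).out⁻¹ * x * (p • a).out) * h := by group
    rw [h6]
    exact (conj_mem_iff hK (hfixmem _ h1) h3).symm
  -- the good set
  let C : SubMulAction P (G ⧸ H) :=
    { carrier := {a | x • a = a ∧ a.out⁻¹ * x * a.out ∈ K}
      smul_mem' := by
        rintro ⟨p, hp⟩ a ⟨h1, h2⟩
        have := hinvar p a hp h1
        exact ⟨this.1, this.2.2 h2⟩ }
  have hoddC : ¬ 2 ∣ Nat.card C := by
    -- number of fixed points of `x`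
    have h1 : (Nat.card (G ⧸ H)) % 2 = 1 := by
      have : Nat.card (G ⧸ H) = H.index := rfl
      rw [this]
      omega
    -- zpowers x is a 2-group
    have hZ : IsPGroup 2 (Subgroup.zpowers x) := by
      rintro ⟨g, m, rfl⟩
      refine ⟨n, Subtype.ext ?_⟩
      change ((x ^ m) ^ (2 ^ n) : G) = 1
      rw [← zpow_natCast, ← zpow_mul, mul_comm, zpow_mul, zpow_natCast, hxn, one_zpow]
    have h2 := hZ.card_modEq_card_fixedPoints (G ⧸ H)
    have hfp : Nat.card (MulAction.fixedPoints (Subgroup.zpowers x) (G ⧸ H)) =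
        (Finset.univ.filter (fun a : G ⧸ H => x • a = a)).card := by
      have : Nat.card (MulAction.fixedPoints (Subgroup.zpowers x) (G ⧸ H)) =
          Nat.card {a : G ⧸ H // x • a = a} := by
        apply Nat.card_congr
        apply Equiv.subtypeEquivRight
        intro a
        constructor
        · intro h
          exact h ⟨x, Subgroup.mem_zpowers x⟩
        · rintro h ⟨g, m, rfl⟩
          change x ^ m • a = a
          have h6 : x ∈ MulAction.stabilizer G a := h
          exact (MulAction.stabilizer G a).zpow_mem h6 m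
      rw [this, Nat.card_eq_fintype_card, Fintype.card_subtype]
    have h3 := Finset.card_filter_add_card_filter_not (s := Finset.univ.filter (fun a : G ⧸ H => x • a = a))
      (fun a : G ⧸ H => a.out⁻¹ * x * a.out ∈ K)
    rw [Finset.filter_filter, Finset.filter_filter] at h3
    have hCcard : Nat.card C = (Finset.univ.filter (fun a : G ⧸ H => x • a = a ∧ a.out⁻¹ * x * a.out ∈ K)).card := by
      have : Nat.card C = Nat.card {a : G ⧸ H // x • a = a ∧ a.out⁻¹ * x * a.out ∈ K} := rfl
      rw [this, Nat.card_eq_fintype_card, Fintype.card_subtype]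
    rw [hCcard]
    have h4 : (Nat.card (G ⧸ H)) % 2 = (Finset.univ.filter (fun a : G ⧸ H => x • a = a)).card % 2 := by
      rw [← hfp]
      exact h2
    obtain ⟨m, hm⟩ := hev
    omega
  obtain ⟨⟨a, ha⟩, hfix⟩ := hP.nonempty_fixed_point_of_prime_not_dvd_card C hoddC
  refine ⟨a.out, ha.2, ?_⟩
  intro p hp
  have h1 : (⟨p, hp⟩ : P) • (⟨a, ha⟩ : C) = ⟨a, ha⟩ := hfix ⟨p, hp⟩
  have h2 : p • a = a := congrArg Subtype.val h1
  have h3 : p • (a.out : G ⧸ H) = (a.out : G ⧸ H) := by rw [QuotientGroup.out_eq']; exact h2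
  have h4 : ((p * a.out : G) : G ⧸ H) = (a.out : G ⧸ H) := h3
  rw [QuotientGroup.eq] at h4
  have h5 : (p * a.out)⁻¹ * a.out = (a.out⁻¹ * p * a.out)⁻¹ := by group
  rw [h5] at h4
  exact (H.inv_mem_iff).1 h4

end Cfsg.Agent.Lib.LocalStruct.ThompsonIdx
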