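/-
`p`-reduced normal subgroups viewed in an ambient group: `Y_L = largestPReducedOf p L`.
-/
import Cfsg.Agent.Lib.PReduced.Basic
import Cfsg.Agent.Lib.LocalStruct.PCoreOf

set_option autoImplicit false

namespace Cfsg.Agent.Lib.LocalStruct.PReducedOf

open Subgroup Cfsg Cfsg.Agent.Lib.Core.Basic Cfsg.Agent.Lib.LocalStruct.Basic
  Cfsg.Agent.Lib.LocalStruct.Comm Cfsg.Agent.Lib.LocalStruct.PCoreOf

universe u v

variable {p : ℕ} [Fact p.Prime]

section ty

variable {L : Type u} [Group L] [Finite L] {L' : Type v} [Group L'] [Finite L']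

theorem isPReducedNormal_largestPReduced : IsPReducedNormal p (largestPReduced p L) :=
  Cfsg.Agent.Lib.Core.Radical.sSup_mem_of_sup_closed (S := {V : Subgroup L | IsPReducedNormal p V})
    ⟨⊥, Cfsg.Agent.Lib.PReduced.Basic.isPReducedNormal_bot⟩
    fun _ hA _ hB => Cfsg.Agent.Lib.PReduced.Basic.IsPReducedNormal_sup hA hB

omit [Fact p.Prime] [Finite L] in
theorem le_largestPReduced {V : Subgroup L} (hV : IsPReducedNormal p V) : V ≤ largestPReduced p L :=
  le_sSup hV

theorem isPGroup_of_isPReducedNormal {V : Subgroup L} (hV : IsPReducedNormal p V) : IsPGroup p V :=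
  Cfsg.Agent.Lib.PReduced.Basic.isPGroup_of_elementary hV.2.1

/-- `O_p(L)` centralizes every `p`-reduced subgroup. -/
theorem pCore_le_centralizer {V : Subgroup L} (hV : IsPReducedNormal p V) :
    pCore p L ≤ centralizer (V : Set L) := by
  refine Cfsg.Agent.Lib.PReduced.Basic.IsPReducedNormal_le_centralizer hV _
    (pCore_normal p L).isSubnormal fun x hx => ?_
  obtain ⟨k, hk⟩ := IsPElt.of_mem (pCore_isPGroup (p := p) (G := L)) hx
  exact ⟨k, by rw [hk]; exact one_mem _⟩

theorem isPReducedNormal_le_pCore {V : Subgroup L} (hV : IsPReducedNormal p V) : V ≤ pCore p L :=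
  le_pCore hV.1 (isPGroup_of_isPReducedNormal hV)

theorem isPReducedNormal_le_omega (hchar : centralizer (pCore p L : Set L) ≤ pCore p L)
    {V : Subgroup L} (hV : IsPReducedNormal p V) :
    V ≤ omegaOne p (pCore p L ⊓ centralizer (pCore p L : Set L)) := by
  intro v hv
  refine Subgroup.subset_closure ⟨?_, hV.2.1.2 v hv⟩
  have h1 : v ∈ centralizer (pCore p L : Set L) := by
    rw [Subgroup.mem_centralizer_iff]
    intro q hq
    exact ((Subgroup.mem_centralizer_iff.mp (pCore_le_centralizer hV hq)) v hv).symm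
  exact ⟨hchar h1, h1⟩

/-- `p`-reduced normal subgroups are carried along isomorphisms. -/
theorem isPReducedNormal_map_equiv (e : L ≃* L') {V : Subgroup L} (hV : IsPReducedNormal p V) :
    IsPReducedNormal p (V.map e.toMonoidHom) := by
  have hVn := hV.1
  have hn : (V.map e.toMonoidHom).Normal := Subgroup.Normal.map hVn _ e.surjective
  have hce : ∀ x : L', x ∈ centralizer ((V.map e.toMonoidHom : Subgroup L') : Set L') ↔
      e.symm x ∈ centralizer (V : Set L) := by
    intro x
    rw [Subgroup.mem_centralizer_iff, Subgroup.mem_centralizer_iff]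
    constructor
    · intro h v hv
      have := h (e v) ⟨v, hv, rfl⟩
      apply e.injective
      simpa using this
    · rintro h _ ⟨v, hv, rfl⟩
      have := h v hv
      have h2 := congrArg e this
      simpa using h2
  refine Cfsg.Agent.Lib.PReduced.Basic.isPReducedNormal_of hn ⟨⟨⟨?_⟩⟩, ?_⟩ ?_
  · rintro ⟨_, v, hv, rfl⟩ ⟨_, w, hw, rfl⟩
    apply Subtype.ext
    have := congrArg Subtype.val (hV.2.1.1.is_comm.comm ⟨v, hv⟩ ⟨w, hw⟩)
    simp only [Subgroup.coe_mul] at this ⊢
    simp only [MulEquiv.coe_toMonoidHom]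
    rw [← map_mul, ← map_mul, this]
  · rintro _ ⟨v, hv, rfl⟩
    simp only [MulEquiv.coe_toMonoidHom]
    rw [← map_pow, hV.2.1.2 v hv, map_one]
  · intro D hD h
    have h1 := Cfsg.Agent.Lib.PReduced.Basic.IsPReducedNormal_le_centralizer hV
      (D.comap e.toMonoidHom) (Subgroup.Normal.comap hD _).isSubnormal (fun x hx => by
        obtain ⟨k, hk⟩ := h (e x) hx
        refine ⟨k, ?_⟩
        rw [hce] at hk
        simpa using hk)
    intro x hx
    rw [hce]
    apply h1
    simpa using hx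

theorem map_largestPReduced_equiv (e : L ≃* L') :
    (largestPReduced p L).map e.toMonoidHom = largestPReduced p L' := by
  apply le_antisymm
  · exact le_largestPReduced (isPReducedNormal_map_equiv e isPReducedNormal_largestPReduced)
  · have h := le_largestPReduced
      (isPReducedNormal_map_equiv e.symm (isPReducedNormal_largestPReduced (p := p) (L := L')))
    intro y hy
    have := h ⟨y, hy, rfl⟩
    exact ⟨e.symm y, this, by simp⟩

end ty

section ambient

variable {H : Type u} [Group H] [Finite H]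

omit [Fact p.Prime] [Finite H] in
theorem largestPReducedOf_le (L : Subgroup H) : largestPReducedOf p L ≤ L := by
  rintro _ ⟨x, -, rfl⟩
  exact x.2

omit [Fact p.Prime] [Finite H] in
theorem mem_largestPReducedOf {L : Subgroup H} {x : H} :
    x ∈ largestPReducedOf p L ↔ ∃ hx : x ∈ L, (⟨x, hx⟩ : L) ∈ largestPReduced p L := by
  constructor
  · rintro ⟨y, hy, rfl⟩
    exact ⟨y.2, hy⟩
  · rintro ⟨hx, h⟩
    exact ⟨⟨x, hx⟩, h, rfl⟩

omit [Fact p.Prime] [Finite H] in
theorem subgroupOf_largestPReducedOf (L : Subgroup H) :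
    (largestPReducedOf p L).subgroupOf L = largestPReduced p L := by
  ext x
  rw [Subgroup.mem_subgroupOf, mem_largestPReducedOf]
  exact ⟨fun ⟨_, h⟩ => h, fun h => ⟨x.2, h⟩⟩

omit [Fact p.Prime] [Finite H] in
/-- `x ∈ C_L(V)`, when `V ≤ L`, in terms of the ambient centralizer. -/
theorem mem_centralizer_subgroupOf {L V : Subgroup H} (hV : V ≤ L) {x : L} :
    x ∈ centralizer ((V.subgroupOf L : Subgroup L) : Set L) ↔ (x : H) ∈ centralizer (V : Set H) := by
  rw [Subgroup.mem_centralizer_iff, Subgroup.mem_centralizer_iff]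
  constructor
  · intro h v hv
    have := h ⟨v, hV hv⟩ (Subgroup.mem_subgroupOf.mpr hv)
    exact congrArg Subtype.val this
  · intro h v hv
    have := h v (Subgroup.mem_subgroupOf.mp hv)
    exact Subtype.ext this

/-- ambient criterion for `p`-reduced -/
theorem isPReducedNormal_subgroupOf_of {L V : Subgroup H} (hVL : V ≤ L)
    (hLV : L ≤ normalizer (V : Set H)) (he : IsElementaryAbelian p V)
    (h : ∀ D : Subgroup H, D ≤ L → L ≤ normalizer (D : Set H) →
      (∀ x ∈ D, ∃ k : ℕ, x ^ (p ^ k) ∈ centralizer (V : Set H)) → D ≤ centralizer (V : Set H)) :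
    IsPReducedNormal p (V.subgroupOf L) := by
  refine Cfsg.Agent.Lib.PReduced.Basic.isPReducedNormal_of
    ((Subgroup.normal_subgroupOf_iff_le_normalizer hVL).mpr hLV) ⟨⟨⟨?_⟩⟩, ?_⟩ ?_
  · rintro ⟨⟨a, haL⟩, ha⟩ ⟨⟨b, hbL⟩, hb⟩
    apply Subtype.ext
    apply Subtype.ext
    show a * b = b * a
    exact congrArg Subtype.val (he.1.is_comm.comm ⟨a, ha⟩ ⟨b, hb⟩)
  · rintro ⟨a, haL⟩ ha
    apply Subtype.ext
    exact he.2 a ha
  · intro D hD hDp
    have hle : D.map L.subtype ≤ L := by
      rintro _ ⟨x, -, rfl⟩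
      exact x.2
    have h1 := h (D.map L.subtype) hle ?_ ?_
    · intro x hx
      rw [mem_centralizer_subgroupOf hVL]
      exact h1 ⟨x, hx, rfl⟩
    · intro l hl
      apply mem_normalizer_of_conj_mem
      rintro _ ⟨x, hx, rfl⟩
      exact ⟨⟨l, hl⟩ * x * (⟨l, hl⟩ : L)⁻¹, hD.conj_mem x hx _, by simp⟩
    · rintro _ ⟨x, hx, rfl⟩
      obtain ⟨k, hk⟩ := hDp x hx
      refine ⟨k, ?_⟩
      rw [mem_centralizer_subgroupOf hVL] at hk
      simpa using hk

/-- ambient form of the defining property -/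
theorem le_centralizer_of_isPReducedNormal {L V : Subgroup H} (hVL : V ≤ L)
    (hV : IsPReducedNormal p (V.subgroupOf L)) {D : Subgroup H} (hDL : D ≤ L)
    (hD : L ≤ normalizer (D : Set H))
    (h : ∀ x ∈ D, ∃ k : ℕ, x ^ (p ^ k) ∈ centralizer (V : Set H)) :
    D ≤ centralizer (V : Set H) := by
  have hn : (D.subgroupOf L).Normal := (Subgroup.normal_subgroupOf_iff_le_normalizer hDL).mpr hD
  have h1 := Cfsg.Agent.Lib.PReduced.Basic.IsPReducedNormal_le_centralizer hV (D.subgroupOf L)
    hn.isSubnormal (fun x hx => by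
      obtain ⟨k, hk⟩ := h x hx
      refine ⟨k, ?_⟩
      rw [mem_centralizer_subgroupOf hVL]
      simpa using hk)
  intro x hx
  have := h1 (show (⟨x, hDL hx⟩ : L) ∈ D.subgroupOf L from hx)
  rwa [mem_centralizer_subgroupOf hVL] at this

theorem isPReducedNormal_largestPReducedOf (L : Subgroup H) :
    IsPReducedNormal p ((largestPReducedOf p L).subgroupOf L) := by
  rw [subgroupOf_largestPReducedOf]
  exact isPReducedNormal_largestPReduced

omit [Fact p.Prime] [Finite H] in
theorem le_largestPReducedOf {L V : Subgroup H} (hVL : V ≤ L)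
    (hV : IsPReducedNormal p (V.subgroupOf L)) : V ≤ largestPReducedOf p L := by
  have := Subgroup.map_mono (f := L.subtype) (le_largestPReduced hV)
  rwa [Subgroup.map_subgroupOf_eq_of_le hVL] at this

theorem le_normalizer_largestPReducedOf (L : Subgroup H) :
    L ≤ normalizer ((largestPReducedOf p L : Subgroup H) : Set H) := by
  intro l hl
  apply mem_normalizer_of_conj_mem
  rintro _ ⟨x, hx, rfl⟩
  have hn := (isPReducedNormal_largestPReduced (p := p) (L := L)).1
  exact ⟨⟨l, hl⟩ * x * (⟨l, hl⟩ : L)⁻¹, hn.conj_mem x hx _, by simp⟩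

theorem isElementaryAbelian_largestPReducedOf (L : Subgroup H) :
    IsElementaryAbelian p (largestPReducedOf p L) := by
  have he := (isPReducedNormal_largestPReduced (p := p) (L := L)).2.1
  refine ⟨⟨⟨?_⟩⟩, ?_⟩
  · rintro ⟨_, a, ha, rfl⟩ ⟨_, b, hb, rfl⟩
    apply Subtype.ext
    have := congrArg Subtype.val (he.1.is_comm.comm ⟨a, ha⟩ ⟨b, hb⟩)
    show (a : H) * b = b * a
    exact congrArg Subtype.val this
  · rintro _ ⟨a, ha, rfl⟩
    have := he.2 a ha
    exact congrArg Subtype.val this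

theorem isPGroup_largestPReducedOf (L : Subgroup H) : IsPGroup p (largestPReducedOf p L) :=
  Cfsg.Agent.Lib.PReduced.Basic.isPGroup_of_elementary (isElementaryAbelian_largestPReducedOf L)

theorem largestPReducedOf_le_pCoreOf (L : Subgroup H) : largestPReducedOf p L ≤ pCoreOf p L :=
  Subgroup.map_mono (isPReducedNormal_le_pCore isPReducedNormal_largestPReduced)

theorem pCoreOf_le_centralizer (L : Subgroup H) :
    pCoreOf p L ≤ centralizer ((largestPReducedOf p L : Subgroup H) : Set H) := by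
  rintro _ ⟨x, hx, rfl⟩
  have h1 := pCore_le_centralizer (isPReducedNormal_largestPReduced (p := p) (L := L)) hx
  rw [← subgroupOf_largestPReducedOf, mem_centralizer_subgroupOf (largestPReducedOf_le L)] at h1
  exact h1

theorem largestPReducedOf_le_omega {L : Subgroup H} :
    largestPReducedOf p L ≤ omegaOne p (pCoreOf p L ⊓ centralizer ((pCoreOf p L : Subgroup H) : Set H)) := by
  intro y hy
  have h1 : y ∈ centralizer ((pCoreOf p L : Subgroup H) : Set H) := by
    rw [Subgroup.mem_centralizer_iff]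
    intro q hq
    exact ((Subgroup.mem_centralizer_iff.mp (pCoreOf_le_centralizer L hq)) y hy).symm
  exact Subgroup.subset_closure ⟨⟨largestPReducedOf_le_pCoreOf L hy, h1⟩,
    (isElementaryAbelian_largestPReducedOf L).2 y hy⟩

/-- `L` normalizes `C_H(Y_L)`. -/
theorem le_normalizer_centralizer_largestPReducedOf (L : Subgroup H) :
    L ≤ normalizer ((centralizer ((largestPReducedOf p L : Subgroup H) : Set H) : Subgroup H) : Set H) := by
  intro l hl
  have h1 := mem_normalizer_iff_map.mp (le_normalizer_largestPReducedOf (p := p) L hl)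
  rw [mem_normalizer_iff_map, ← centralizer_map_conj, h1]

/-- Transfer of `p`-reducedness along `L C(V) = M C(V)`. -/
theorem isPReducedNormal_transfer {L M V : Subgroup H} (hVL : V ≤ L) (hVM : V ≤ M)
    (hLV : L ≤ normalizer (V : Set H)) (hMV : M ≤ normalizer (V : Set H))
    (he : IsElementaryAbelian p V)
    (hfac : L ⊔ centralizer (V : Set H) = M ⊔ centralizer (V : Set H))
    (hV : IsPReducedNormal p (V.subgroupOf M)) : IsPReducedNormal p (V.subgroupOf L) := by
  set C : Subgroup H := centralizer (V : Set H) with hC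
  have hLC : L ≤ normalizer ((C : Subgroup H) : Set H) := by
    intro l hl
    have h1 := mem_normalizer_iff_map.mp (hLV hl)
    rw [mem_normalizer_iff_map, hC, ← centralizer_map_conj, h1]
  have hMC : M ≤ normalizer ((C : Subgroup H) : Set H) := by
    intro l hl
    have h1 := mem_normalizer_iff_map.mp (hMV hl)
    rw [mem_normalizer_iff_map, hC, ← centralizer_map_conj, h1]
  refine isPReducedNormal_subgroupOf_of hVL hLV he fun D hDL hDn hDp => ?_
  have hDC : D ≤ normalizer ((C : Subgroup H) : Set H) := hDL.trans hLC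
  -- `D' = D C ∩ M`
  have hCX : C ≤ normalizer (((D ⊔ C) : Subgroup H) : Set H) := by
    intro c hc
    apply mem_normalizer_of_conj_mem
    intro x hx
    rw [sup_comm] at hx
    obtain ⟨a, ha, b, hb, rfl⟩ := mem_sup_of_le_normalizer hDC hx
    have e : c * (a * b) * c⁻¹ = (c * a * (b * c⁻¹ * b⁻¹)) * b := by group
    rw [e, sup_comm]
    exact (C ⊔ D).mul_mem (Subgroup.mem_sup_left (C.mul_mem (C.mul_mem hc ha)
      (conj_mem_of_mem_normalizer (hDC hb) (C.inv_mem hc)))) (Subgroup.mem_sup_right hb)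
  have hLX : L ⊔ C ≤ normalizer (((D ⊔ C) : Subgroup H) : Set H) :=
    sup_le (sup_le_normalizer hDn hLC) hCX
  have hMX : M ≤ normalizer (((D ⊔ C) : Subgroup H) : Set H) :=
    (le_sup_left.trans hfac.symm.le).trans hLX
  have hMD' : M ≤ normalizer ((((D ⊔ C) ⊓ M : Subgroup H)) : Set H) := by
    intro m hm
    rw [mem_normalizer_iff_map, Subgroup.map_inf _ _ _ (MulAut.conj m).injective,
      mem_normalizer_iff_map.mp (hMX hm),
      mem_normalizer_iff_map.mp (Subgroup.le_normalizer hm)]
  have hD' : (D ⊔ C) ⊓ M ≤ C := by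
    refine le_centralizer_of_isPReducedNormal hVM hV inf_le_right hMD' ?_
    rintro x ⟨hx, -⟩
    have hx' : x ∈ (C ⊔ D : Subgroup H) := by rwa [sup_comm]
    obtain ⟨d, hd, c, hc, rfl⟩ := mem_sup_of_le_normalizer' hDC hx'
    obtain ⟨k, hk⟩ := hDp d hd
    refine ⟨k, ?_⟩
    obtain ⟨c', hc', e⟩ := Cfsg.Agent.Lib.PReduced.Basic.pow_mul_mem_coset
      (H := C) (fun y hy => conj_inv_mem_of_mem_normalizer (hDC hd) hy) hc (p ^ k)
    rw [e]
    exact C.mul_mem hk hc'
  intro d hd
  have hd' : d ∈ M ⊔ C := by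
    rw [← hfac]
    exact Subgroup.mem_sup_left (hDL hd)
  rw [sup_comm] at hd'
  obtain ⟨c, hc, m, hm, rfl⟩ := mem_sup_of_le_normalizer hMC hd'
  have hm' : m ∈ (D ⊔ C) ⊓ M := by
    refine ⟨?_, hm⟩
    have e : m = c⁻¹ * (c * m) := by group
    rw [e]
    exact (D ⊔ C).mul_mem (Subgroup.mem_sup_right (C.inv_mem hc)) (Subgroup.mem_sup_left hd)
  exact C.mul_mem hc (hD' hm')

/-- `O_p(M)` lies in each Sylow subgroup of `H` that is contained in `M`. -/
theorem pCoreOf_le_sylow (T : Sylow p H) {M : Subgroup H} (hTM : (T : Subgroup H) ≤ M) :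
    pCoreOf p M ≤ (T : Subgroup H) := by
  rintro _ ⟨x, hx, rfl⟩
  have h1 := pCore_le_sylow (T.subtype hTM) hx
  rw [Sylow.coe_subtype] at h1
  exact h1

/-- `p`-elements of order `p` central in a Sylow subgroup lie in `Y_L` (characteristic `p`). -/
theorem mem_largestPReduced_of_center {L : Type u} [Group L] [Finite L]
    (hchar : centralizer (pCore p L : Set L) ≤ pCore p L) (S : Sylow p L) {x : L}
    (hxS : x ∈ (S : Subgroup L)) (hxC : x ∈ centralizer ((S : Subgroup L) : Set L))
    (hxp : x ^ p = 1) : x ∈ largestPReduced p L := by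
  have hW : zpowers x ≤ (S : Subgroup L) := (Subgroup.zpowers_le).mpr hxS
  have hcomm : ∀ s ∈ (S : Subgroup L), s * x = x * s := fun s hs =>
    (Subgroup.mem_centralizer_iff.mp hxC) s hs
  have hcz : (S : Subgroup L) ≤ centralizer ((zpowers x : Subgroup L) : Set L) := by
    intro s hs
    rw [Subgroup.mem_centralizer_iff]
    rintro _ ⟨n, rfl⟩
    exact ((Commute.zpow_left (show Commute x s from (hcomm s hs).symm) n))
  have he : IsElementaryAbelian p (zpowers x) := by
    refine ⟨⟨⟨?_⟩⟩, ?_⟩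
    · rintro ⟨_, m, rfl⟩ ⟨_, n, rfl⟩
      apply Subtype.ext
      exact (Commute.refl x).zpow_zpow m n
    · rintro _ ⟨n, rfl⟩
      change (x ^ n) ^ p = 1
      rw [← zpow_natCast, zpow_comm, zpow_natCast, hxp, one_zpow]
  have hW₁ : IsPReducedNormal p ((zpowers x).subgroupOf (S : Subgroup L)) := by
    refine isPReducedNormal_subgroupOf_of hW ?_ he fun D hD _ _ => hD.trans hcz
    intro s hs
    apply mem_normalizer_of_conj_mem
    intro y hy
    have : s * y = y * s := (Subgroup.mem_centralizer_iff.mp (hcz hs)) y hy |>.symm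
    rw [this]
    simpa using hy
  have h2 := Cfsg.Agent.Lib.PReduced.Basic.normalClosure_pReduced hchar S S le_rfl _ hW₁
  refine le_largestPReduced h2 (Subgroup.subset_normalClosure ?_)
  rw [Subgroup.map_subgroupOf_eq_of_le hW]
  exact Subgroup.mem_zpowers x

/-- `Z_L ≤ Y_L` when `L` has characteristic `p`. -/
theorem sylowCenterClosure_le {L : Subgroup H}
    (hL : centralizer (pCore p L : Set L) ≤ pCore p L) :
    sylowCenterClosure p L ≤ largestPReducedOf p L := by
  apply iSup_le
  intro S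
  apply (Subgroup.closure_le _).mpr
  rintro x ⟨⟨⟨y, hy, rfl⟩, h2⟩, h3⟩
  refine ⟨y, mem_largestPReduced_of_center hL S hy ?_ ?_, rfl⟩
  · rw [Subgroup.mem_centralizer_iff]
    intro s hs
    apply Subtype.ext
    exact (Subgroup.mem_centralizer_iff.mp h2) _ ⟨s, hs, rfl⟩
  · apply Subtype.ext
    simpa using h3

/-- `Ω₁(Z(T)) ≤ Z_L` for a Sylow subgroup `T ≤ L`. -/
theorem omega_center_le_sylowCenterClosure (T : Sylow p H) {L : Subgroup H}
    (hTL : (T : Subgroup H) ≤ L) :
    omegaOne p ((T : Subgroup H) ⊓ centralizer ((T : Subgroup H) : Set H)) ≤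
      sylowCenterClosure p L := by
  have h1 : ((T.subtype hTL : Sylow p L) : Subgroup L).map L.subtype = T := by
    rw [Sylow.coe_subtype, Subgroup.map_subgroupOf_eq_of_le hTL]
  have h2 := le_iSup (fun S : Sylow p L => omegaOne p (((S : Subgroup L).map L.subtype) ⊓
      centralizer (((S : Subgroup L).map L.subtype : Subgroup H) : Set H))) (T.subtype hTL)
  simp only [h1] at h2
  exact h2

/-- Frattini argument for a Sylow subgroup of `K ≤ M` normalized by `M`, in the ambient group. -/
theorem le_sup_of_frattini {M K T₀ : Subgroup H} (S : Sylow p K)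
    (hS : (S : Subgroup K).map K.subtype = T₀) (hKM : K ≤ M) (hMK : M ≤ normalizer (K : Set H)) :
    M ≤ (M ⊓ normalizer (T₀ : Set H)) ⊔ K := by
  intro m hm
  have hT₀K : T₀ ≤ K := by
    rw [← hS]
    rintro _ ⟨x, -, rfl⟩
    exact x.2
  have hT₀p : IsPGroup p T₀ := hS ▸ S.isPGroup'.map K.subtype
  have h1 : T₀.map (MulAut.conj m).toMonoidHom ≤ K := by
    calc _ ≤ K.map (MulAut.conj m).toMonoidHom := map_conj_mono m hT₀K
      _ = K := mem_normalizer_iff_map.mp (hMK hm)
  obtain ⟨k, hk, h2⟩ := WeakClosed.exists_le_conj_of_sylowIn S h1 (isPGroup_map_conj m hT₀p)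
  rw [hS] at h2
  have h3 : T₀.map (MulAut.conj m).toMonoidHom = T₀.map (MulAut.conj k).toMonoidHom :=
    Subgroup.eq_of_le_of_card_ge h2 (by rw [card_map_conj, card_map_conj])
  have h4 : k⁻¹ * m ∈ normalizer (T₀ : Set H) := by
    rw [mem_normalizer_iff_map, map_conj_mul, h3, map_conj_inv_map_conj]
  have h5 : m = (k * (k⁻¹ * m) * k⁻¹) * k := by group
  rw [h5]
  have h6 : k⁻¹ * m ∈ M ⊓ normalizer (T₀ : Set H) :=
    Subgroup.mem_inf.mpr ⟨M.mul_mem (M.inv_mem (hKM hk)) hm, h4⟩
  have h7 : k * (k⁻¹ * m) * k⁻¹ = m * k⁻¹ := by group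
  rw [h7]
  have h8 : m = k * (k⁻¹ * m) := by group
  rw [h8]
  have : k * (k⁻¹ * m) * k⁻¹ * k = k * (k⁻¹ * m) := by group
  rw [← h5, h8]
  exact ((M ⊓ normalizer (T₀ : Set H)) ⊔ K).mul_mem (Subgroup.mem_sup_right hk)
    (Subgroup.mem_sup_left h6)

end ambient

end Cfsg.Agent.Lib.LocalStruct.PReducedOf
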