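/-
Members of `𝔐_H` (the basic property); weakly closed subgroups in a subgroup.
-/
import Cfsg.Agent.Lib.LocalStruct.PReducedOf

set_option autoImplicit false

namespace Cfsg.Agent.Lib.LocalStruct.BasicProp

open Subgroup Cfsg Cfsg.Agent.Lib.LocalStruct.Basic Cfsg.Agent.Lib.LocalStruct.Comm
  Cfsg.Agent.Lib.LocalStruct.WeakClosed Cfsg.Agent.Lib.LocalStruct.PCoreOf
  Cfsg.Agent.Lib.LocalStruct.PReducedOf Cfsg.Agent.Lib.LocalStruct.PClosed

universe u

variable {p : ℕ} [Fact p.Prime] {H : Type u} [Group H] [Finite H]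

omit [Fact p.Prime] [Finite H] in
theorem map_subtype_conj_subgroupOf {K Q : Subgroup H} (hQK : Q ≤ K) (g : K) :
    ((Q.subgroupOf K).map (MulAut.conj g).toMonoidHom).map K.subtype =
      Q.map (MulAut.conj (g : H)).toMonoidHom := by
  ext x
  simp only [Subgroup.mem_map, Subgroup.mem_subgroupOf]
  constructor
  · rintro ⟨_, ⟨q, hq, rfl⟩, rfl⟩
    exact ⟨q, hq, by simp [MulAut.conj_apply]⟩
  · rintro ⟨q, hq, rfl⟩
    refine ⟨_, ⟨⟨q, hQK hq⟩, hq, rfl⟩, ?_⟩
    simp [MulAut.conj_apply]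

/-- weak closure inside a subgroup, checked in the ambient group -/
theorem isWC_subgroupOf_of_forall {K Q : Subgroup H} (T : Sylow p H) (hTK : (T : Subgroup H) ≤ K)
    (hQT : Q ≤ T) (h : ∀ k ∈ K, Q.map (MulAut.conj k).toMonoidHom ≤ T →
      Q.map (MulAut.conj k).toMonoidHom = Q) :
    IsWeaklyClosedSubgroup p (Q.subgroupOf K) := by
  have hQK : Q ≤ K := hQT.trans hTK
  refine ⟨T.subtype hTK, ?_, fun g hg => ?_⟩
  · rw [Sylow.coe_subtype]
    intro x hx
    exact Subgroup.mem_subgroupOf.mpr (hQT (Subgroup.mem_subgroupOf.mp hx))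
  · rw [Sylow.coe_subtype] at hg
    have h1 : Q.map (MulAut.conj (g : H)).toMonoidHom ≤ T := by
      rw [← map_subtype_conj_subgroupOf hQK]
      rintro _ ⟨x, hx, rfl⟩
      exact Subgroup.mem_subgroupOf.mp (hg hx)
    have h2 := h g g.2 h1
    apply Subgroup.map_injective K.subtype_injective
    rw [map_subtype_conj_subgroupOf hQK, h2, Subgroup.map_subgroupOf_eq_of_le hQK]

section

variable {M : Subgroup H} (T : Sylow p H) (hTM : (T : Subgroup H) ≤ M)
  (hc : IsPClosed p ↥(M ⊓ centralizer ((largestPReducedOf p M : Subgroup H) : Set H)))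

include hTM hc

/-- `O_p(M) = T ∩ C(Y_M)` if `C_M(Y_M)` is `p`-closed. -/
theorem pCoreOf_eq_inf_centralizer :
    pCoreOf p M = (T : Subgroup H) ⊓ centralizer ((largestPReducedOf p M : Subgroup H) : Set H) := by
  set C : Subgroup H := centralizer ((largestPReducedOf p M : Subgroup H) : Set H) with hC
  have hMC : M ≤ normalizer (C : Set H) := le_normalizer_centralizer_largestPReducedOf M
  have hMK : M ≤ normalizer ((M ⊓ C : Subgroup H) : Set H) := by
    intro x hx
    rw [mem_normalizer_iff_map, Subgroup.map_inf _ _ _ (MulAut.conj x).injective,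
      mem_normalizer_iff_map.mp (hMC hx), mem_normalizer_iff_map.mp (Subgroup.le_normalizer hx)]
  have h1 := inf_eq_pCore_of_isPClosed T (hTM.trans hMK) hc
  have h2 : (T : Subgroup H) ⊓ (M ⊓ C) = (T : Subgroup H) ⊓ C := by
    rw [← inf_assoc, inf_eq_left.mpr hTM]
  rw [h2] at h1
  apply le_antisymm
  · exact le_inf (pCoreOf_le_sylow T hTM) (pCoreOf_le_centralizer M)
  · rw [h1]
    change pCoreOf p (M ⊓ C) ≤ _
    apply le_pCoreOf ((pCoreOf_le (M ⊓ C)).trans inf_le_left) _ (isPGroup_pCoreOf _)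
    intro m hm
    rw [mem_normalizer_iff_map, pCoreOf_conj, mem_normalizer_iff_map.mp (hMK hm)]

/-- `O_p(M)` is weakly closed in `M† = M C(Y_M)`. -/
theorem isWC_pCoreOf : IsWeaklyClosedSubgroup p
    ((pCoreOf p M).subgroupOf (M ⊔ centralizer ((largestPReducedOf p M : Subgroup H) : Set H))) := by
  set C : Subgroup H := centralizer ((largestPReducedOf p M : Subgroup H) : Set H) with hC
  have hMC : M ≤ normalizer (C : Set H) := le_normalizer_centralizer_largestPReducedOf M
  have he := pCoreOf_eq_inf_centralizer T hTM hc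
  refine isWC_subgroupOf_of_forall T (hTM.trans le_sup_left) (pCoreOf_le_sylow T hTM) fun g hg h1 => ?_
  rw [sup_comm] at hg
  obtain ⟨c, hc', m, hm, rfl⟩ := mem_sup_of_le_normalizer hMC hg
  rw [map_conj_mul, mem_normalizer_iff_map.mp (le_normalizer_pCoreOf M hm)] at h1 ⊢
  have hOC : pCoreOf p M ≤ C := pCoreOf_le_centralizer M
  have h2 : (pCoreOf p M).map (MulAut.conj c).toMonoidHom ≤ C := by
    calc _ ≤ C.map (MulAut.conj c).toMonoidHom := map_conj_mono c hOC
      _ = C := mem_normalizer_iff_map.mp (Subgroup.le_normalizer hc')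
  have h3 : (pCoreOf p M).map (MulAut.conj c).toMonoidHom ≤ pCoreOf p M := by
    rw [he]
    rw [he] at h1 h2 hOC
    exact le_inf h1 h2
  exact Subgroup.eq_of_le_of_card_ge h3 (by rw [card_map_conj])

end

end Cfsg.Agent.Lib.LocalStruct.BasicProp
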