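/-
Consequences of the basic property `M ∈ 𝔐_G`.
-/
import Cfsg.Agent.S2845

set_option autoImplicit false

namespace Cfsg.Agent.Lib.LocalStruct.FrakM

open Subgroup Cfsg Cfsg.Agent.Lib.LocalStruct.Basic
  Cfsg.Agent.Lib.LocalStruct.Comm Cfsg.Agent.Lib.LocalStruct.PCoreOf

universe u

variable {p : ℕ} {G : Type u} [Group G] [Finite G]

/-- every member of `𝓛_G` lies in a member of `𝓜_G` -/
theorem exists_max_ge {X : Subgroup G} (hX : X ∈ charPSubgroups p G) :
    ∃ X' ∈ maxCharPSubgroups p G, X ≤ X' := by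
  have hne : (charPSubgroups p G).Finite := Set.toFinite _
  obtain ⟨X', hX1, hX2⟩ := hne.exists_le_maximal hX
  refine ⟨X', ⟨hX2.1, fun L hL hXL => ?_⟩, hX1⟩
  exact le_antisymm (hX2.2 hL hXL) hXL

/-- a member of `𝓛_G` containing `M ∈ 𝔐_G` lies in `M†` -/
theorem le_dagger {M X : Subgroup G} (hM : IsInFrakM p M) (hX : X ∈ charPSubgroups p G)
    (hMX : M ≤ X) : X ≤ M ⊔ centralizer (largestPReducedOf p M : Set G) := by
  obtain ⟨X', hX', hXX'⟩ := exists_max_ge hX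
  rw [← hM.2.2.1 X' hX' (hMX.trans hXX')]
  exact hXX'

variable [Fact p.Prime]

/-- the normalizer of a nontrivial `p`-subgroup normalized by a Sylow subgroup lies in `𝓛_G` when
there is a large `p`-subgroup -/
theorem normalizer_mem_charP {Q R : Subgroup G} (hQp : IsPGroup p Q) (hQ1 : Q ≠ ⊥) (hL : IsLarge Q)
    (S : Sylow p G) (hS : (S : Subgroup G) ≤ normalizer (R : Set G)) (hRp : IsPGroup p R)
    (hR1 : R ≠ ⊥) : normalizer (R : Set G) ∈ charPSubgroups p G := by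
  have hO : pCore p ↥(normalizer (R : Set G)) ≠ ⊥ := by
    intro hb
    apply hR1
    rw [eq_bot_iff]
    have h1 := le_pCoreOf (Subgroup.le_normalizer (H := R)) le_rfl hRp
    rw [pCoreOf_eq_map, hb, Subgroup.map_bot] at h1
    exact h1
  exact ⟨hO, (Cfsg.Agent.S2845.result Q hQp hQ1 hL).2.1 _ ⟨S, hS⟩ hO⟩

/-- A subgroup containing a Sylow subgroup with nontrivial `O_p` lies in `𝓛_G`, when there is a large
`p`-subgroup. -/
theorem mem_charP_of_parabolic {Q X : Subgroup G} (hQp : IsPGroup p Q) (hQ1 : Q ≠ ⊥) (hL : IsLarge Q)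
    (S : Sylow p G) (hS : (S : Subgroup G) ≤ X) (hO : pCore p ↥X ≠ ⊥) :
    X ∈ charPSubgroups p G :=
  ⟨hO, (Cfsg.Agent.S2845.result Q hQp hQ1 hL).2.1 _ ⟨S, hS⟩ hO⟩

/-- the normalizer of a nontrivial `p`-subgroup normalized by `M` lies in `M†` -/
theorem normalizer_le_dagger {Q M R : Subgroup G} (hQp : IsPGroup p Q) (hQ1 : Q ≠ ⊥) (hL : IsLarge Q)
    (S : Sylow p G) (hSM : (S : Subgroup G) ≤ M) (hM : IsInFrakM p M)
    (hMR : M ≤ normalizer (R : Set G)) (hRp : IsPGroup p R) (hR1 : R ≠ ⊥) :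
    normalizer (R : Set G) ≤ M ⊔ centralizer (largestPReducedOf p M : Set G) :=
  le_dagger hM (normalizer_mem_charP hQp hQ1 hL S (hSM.trans hMR) hRp hR1) hMR

end Cfsg.Agent.Lib.LocalStruct.FrakM
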