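/-
`p`-reduced subgroups and subnormal subgroups: comparison of `Y_L` and `Y_H`.
-/
import Cfsg.Agent.Lib.Coprime.Abelian
import Cfsg.Agent.Lib.Coprime.Complement
import Cfsg.Agent.Lib.LocalStruct.PReducedOf

set_option autoImplicit false

namespace Cfsg.Agent.Lib.LocalStruct.PRedSub

open Subgroup Cfsg Cfsg.Agent.Lib.Core.Basic Cfsg.Agent.Lib.Core.Residual
  Cfsg.Agent.Lib.LocalStruct.Basic Cfsg.Agent.Lib.LocalStruct.Comm
  Cfsg.Agent.Lib.LocalStruct.PClosed Cfsg.Agent.Lib.LocalStruct.PCoreOf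
  Cfsg.Agent.Lib.LocalStruct.PReducedOf
open scoped commutatorElement

universe u

variable {p : ℕ} [Fact p.Prime] {G : Type u} [Group G] [Finite G]

omit [Fact p.Prime] in
/-- `r y r⁻¹ y⁻¹ ∈ C` extends from `y` to the powers of `y`. -/
theorem comm_mem_of_zpowers {C : Subgroup G} {r y : G} (hyC : y ∈ normalizer (C : Set G))
    (h : r * y * r⁻¹ * y⁻¹ ∈ C) : ∀ z ∈ zpowers y, r * z * r⁻¹ * z⁻¹ ∈ C := by
  let S : Subgroup G :=
    { carrier := {z | z ∈ normalizer (C : Set G) ∧ r * z * r⁻¹ * z⁻¹ ∈ C}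
      one_mem' := ⟨one_mem _, by simp⟩
      mul_mem' := by
        rintro a b ⟨ha, ha'⟩ ⟨hb, hb'⟩
        refine ⟨mul_mem ha hb, ?_⟩
        have e : r * (a * b) * r⁻¹ * (a * b)⁻¹ =
            (r * a * r⁻¹ * a⁻¹) * (a * (r * b * r⁻¹ * b⁻¹) * a⁻¹) := by group
        rw [e]
        exact C.mul_mem ha' (conj_mem_of_mem_normalizer ha hb')
      inv_mem' := by
        rintro a ⟨ha, ha'⟩
        refine ⟨inv_mem ha, ?_⟩
        have e : r * a⁻¹ * r⁻¹ * a⁻¹⁻¹ = a⁻¹ * (r * a * r⁻¹ * a⁻¹)⁻¹ * a := by group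
        rw [e]
        exact conj_inv_mem_of_mem_normalizer ha (C.inv_mem ha') }
  have hS : zpowers y ≤ S := (Subgroup.zpowers_le).mpr ⟨hyC, h⟩
  exact fun z hz => (hS hz).2

/-- If `y` (a `p'`-element) and the `p`-group `R₀` commute in their action on the elementary abelian
group `V`, and `y` is trivial on the fixed points of `R₀`, then `y` centralizes `V`. -/
theorem key_fix {V R₀ : Subgroup G} {y : G} (hV : IsElementaryAbelian p V) (hR₀ : IsPGroup p R₀)
    (hR₀V : R₀ ≤ normalizer (V : Set G)) (hyV : y ∈ normalizer (V : Set G))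
    (hy : (orderOf y).Coprime p)
    (hc : ∀ r ∈ R₀, r * y * r⁻¹ * y⁻¹ ∈ centralizer (V : Set G))
    (hfix : ∀ a ∈ V, a ∈ centralizer (R₀ : Set G) → y * a = a * y) :
    y ∈ centralizer (V : Set G) := by
  haveI : IsMulCommutative V := hV.1
  have hVp : IsPGroup p V := Cfsg.Agent.Lib.PReduced.Basic.isPGroup_of_elementary hV
  set Z : Subgroup G := zpowers y with hZ
  have hZV : Z ≤ normalizer (V : Set G) := (Subgroup.zpowers_le).mpr hyV
  set U : Subgroup G := ⁅V, Z⁆ with hU
  have hUV : U ≤ V := commutator_le_left_of_le_normalizer hZV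
  have hCn : ∀ x ∈ normalizer (V : Set G), x ∈ normalizer ((centralizer (V : Set G) : Subgroup G) : Set G) := by
    intro x hx
    rw [mem_normalizer_iff_map, ← centralizer_map_conj, mem_normalizer_iff_map.mp hx]
  have hR₀U : R₀ ≤ normalizer (U : Set G) := by
    intro r hr
    apply mem_normalizer_of_conj_mem
    have h1 : U ≤ U.comap (MulAut.conj r).toMonoidHom := by
      rw [hU, Subgroup.commutator_le]
      intro v hv z hz
      rw [Subgroup.mem_comap]
      have hz1 := comm_mem_of_zpowers (hCn y hyV) (hc r hr) z hz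
      set c : G := r * z * r⁻¹ * z⁻¹ with hcdef
      set v' : G := r * v * r⁻¹ with hv'
      have hv'V : v' ∈ V := conj_mem_of_mem_normalizer (hR₀V hr) hv
      have h2 : (MulAut.conj r).toMonoidHom ⁅v, z⁆ = ⁅v', z⁆ := by
        simp only [MulEquiv.coe_toMonoidHom, MulAut.conj_apply, commutatorElement_def]
        have hcv : c * v' = v' * c := (Subgroup.mem_centralizer_iff.mp hz1) v' hv'V |> fun h => h.symm
        have hw : ⁅v', z⁆ ∈ V := by
          have := hUV (Subgroup.commutator_mem_commutator hv'V hz)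
          exact this
        have hcw : c * ⁅v', z⁆ = ⁅v', z⁆ * c := ((Subgroup.mem_centralizer_iff.mp hz1) _ hw).symm
        have e3 : r * (v * z * v⁻¹ * z⁻¹) * r⁻¹ = (c * ⁅v', z⁆ * c⁻¹) := by
          have e4 : r * z * r⁻¹ = c * z := by rw [hcdef]; group
          calc r * (v * z * v⁻¹ * z⁻¹) * r⁻¹
              = v' * (r * z * r⁻¹) * v'⁻¹ * (r * z * r⁻¹)⁻¹ := by rw [hv']; group
            _ = v' * (c * z) * v'⁻¹ * (c * z)⁻¹ := by rw [e4]
            _ = (v' * c) * z * v'⁻¹ * z⁻¹ * c⁻¹ := by group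
            _ = (c * v') * z * v'⁻¹ * z⁻¹ * c⁻¹ := by rw [hcv]
            _ = c * (v' * z * v'⁻¹ * z⁻¹) * c⁻¹ := by group
            _ = _ := by rw [commutatorElement_def]
        rw [e3, hcw]
        rw [commutatorElement_def]
        group
      rw [h2]
      exact Subgroup.commutator_mem_commutator (conj_mem_of_mem_normalizer (hR₀V hr) hv) hz
    exact fun x hx => h1 hx
  by_contra hnc
  have hU1 : U ≠ ⊥ := by
    intro hb
    apply hnc
    have h2 := commutator_eq_bot_iff_forall.mp hb
    rw [Subgroup.mem_centralizer_iff]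
    intro v hv
    exact (h2 v hv y (Subgroup.mem_zpowers y))
  obtain ⟨a, haU, ha1, haC⟩ := Cfsg.Agent.Lib.Coprime.Complement.exists_ne_one_mem_centralizer hR₀
    (hVp.to_le hUV) hR₀U hU1
  have hcop : (Nat.card Z).Coprime (Nat.card V) := by
    obtain ⟨n, hn⟩ := IsPGroup.iff_card.mp hVp
    rw [hn, hZ, Nat.card_zpowers]
    exact Nat.Coprime.pow_right n hy
  have h3 := Cfsg.Agent.Lib.Coprime.Abelian.inf_commutator_eq_bot hZV hcop
  have haCZ : a ∈ centralizer (Z : Set G) := by
    have h4 := hfix a (hUV haU) haC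
    rw [Subgroup.mem_centralizer_iff]
    rintro _ ⟨n, rfl⟩
    exact ((show Commute y a from h4).zpow_left n)
  have : a ∈ (V ⊓ centralizer (Z : Set G)) ⊓ ⁅V, Z⁆ := ⟨⟨hUV haU, haCZ⟩, haU⟩
  rw [h3, Subgroup.mem_bot] at this
  exact ha1 this

/-- From a normal elementary abelian subgroup that is "`p`-reduced for `L`", descend to a `p`-reduced
normal subgroup with the same centralizer in `L`. -/
theorem exists_pReduced_sub {K : Type u} [Group K] [Finite K] (L : Subgroup K) [hLn : L.Normal]
    {V : Subgroup K} [hVn : V.Normal] (hV : IsElementaryAbelian p V)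
    (hP : ∀ D : Subgroup K, D ≤ L → L ≤ normalizer (D : Set K) →
      (∀ x ∈ D, ∃ k : ℕ, x ^ (p ^ k) ∈ centralizer (V : Set K)) → D ≤ centralizer (V : Set K)) :
    ∃ V' ≤ V, IsPReducedNormal p V' ∧ L ⊓ centralizer (V' : Set K) ≤ centralizer (V : Set K) := by
  induction' hn : Nat.card V using Nat.strong_induction_on with n ih generalizing V
  by_cases hred : ∀ D : Subgroup K, D.Normal → (∀ x ∈ D, ∃ k : ℕ, x ^ (p ^ k) ∈ centralizer (V : Set K)) →
      D ≤ centralizer (V : Set K)
  · exact ⟨V, le_rfl, Cfsg.Agent.Lib.PReduced.Basic.isPReducedNormal_of hVn hV hred, inf_le_right⟩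
  push Not at hred
  obtain ⟨R, hRn, hRp, hRC⟩ := hred
  have hCn : (centralizer (V : Set K)).Normal := inferInstance
  have hCRn : (centralizer (R : Set K)).Normal := inferInstance
  let T : Sylow p K := default
  set R₀ : Subgroup K := (T : Subgroup K) ⊓ R with hR₀
  have hR₀p : IsPGroup p R₀ := T.isPGroup'.to_le inf_le_left
  set W : Subgroup K := V ⊓ centralizer (R : Set K) with hW
  have hWn : W.Normal := Subgroup.normal_inf_normal _ _
  have hWV : W ≤ V := inf_le_left
  have hWlt : Nat.card W < n := by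
    rw [← hn]
    have hne : W ≠ V := by
      intro he
      apply hRC
      have h1 : V ≤ centralizer (R : Set K) := by
        rw [← he]
        exact inf_le_right
      intro r hr
      rw [Subgroup.mem_centralizer_iff]
      intro v hv
      exact ((Subgroup.mem_centralizer_iff.mp (h1 hv)) r hr).symm
    have hlt : W < V := lt_of_le_of_ne hWV hne
    have := Set.ncard_lt_ncard (s := (W : Set K)) (t := (V : Set K)) hlt (Set.toFinite _)
    rwa [← Nat.card_coe_set_eq, ← Nat.card_coe_set_eq] at this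
  have hWel : IsElementaryAbelian p W := by
    refine ⟨⟨⟨?_⟩⟩, fun a ha => hV.2 a ha.1⟩
    rintro ⟨a, ha⟩ ⟨b, hb⟩
    apply Subtype.ext
    show a * b = b * a
    exact congrArg Subtype.val (hV.1.is_comm.comm ⟨a, ha.1⟩ ⟨b, hb.1⟩)
  have hnorm : ∀ X : Subgroup K, X.Normal → ∀ x : K, x ∈ normalizer (X : Set K) := by
    intro X hX x
    rw [Subgroup.normalizer_eq_top_iff.mpr hX]
    trivial
  have hLC₀ : R ⊓ L ≤ centralizer (V : Set K) :=
    hP _ inf_le_right (fun l _ => hnorm _ (Subgroup.normal_inf_normal _ _) l)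
      (fun x hx => hRp x hx.1)
  -- the action of `R` is covered by `R₀`
  have hfixW : ∀ a ∈ V, a ∈ centralizer (R₀ : Set K) → a ∈ W := by
    intro a ha haR₀
    refine Subgroup.mem_inf.mpr ⟨ha, Subgroup.mem_centralizer_iff.mpr ?_⟩
    intro r hr
    have hFn : (R ⊓ centralizer (V : Set K)).Normal := Subgroup.normal_inf_normal _ _
    obtain ⟨f, hf, t, ht, rfl⟩ := Cfsg.Agent.Lib.PReduced.Basic.exists_mul_of_pquot T R
      (R ⊓ centralizer (V : Set K)) inf_le_left
      (fun y hy => by
        obtain ⟨k, hk⟩ := hRp y hy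
        exact ⟨k, R.pow_mem hy _, hk⟩) r hr
    have h1 : f * a = a * f := ((Subgroup.mem_centralizer_iff.mp hf.2) a ha).symm
    have h2 : t * a = a * t := (Subgroup.mem_centralizer_iff.mp haR₀) t ht
    calc f * t * a = f * (t * a) := by group
      _ = f * (a * t) := by rw [h2]
      _ = (f * a) * t := by group
      _ = (a * f) * t := by rw [h1]
      _ = _ := by group
  have hE : L ⊓ centralizer (W : Set K) ≤ centralizer (V : Set K) := by
    apply hP _ inf_le_left
    · intro l _
      exact hnorm _ (Subgroup.normal_inf_normal _ _) l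
    · intro x hx
      obtain ⟨a, ha⟩ := Cfsg.Agent.Lib.PReduced.Basic.exists_pow_coprime (p := p) x
      refine ⟨a, ?_⟩
      refine key_fix hV hR₀p (fun r _ => hnorm V hVn r) (hnorm V hVn _) ha ?_ ?_
      · intro r hr
        have h1 : r * x ^ p ^ a * r⁻¹ * (x ^ p ^ a)⁻¹ ∈ R ⊓ L := by
          constructor
          · have e : r * x ^ p ^ a * r⁻¹ * (x ^ p ^ a)⁻¹ = r * (x ^ p ^ a * r⁻¹ * (x ^ p ^ a)⁻¹) := by group
            rw [e]
            exact R.mul_mem hr.2 (hRn.conj_mem _ (R.inv_mem hr.2) _)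
          · have hy : x ^ p ^ a ∈ L := L.pow_mem hx.1 _
            exact L.mul_mem (hLn.conj_mem _ hy r) (L.inv_mem hy)
        exact hLC₀ h1
      · intro b hb hbC
        have h2 : b ∈ W := hfixW b hb hbC
        have h3 : x ^ p ^ a ∈ centralizer (W : Set K) := Subgroup.pow_mem _ hx.2 _
        exact ((Subgroup.mem_centralizer_iff.mp h3) b h2).symm
  have hPW : ∀ D : Subgroup K, D ≤ L → L ≤ normalizer (D : Set K) →
      (∀ x ∈ D, ∃ k : ℕ, x ^ (p ^ k) ∈ centralizer (W : Set K)) → D ≤ centralizer (W : Set K) := by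
    intro D hDL hDn h
    have h1 : D ≤ centralizer (V : Set K) := by
      refine hP D hDL hDn fun x hx => ?_
      obtain ⟨k, hk⟩ := h x hx
      exact ⟨k, hE ⟨L.pow_mem (hDL hx) _, hk⟩⟩
    exact h1.trans (Subgroup.centralizer_le hWV)
  obtain ⟨V', hV'W, hV'red, hV'C⟩ := ih _ hWlt hWel hPW rfl
  exact ⟨V', hV'W.trans hWV, hV'red, (le_inf inf_le_left hV'C).trans hE⟩

omit [Finite G] in
/-- `Y_L` is carried along injective homomorphisms. -/
theorem map_largestPReducedOf {A B : Type u} [Group A] [Group B] [Finite A] [Finite B] (f : A →* B)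
    (hf : Function.Injective f) (L : Subgroup A) :
    (largestPReducedOf p L).map f = largestPReducedOf p (L.map f) := by
  have h1 := map_largestPReduced_equiv (p := p) (L.equivMapOfInjective f hf)
  unfold largestPReducedOf
  rw [← h1]
  ext x
  simp only [Subgroup.mem_map]
  constructor
  · rintro ⟨_, ⟨y, hy, rfl⟩, rfl⟩
    exact ⟨_, ⟨y, hy, rfl⟩, rfl⟩
  · rintro ⟨_, ⟨y, hy, rfl⟩, rfl⟩
    exact ⟨_, ⟨y, hy, rfl⟩, rfl⟩

omit [Finite G] in
theorem largestPReducedOf_top {A : Type u} [Group A] [Finite A] :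
    largestPReducedOf p (⊤ : Subgroup A) = largestPReduced p A := by
  have h1 := map_largestPReduced_equiv (p := p) (Subgroup.topEquiv (G := A))
  rw [← h1]
  rfl

/-- The normal case. -/
theorem inf_centralizer_le_of_normal {K : Type u} [Group K] [Finite K] (L : Subgroup K) [hLn : L.Normal] :
    L ⊓ centralizer (largestPReduced p K : Set K) ≤
      centralizer ((largestPReducedOf p L : Subgroup K) : Set K) := by
  have hVn : (largestPReducedOf p L).Normal := by
    constructor
    intro n hn g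
    have h1 := map_largestPReducedOf (p := p) (MulAut.conj g).toMonoidHom (MulAut.conj g).injective L
    have h2 : L.map (MulAut.conj g).toMonoidHom = L := by
      apply mem_normalizer_iff_map.mp
      rw [Subgroup.normalizer_eq_top_iff.mpr hLn]
      trivial
    rw [h2] at h1
    rw [← h1]
    exact ⟨n, hn, rfl⟩
  obtain ⟨V', hV', hred, hC⟩ := exists_pReduced_sub L (V := largestPReducedOf p L)
    (isElementaryAbelian_largestPReducedOf L) (fun D hDL hDn h =>
      le_centralizer_of_isPReducedNormal (largestPReducedOf_le L)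
        (isPReducedNormal_largestPReducedOf L) hDL hDn h)
  refine le_trans ?_ hC
  exact inf_le_inf_left _ (Subgroup.centralizer_le (le_largestPReduced hred))

/-- `C_L(Y_H) ≤ C_L(Y_L)` for `L` subnormal. -/
theorem inf_centralizer_le_of_subnormal {L : Subgroup G} (hL : L.IsSubnormal) :
    L ⊓ centralizer (largestPReduced p G : Set G) ≤
      centralizer ((largestPReducedOf p L : Subgroup G) : Set G) := by
  induction hL with
  | top =>
    rw [largestPReducedOf_top]
    exact inf_le_right
  | step L K hle hK hN ih =>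
    rintro x ⟨hxL, hxC⟩
    have hxK : x ∈ K := hle hxL
    have h1 : x ∈ centralizer ((largestPReducedOf p K : Subgroup G) : Set G) :=
      ih ⟨hxK, hxC⟩
    have h2 : (⟨x, hxK⟩ : K) ∈ centralizer (largestPReduced p K : Set K) := by
      rw [← subgroupOf_largestPReducedOf, mem_centralizer_subgroupOf (largestPReducedOf_le K)]
      exact h1
    have h3 := inf_centralizer_le_of_normal (p := p) (L.subgroupOf K) ⟨hxL, h2⟩
    have h4 := map_largestPReducedOf (p := p) K.subtype K.subtype_injective (L.subgroupOf K)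
    rw [Subgroup.map_subgroupOf_eq_of_le hle] at h4
    rw [Subgroup.mem_centralizer_iff]
    intro y hy
    rw [← h4] at hy
    obtain ⟨z, hz, rfl⟩ := hy
    exact congrArg Subtype.val ((Subgroup.mem_centralizer_iff.mp h3) z hz)

/-- `C_L(V ∩ L) ≤ C(V)` for `V` `p`-reduced and `L` subnormal. -/
theorem inf_centralizer_inf_le {V L : Subgroup G} (hV : IsPReducedNormal p V) (hL : L.IsSubnormal) :
    L ⊓ centralizer ((V ⊓ L : Subgroup G) : Set G) ≤ centralizer (V : Set G) := by
  have hVn : V.Normal := hV.1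
  have hVp : IsPGroup p V := Cfsg.Agent.Lib.PReduced.Basic.isPGroup_of_elementary hV.2.1
  have hnorm : L ≤ normalizer ((L ⊓ centralizer ((V ⊓ L : Subgroup G) : Set G) : Subgroup G) : Set G) := by
    intro l hl
    have h1 : (V ⊓ L).map (MulAut.conj l).toMonoidHom = V ⊓ L := by
      rw [Subgroup.map_inf _ _ _ (MulAut.conj l).injective,
        mem_normalizer_iff_map.mp (Subgroup.le_normalizer hl)]
      congr 1
      apply mem_normalizer_iff_map.mp
      rw [Subgroup.normalizer_eq_top_iff.mpr hVn]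
      trivial
    rw [mem_normalizer_iff_map, Subgroup.map_inf _ _ _ (MulAut.conj l).injective,
      mem_normalizer_iff_map.mp (Subgroup.le_normalizer hl), ← centralizer_map_conj, h1]
  have hD : (L ⊓ centralizer ((V ⊓ L : Subgroup G) : Set G)).IsSubnormal :=
    Subgroup.IsSubnormal.step _ L inf_le_left hL
      ((Subgroup.normal_subgroupOf_iff_le_normalizer inf_le_left).mpr hnorm)
  refine Cfsg.Agent.Lib.PReduced.Basic.IsPReducedNormal_le_centralizer hV _ hD ?_
  rintro x ⟨hxL, hxC⟩
  obtain ⟨a, ha⟩ := Cfsg.Agent.Lib.PReduced.Basic.exists_pow_coprime (p := p) x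
  refine ⟨a, ?_⟩
  set y : G := x ^ p ^ a with hy
  have hyL : y ∈ L := L.pow_mem hxL _
  have hyC : y ∈ centralizer ((V ⊓ L : Subgroup G) : Set G) := Subgroup.pow_mem _ hxC _
  rw [Subgroup.mem_centralizer_iff]
  intro v hv
  have h1 := (Cfsg.Agent.Lib.PReduced.Basic.commutator_pResidual_pReduced V hV L hL).1
  have hyR : y ∈ (pResidual p L).map L.subtype :=
    Cfsg.Agent.Lib.PReduced.Basic.mem_map_pResidual_of_coprime hyL ha
  set c : G := y * v * y⁻¹ * v⁻¹ with hc
  have hcV : c ∈ V := V.mul_mem (hVn.conj_mem v hv y) (V.inv_mem hv)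
  have hcL : c ∈ L := by
    have h2 := L.inv_mem (h1 (Subgroup.commutator_mem_commutator hv hyR))
    have e : ⁅v, y⁆⁻¹ = c := by
      simp [commutatorElement_def, hc]
      group
    rwa [e] at h2
  have hcm : Commute y c := ((Subgroup.mem_centralizer_iff.mp hyC) c ⟨hcV, hcL⟩).symm
  have h3 : y * v * y⁻¹ * v⁻¹ = 1 := Cfsg.Agent.Lib.LocalEven.CharP.commutator_eq_one_of_commute hcm
    ⟨1, by rw [pow_one]; exact hV.2.1.2 c hcV⟩ ha
  have e2 : y * v = v * y := by
    have h5 : y * v * y⁻¹ * v⁻¹ * (v * y) = 1 * (v * y) := by rw [h3]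
    simpa [mul_assoc] using h5
  exact e2.symm

end Cfsg.Agent.Lib.LocalStruct.PRedSub
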