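/-
The asymmetric case: chains of pairwise normalizing conjugates of `O_p(M)`.
-/
import Cfsg.Agent.Lib.LocalStruct.FrakM
import Cfsg.Agent.Lib.LocalStruct.BasicProp
import Cfsg.Agent.Lib.LocalStruct.PRedSub

set_option autoImplicit false

namespace Cfsg.Agent.Lib.LocalStruct.Asym

open Subgroup Cfsg Cfsg.Agent.Lib.LocalStruct.Basic Cfsg.Agent.Lib.LocalStruct.Comm
  Cfsg.Agent.Lib.LocalStruct.WeakClosed Cfsg.Agent.Lib.LocalStruct.PCoreOf
  Cfsg.Agent.Lib.LocalStruct.PReducedOf Cfsg.Agent.Lib.LocalStruct.PClosed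
  Cfsg.Agent.Lib.LocalStruct.BasicProp
open scoped commutatorElement

universe u v

section chain

variable {G : Type u} [Group G] {I : Type v} (T : I → Subgroup G)

/-- two members of a family normalizing each other -/
def Adj (a b : I) : Prop :=
  T a ≤ normalizer (T b : Set G) ∧ T b ≤ normalizer (T a : Set G)

variable {T} in
theorem Adj.symm' {a b : I} (h : Adj T a b) : Adj T b a := ⟨h.2, h.1⟩

/-- reachability in `n` steps -/
def Reach : ℕ → I → I → Prop
  | 0, a, b => a = b
  | n + 1, a, c => ∃ b, Reach n a b ∧ Adj T b c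

variable {T}

theorem Reach.cons {n : ℕ} {a b c : I} (h : Adj T a b) (h2 : Reach T n b c) :
    Reach T (n + 1) a c := by
  induction n generalizing c with
  | zero =>
    cases h2
    exact ⟨a, rfl, h⟩
  | succ n ih =>
    obtain ⟨d, hd, hdc⟩ := h2
    exact ⟨d, ih hd, hdc⟩

theorem Reach.symm' {n : ℕ} {a b : I} (h : Reach T n a b) : Reach T n b a := by
  induction n generalizing b with
  | zero => exact Eq.symm h
  | succ n ih =>
    obtain ⟨d, hd, hdb⟩ := h
    exact Reach.cons hdb.symm' (ih hd)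

theorem Reach.trans' {m n : ℕ} {a b c : I} (h1 : Reach T m a b) (h2 : Reach T n b c) :
    Reach T (m + n) a c := by
  induction n generalizing c with
  | zero =>
    cases h2
    exact h1
  | succ n ih =>
    obtain ⟨d, hd, hdc⟩ := h2
    exact ⟨d, ih hd, hdc⟩

/-- the chain lemma -/
theorem le_of_reach (Y : I → Subgroup G) (h1 : ∀ a, Y a ≤ T a)
    (h2 : ∀ a, normalizer (T a : Set G) ≤ normalizer (Y a : Set G))
    (h3 : ∀ a b, Y a ≤ normalizer (Y b : Set G) → Y b ≤ normalizer (Y a : Set G) →
      Y a ≤ centralizer (Y b : Set G))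
    (h4 : ∀ a b, Y a ≤ normalizer (T b : Set G) → Y a ≤ centralizer (Y b : Set G) → Y a ≤ T b)
    {n : ℕ} {a b : I} (h : Reach T n a b) : Y a ≤ T b := by
  induction n generalizing a b with
  | zero =>
    cases h
    exact h1 a
  | succ n ih =>
    obtain ⟨d, hd, hdb⟩ := id h
    have h5 : Y a ≤ normalizer (T b : Set G) := (ih hd).trans hdb.1
    obtain ⟨e, he, hea⟩ := Reach.symm' h
    have h7 : Y b ≤ normalizer (T a : Set G) := (ih he).trans hea.1
    exact h4 a b h5 (h3 a b (h5.trans (h2 b)) (h7.trans (h2 a)))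

end chain

variable {p : ℕ} [Fact p.Prime] {G : Type u} [Group G] [Finite G]

/-- `O_p(M)` is a Sylow subgroup of `C(Y_M)` -/
theorem le_of_le_centralizer {M : Subgroup G} (S : Sylow p G) (hSM : (S : Subgroup G) ≤ M)
    (hc : IsPClosed p ↥(M ⊓ centralizer ((largestPReducedOf p M : Subgroup G) : Set G)))
    {X : Subgroup G} (hXp : IsPGroup p X) (hXT : X ≤ normalizer ((pCoreOf p M : Subgroup G) : Set G))
    (hXC : X ≤ centralizer ((largestPReducedOf p M : Subgroup G) : Set G)) : X ≤ pCoreOf p M := by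
  set C : Subgroup G := centralizer ((largestPReducedOf p M : Subgroup G) : Set G) with hC
  have he := pCoreOf_eq_inf_centralizer S hSM hc
  have hSC : (S : Subgroup G) ≤ normalizer (C : Set G) :=
    hSM.trans (le_normalizer_centralizer_largestPReducedOf M)
  obtain ⟨S₀, hS₀⟩ := exists_sylow_inf S hSC
  rw [← he] at hS₀
  have hTC : pCoreOf p M ≤ C := pCoreOf_le_centralizer M
  set R : Subgroup G := pCoreOf p M ⊔ X with hR
  have hRp : IsPGroup p R := IsPGroup.to_sup_of_normal_left' (isPGroup_pCoreOf M) hXp hXT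
  have hRC : R ≤ C := sup_le hTC hXC
  have h1 : (S₀ : Subgroup C) ≤ R.subgroupOf C := by
    intro x hx
    rw [Subgroup.mem_subgroupOf]
    have : (x : G) ∈ (S₀ : Subgroup C).map C.subtype := Subgroup.mem_map_of_mem _ hx
    rw [hS₀] at this
    exact Subgroup.mem_sup_left this
  have h2 : R.subgroupOf C = S₀ :=
    S₀.is_maximal' (hRp.comap_of_injective C.subtype C.subtype_injective) h1
  intro x hx
  have h3 : (⟨x, hXC hx⟩ : C) ∈ R.subgroupOf C := by
    rw [Subgroup.mem_subgroupOf]
    exact Subgroup.mem_sup_right hx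
  rw [h2] at h3
  rw [← hS₀]
  exact Subgroup.mem_map_of_mem _ h3

/-- `𝓛` is invariant under conjugation -/
theorem map_conj_mem_charP {X : Subgroup G} (g : G) (hX : X ∈ charPSubgroups p G) :
    X.map (MulAut.conj g).toMonoidHom ∈ charPSubgroups p G := by
  obtain ⟨h1, h2⟩ := hX
  constructor
  · intro hb
    apply h1
    have h3 : pCoreOf p (X.map (MulAut.conj g).toMonoidHom) = ⊥ := by
      rw [pCoreOf_eq_map, hb, Subgroup.map_bot]
    rw [← pCoreOf_conj] at h3
    have h4 : pCoreOf p X = ⊥ := by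
      have := congrArg (Subgroup.map (MulAut.conj g⁻¹).toMonoidHom) h3
      rwa [map_conj_inv_map_conj, Subgroup.map_bot] at this
    apply Subgroup.map_injective X.subtype_injective
    rw [Subgroup.map_bot]
    exact h4
  · change centralizer ((pCoreOf p (X.map (MulAut.conj g).toMonoidHom) : Subgroup G) : Set G) ≤
      pCoreOf p (X.map (MulAut.conj g).toMonoidHom)
    rw [← pCoreOf_conj, centralizer_map_conj]
    exact map_conj_mono g h2

/-- `𝓜` is invariant under conjugation -/
theorem map_conj_mem_maxCharP {X : Subgroup G} (g : G) (hX : X ∈ maxCharPSubgroups p G) :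
    X.map (MulAut.conj g).toMonoidHom ∈ maxCharPSubgroups p G := by
  refine ⟨map_conj_mem_charP g hX.1, fun L hL hXL => ?_⟩
  have h1 := hX.2 (L.map (MulAut.conj g⁻¹).toMonoidHom) (map_conj_mem_charP g⁻¹ hL)
    ((le_map_conj_iff g⁻¹).mpr (by rwa [inv_inv]))
  rw [← h1, map_conj_map_conj_inv]

section main

variable (S : Sylow p G) {Q : Subgroup G} (hQp : IsPGroup p Q) (hQ1 : Q ≠ ⊥) (hQ : IsLarge Q)
  {M : Subgroup G} (hSM : (S : Subgroup G) ≤ M) (hM : IsInFrakM p M)
  (hasym : ¬ IsSymmetricIn (largestPReducedOf p M))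

include hQp hQ1 hQ hSM hM hasym

/-- the main statement: two conjugates of `O_p(M)` normalizing each other coincide -/
theorem conj_eq_of_comm (g : G)
    (h : ⁅pCoreOf p M, (pCoreOf p M).map (MulAut.conj g).toMonoidHom⁆ ≤
      pCoreOf p M ⊓ (pCoreOf p M).map (MulAut.conj g).toMonoidHom) :
    (pCoreOf p M).map (MulAut.conj g).toMonoidHom = pCoreOf p M := by
  classical
  set Y : Subgroup G := largestPReducedOf p M with hY
  set T : Subgroup G := pCoreOf p M with hT
  set D : Subgroup G := M ⊔ centralizer (Y : Set G) with hD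
  let Tc : G → Subgroup G := fun a => T.map (MulAut.conj a).toMonoidHom
  let Yc : G → Subgroup G := fun a => Y.map (MulAut.conj a).toMonoidHom
  have hYT : Y ≤ T := largestPReducedOf_le_pCoreOf M
  have hTC : T ≤ centralizer (Y : Set G) := pCoreOf_le_centralizer M
  have hT1 : T ≠ ⊥ := Large2.pCoreOf_ne_bot hM.1.1
  have hTp : IsPGroup p T := isPGroup_pCoreOf M
  have hNT : normalizer (T : Set G) ≤ D :=
    FrakM.normalizer_le_dagger hQp hQ1 hQ S hSM hM (le_normalizer_pCoreOf M) hTp hT1
  have hDY : D ≤ normalizer (Y : Set G) :=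
    sup_le (le_normalizer_largestPReducedOf M) (Subgroup.centralizer_le_normalizer _)
  have hYp : IsPGroup p Y := isPGroup_largestPReducedOf M
  have h1 : ∀ a, Yc a ≤ Tc a := fun a => map_conj_mono a hYT
  have h2 : ∀ a, normalizer (Tc a : Set G) ≤ normalizer (Yc a : Set G) := by
    intro a
    simp only [Tc, Yc]
    rw [normalizer_map_conj, normalizer_map_conj]
    exact map_conj_mono a (hNT.trans hDY)
  have h3 : ∀ a b, Yc a ≤ normalizer (Yc b : Set G) → Yc b ≤ normalizer (Yc a : Set G) →
      Yc a ≤ centralizer (Yc b : Set G) := by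
    intro a b hab hba
    have hc := commutator_le_inf_of_normalizes hba hab
    have h5 := map_conj_mono a⁻¹ hc
    simp only [Yc] at h5
    rw [map_conj_commutator, Subgroup.map_inf _ _ _ (MulAut.conj a⁻¹).injective,
      map_conj_inv_map_conj, ← map_conj_mul] at h5
    have h6 : ⁅Y, Y.map (MulAut.conj (a⁻¹ * b)).toMonoidHom⁆ = ⊥ := by
      by_contra hne
      exact hasym ⟨a⁻¹ * b, hne, h5⟩
    have h7 := congrArg (Subgroup.map (MulAut.conj a).toMonoidHom) h6
    rw [map_conj_commutator, ← map_conj_mul, mul_inv_cancel_left, Subgroup.map_bot] at h7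
    exact commutator_eq_bot_iff_le_centralizer'.mp h7
  have h4 : ∀ a b, Yc a ≤ normalizer (Tc b : Set G) → Yc a ≤ centralizer (Yc b : Set G) →
      Yc a ≤ Tc b := by
    intro a b h5 h6
    simp only [Yc, Tc] at h5 h6 ⊢
    rw [normalizer_map_conj, le_map_conj_iff] at h5
    rw [centralizer_map_conj, le_map_conj_iff] at h6
    rw [le_map_conj_iff]
    exact le_of_le_centralizer S hSM hM.2.2.2.2.1
      (isPGroup_map_conj _ (isPGroup_map_conj _ hYp)) h5 h6
  have hchain : ∀ {n : ℕ} {a b : G}, Reach Tc n a b → Yc a ≤ Tc b := fun hr =>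
    le_of_reach Yc h1 h2 h3 h4 hr
  -- translation of chains
  have hadjx : ∀ x a b, Adj Tc a b → Adj Tc (x * a) (x * b) := by
    intro x a b hab
    simp only [Adj, Tc] at hab ⊢
    rw [map_conj_mul, map_conj_mul, normalizer_map_conj x, normalizer_map_conj x]
    exact ⟨map_conj_mono x hab.1, map_conj_mono x hab.2⟩
  have hreachx : ∀ x {n : ℕ} {a b : G}, Reach Tc n a b → Reach Tc n (x * a) (x * b) := by
    intro x n
    induction n with
    | zero =>
      intro a b hab
      cases hab
      rfl
    | succ n ih =>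
      intro a b hab
      obtain ⟨d, hd, hdb⟩ := hab
      exact ⟨x * d, ih hd, hadjx x d b hdb⟩
  have hadjself : ∀ a b, Tc a = Tc b → Adj Tc a b := by
    intro a b hab
    rw [Adj, hab]
    exact ⟨Subgroup.le_normalizer, Subgroup.le_normalizer⟩
  -- the component of `1`
  let Comp : Set G := {b | ∃ n, Reach Tc n 1 b}
  set R : Subgroup G := ⨆ b : Comp, Yc b with hR
  have hYcR : ∀ b : Comp, Yc b ≤ R := fun b => le_iSup (fun b : Comp => Yc b) b
  have hRT : R ≤ T := by
    apply iSup_le
    rintro ⟨b, n, hb⟩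
    have := hchain (Reach.symm' hb)
    have e : Tc 1 = T := map_conj_one T
    rwa [e] at this
  have hcomp : ∀ b₀ ∈ Comp, normalizer (Tc b₀ : Set G) ≤ normalizer (R : Set G) := by
    rintro b₀ ⟨m, hb₀⟩ x hx
    apply mem_normalizer_of_conj_mem
    have hRR : R ≤ R.comap (MulAut.conj x).toMonoidHom := by
      apply iSup_le
      rintro ⟨b, n, hb⟩ y hy
      rw [Subgroup.mem_comap]
      have hxb : x * b ∈ Comp := by
        have h5 : Reach Tc (m + 1) 1 (x * b₀) := by
          refine ⟨b₀, hb₀, hadjself _ _ ?_⟩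
          simp only [Tc]
          rw [map_conj_mul]
          exact (mem_normalizer_iff_map.mp hx).symm
        have h6 : Reach Tc (m + n) (x * b₀) (x * b) :=
          hreachx x (Reach.trans' (Reach.symm' hb₀) hb)
        exact ⟨_, Reach.trans' h5 h6⟩
      apply hYcR ⟨x * b, hxb⟩
      show (MulAut.conj x).toMonoidHom y ∈ Y.map (MulAut.conj (x * b)).toMonoidHom
      rw [map_conj_mul]
      exact Subgroup.mem_map_of_mem _ hy
    exact fun y hy => hRR hy
  have h1Comp : (1 : G) ∈ Comp := ⟨0, rfl⟩
  have hgComp : g ∈ Comp := by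
    refine ⟨1, 1, rfl, ?_⟩
    have h5 := normalizes_of_commutator_le_inf h
    have e : Tc 1 = T := map_conj_one T
    rw [Adj, e]
    exact ⟨h5.2, h5.1⟩
  have hTR : normalizer (T : Set G) ≤ normalizer (R : Set G) := by
    have := hcomp 1 h1Comp
    have e : Tc 1 = T := map_conj_one T
    rwa [e] at this
  have hYbot : Y ≠ ⊥ := by
    have hS1 : (S : Subgroup G) ≠ ⊥ := by
      intro hb
      apply hT1
      have := pCoreOf_le_sylow S hSM
      rw [hb] at this
      exact le_bot_iff.mp this
    have hZ := center_ne_bot S.isPGroup' hS1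
    have hZp : IsPGroup p ((S : Subgroup G) ⊓ centralizer ((S : Subgroup G) : Set G) : Subgroup G) :=
      S.isPGroup'.to_le inf_le_left
    have hd : p ∣ Nat.card ((S : Subgroup G) ⊓ centralizer ((S : Subgroup G) : Set G) : Subgroup G) := by
      rcases hZp.card_eq_or_dvd with h5 | h5
      · exact absurd (Subgroup.card_eq_one.mp h5) hZ
      · exact h5
    obtain ⟨z, hz⟩ := exists_prime_orderOf_dvd_card' p hd
    have hz' : orderOf (z : G) = p := by rw [Subgroup.orderOf_coe]; exact hz
    have hchar : centralizer (pCore p M : Set M) ≤ pCore p M := by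
      intro x hx
      obtain ⟨y, hy, hyx⟩ := hM.1.2 (Large2.mem_centralizer_pCore_iff.mp hx)
      have : y = x := Subtype.ext hyx
      exact this ▸ hy
    have hzY : (z : G) ∈ Y := by
      apply (omega_center_le_sylowCenterClosure S hSM).trans (sylowCenterClosure_le hchar)
      apply Subgroup.subset_closure
      exact ⟨z.2, orderOf_dvd_iff_pow_eq_one.mp (dvd_of_eq hz')⟩
    intro hb
    rw [hb, Subgroup.mem_bot] at hzY
    rw [hzY, orderOf_one] at hz'
    exact (Fact.out : p.Prime).one_lt.ne hz'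
  have hRbot : R ≠ ⊥ := by
    intro hb
    apply hYbot
    have := hYcR ⟨1, h1Comp⟩
    rw [hb] at this
    have e : Yc 1 = Y := map_conj_one Y
    rw [show Yc ((⟨1, h1Comp⟩ : Comp) : G) = Y from e] at this
    exact le_bot_iff.mp this
  have hRp : IsPGroup p R := hTp.to_le hRT
  have hRD : normalizer (R : Set G) ≤ D :=
    FrakM.normalizer_le_dagger hQp hQ1 hQ S hSM hM ((le_normalizer_pCoreOf M).trans hTR) hRp hRbot
  -- `M^g ≤ D`
  have hMg : M.map (MulAut.conj g).toMonoidHom ≤ D := by
    refine le_trans ?_ ((hcomp g hgComp).trans hRD)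
    simp only [Tc]
    rw [normalizer_map_conj]
    exact map_conj_mono g (le_normalizer_pCoreOf M)
  have hDg : D.map (MulAut.conj g⁻¹).toMonoidHom = D := by
    apply hM.2.2.1 _ (map_conj_mem_maxCharP g⁻¹ hM.2.1)
    rw [le_map_conj_iff, inv_inv]
    exact hMg
  have hDg' : D.map (MulAut.conj g).toMonoidHom = D := by
    conv_lhs => rw [← hDg]
    rw [map_conj_map_conj_inv]
  have hYg : Y.map (MulAut.conj g).toMonoidHom = Y := by
    have h5 : Y = largestPReducedOf p D := hM.2.2.2.1
    rw [h5]
    have h6 := Cfsg.Agent.Lib.LocalStruct.PRedSub.map_largestPReducedOf (p := p)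
      (MulAut.conj g).toMonoidHom (MulAut.conj g).injective D
    rw [h6, hDg']
  -- conclude
  have hTgC : T.map (MulAut.conj g).toMonoidHom ≤ centralizer (Y : Set G) := by
    have := map_conj_mono g hTC
    rwa [← centralizer_map_conj, hYg] at this
  have h5 := normalizes_of_commutator_le_inf h
  have h6 : T.map (MulAut.conj g).toMonoidHom ≤ T :=
    le_of_le_centralizer S hSM hM.2.2.2.2.1 (isPGroup_map_conj g hTp) h5.1 hTgC
  exact Subgroup.eq_of_le_of_card_ge h6 (by rw [card_map_conj])

end main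

end Cfsg.Agent.Lib.LocalStruct.Asym
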