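/-
A weakly closed self-centralizing `p`-subgroup acting on the centralizer of a `p`-subgroup.
-/
import Cfsg.Agent.Lib.LocalStruct.WeakClosed
import Cfsg.Agent.Lib.LocalStruct.PCoreOf
import Cfsg.Agent.Lib.LocalEven.CharP
import Cfsg.Agent.Lib.Coprime.Generation2

set_option autoImplicit false

namespace Cfsg.Agent.Lib.LocalStruct.WCCharP

open Subgroup Cfsg Cfsg.Agent.Lib.LocalStruct.Basic Cfsg.Agent.Lib.LocalStruct.Comm
  Cfsg.Agent.Lib.LocalStruct.WeakClosed Cfsg.Agent.Lib.LocalStruct.PCoreOf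
  Cfsg.Agent.Lib.LocalEven.CharP
open scoped commutatorElement

universe u

variable {p : ℕ} [Fact p.Prime] {H : Type u} [Group H] [Finite H]

/-- a `p'`-element `d` with `[d,x]` in a `p`-group centralized by `d` commutes with `x` -/
theorem comm_eq_one {W : Subgroup H} (hW : IsPGroup p W) {d x : H}
    (hd : (orderOf d).Coprime p) (hdW : d ∈ centralizer (W : Set H)) (h : ⁅d, x⁆ ∈ W) :
    ⁅d, x⁆ = 1 := by
  rw [commutatorElement_def] at h ⊢
  apply commutator_eq_one_of_commute (p := p)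
  · exact ((Subgroup.mem_centralizer_iff.mp hdW) _ h).symm
  · obtain ⟨k, hk⟩ := hW ⟨_, h⟩
    exact ⟨k, by simpa using congrArg Subtype.val hk⟩
  · exact hd

theorem mem_centralizer_of_comm {W : Subgroup H} {d : H}
    (h : ∀ x ∈ W, ⁅d, x⁆ = 1) : d ∈ centralizer (W : Set H) := by
  rw [Subgroup.mem_centralizer_iff]
  intro x hx
  exact (commutatorElement_eq_one_iff_mul_comm.mp (h x hx)).symm

/-- the main computation -/
theorem main {Q C₁ E R : Subgroup H} (hQp : IsPGroup p Q) (hu : UniqueConj p Q)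
    (hCQ : centralizer (Q : Set H) ≤ Q) (hQC : Q ≤ normalizer (C₁ : Set H))
    (hQE : Q ≤ normalizer (E : Set H)) (hC₁E : C₁ ≤ centralizer (E : Set H))
    (hE : IsPGroup p E) (hPE : Q ⊓ pCoreOf p C₁ ≤ E)
    (hR : IsPGroup p R) (hQR : Q ≤ normalizer (R : Set H)) (hC₁R : C₁ ≤ normalizer (R : Set H))
    (hchar : ∀ x ∈ C₁, x ∈ centralizer (R : Set H) → x ∈ R) :
    ⁅C₁, Q⁆ ≤ Q ⊓ E ∧ IsPGroup p C₁ := by
  classical
  set P := pCoreOf p C₁ with hPdef
  have hPp : IsPGroup p P := isPGroup_pCoreOf C₁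
  have hPC : P ≤ C₁ := pCoreOf_le C₁
  have hC₁P : C₁ ≤ normalizer (P : Set H) := le_normalizer_pCoreOf C₁
  have hQP : Q ≤ normalizer (P : Set H) := by
    intro q hq
    rw [mem_normalizer_iff_map, hPdef, pCoreOf_conj, mem_normalizer_iff_map.mp (hQC hq)]
  have hC₁E' : C₁ ≤ normalizer (E : Set H) := hC₁E.trans (centralizer_le_normalizer _)
  have hPE' : P ≤ normalizer (E : Set H) := hPC.trans hC₁E'
  -- `[Q,P] ≤ Q ∩ P ≤ E`
  have hPsup : IsPGroup p (P ⊔ Q : Subgroup H) := IsPGroup.to_sup_of_normal_left' hPp hQp hQP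
  have hPQ : P ≤ normalizer (Q : Set H) :=
    le_sup_left.trans (hu.le_normalizer_of_le hPsup le_sup_right)
  have hQPc : ⁅Q, P⁆ ≤ E := (commutator_le_inf_of_normalizes hPQ hQP).trans hPE
  set D := ⁅C₁, Q⁆ with hDdef
  have hDC : D ≤ C₁ := commutator_le_left_of_le_normalizer hQC
  have hC₁D : C₁ ≤ normalizer (D : Set H) := le_normalizer_commutator_left _ _
  have hQD : Q ≤ normalizer (D : Set H) := le_normalizer_commutator_right _ _
  -- `[D,P] ≤ E`
  have hDP : ⁅D, P⁆ ≤ E := by
    apply Cfsg.Agent.Lib.Coprime.Generation2.three_subgroups_rel C₁ Q P E _ _ hC₁E' hQE hPE'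
    · rw [Subgroup.commutator_le]
      intro x hx c hc
      have hxE := hQPc hx
      rw [commutatorElement_eq_one_iff_mul_comm.mpr
        ((Subgroup.mem_centralizer_iff.mp (hC₁E hc)) x hxE)]
      exact E.one_mem
    · refine le_trans (Subgroup.commutator_mono (commutator_le_left_of_le_normalizer hC₁P) le_rfl) ?_
      rw [Subgroup.commutator_comm]
      exact hQPc
  -- coprime elements of `D` centralize `P`
  have hdP : ∀ d ∈ D, (orderOf d).Coprime p → d ∈ centralizer (P : Set H) := by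
    intro d hd hdc
    apply mem_centralizer_of_comm
    intro x hx
    exact comm_eq_one hE hdc (hC₁E (hDC hd)) (hDP (Subgroup.commutator_mem_commutator hd hx))
  -- `A = Q ∩ R`
  set A := Q ⊓ R with hAdef
  have hAp : IsPGroup p A := hR.to_le inf_le_right
  have hC₁RP : C₁ ⊓ R ≤ P := by
    apply le_pCoreOf inf_le_left _ (hR.to_le inf_le_right)
    intro c hc
    apply mem_normalizer_of_conj_mem
    rintro x ⟨hx1, hx2⟩
    exact ⟨C₁.mul_mem (C₁.mul_mem hc hx1) (inv_mem hc), conj_mem_of_mem_normalizer (hC₁R hc) hx2⟩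
  have hAC : ∀ c ∈ C₁, ∀ x ∈ A, ⁅c, x⁆ ∈ P := by
    intro c hc x hx
    apply hC₁RP
    constructor
    · rw [commutatorElement_def]
      have : c * x * c⁻¹ * x⁻¹ = c * (x * c⁻¹ * x⁻¹) := by group
      rw [this]
      exact C₁.mul_mem hc (conj_mem_of_mem_normalizer (hQC hx.1) (inv_mem hc))
    · rw [commutatorElement_def]
      exact R.mul_mem (conj_mem_of_mem_normalizer (hC₁R hc) hx.2) (inv_mem hx.2)
  have hdA : ∀ d ∈ D, (orderOf d).Coprime p → d ∈ centralizer (A : Set H) := by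
    intro d hd hdc
    apply mem_centralizer_of_comm
    intro x hx
    exact comm_eq_one hPp hdc (hdP d hd hdc) (hAC d (hDC hd) x hx)
  -- `D₀`
  set D₀ := closure {d : H | d ∈ D ∧ (orderOf d).Coprime p} with hD₀def
  have hD₀D : D₀ ≤ D := by
    rw [hD₀def, closure_le]
    exact fun x hx => hx.1
  have hdD₀ : ∀ d ∈ D, (orderOf d).Coprime p → d ∈ D₀ := fun d hd hdc =>
    Subgroup.subset_closure ⟨hd, hdc⟩
  have hD₀P : D₀ ≤ centralizer (P : Set H) := by
    rw [hD₀def, closure_le]
    exact fun x hx => hdP x hx.1 hx.2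
  have hD₀A : D₀ ≤ centralizer (A : Set H) := by
    rw [hD₀def, closure_le]
    exact fun x hx => hdA x hx.1 hx.2
  have hnormD₀ : ∀ g, g ∈ normalizer (D : Set H) → g ∈ normalizer (D₀ : Set H) := by
    intro g hg
    apply mem_normalizer_of_conj_mem
    have : D₀ ≤ D₀.comap (MulAut.conj g).toMonoidHom := by
      rw [hD₀def, closure_le]
      rintro x ⟨hx1, hx2⟩
      apply Subgroup.subset_closure
      refine ⟨conj_mem_of_mem_normalizer hg hx1, ?_⟩
      show (orderOf (g * x * g⁻¹)).Coprime p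
      have : orderOf (g * x * g⁻¹) = orderOf x := by
        rw [← MulAut.conj_apply]
        exact MulEquiv.orderOf_eq (MulAut.conj g) x
      rwa [this]
    intro x hx
    exact this hx
  have hQD₀ : Q ≤ normalizer (D₀ : Set H) := fun q hq => hnormD₀ q (hQD hq)
  have hC₁D₀ : C₁ ≤ normalizer (D₀ : Set H) := fun q hq => hnormD₀ q (hC₁D hq)
  set D₁ := ⁅D₀, Q⁆ with hD₁def
  have hD₁D₀ : D₁ ≤ D₀ := commutator_le_left_of_le_normalizer hQD₀
  have hD₀C₁ : D₀ ≤ C₁ := hD₀D.trans hDC
  -- `[R, Q] ≤ A`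
  have hRsup : IsPGroup p (R ⊔ Q : Subgroup H) := IsPGroup.to_sup_of_normal_left' hR hQp hQR
  have hRQ : R ≤ normalizer (Q : Set H) :=
    le_sup_left.trans (hu.le_normalizer_of_le hRsup le_sup_right)
  have hQRc : ⁅Q, R⁆ ≤ A := commutator_le_inf_of_normalizes hRQ hQR
  have hQA : Q ≤ normalizer (A : Set H) := by
    intro q hq
    rw [mem_normalizer_iff_map, hAdef, Subgroup.map_inf _ _ _ (MulAut.conj q).injective,
      mem_normalizer_iff_map.mp (Subgroup.le_normalizer hq), mem_normalizer_iff_map.mp (hQR hq)]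
  have hRA : R ≤ normalizer (A : Set H) := by
    intro q hq
    rw [mem_normalizer_iff_map, hAdef, Subgroup.map_inf _ _ _ (MulAut.conj q).injective,
      mem_normalizer_iff_map.mp (Subgroup.le_normalizer hq), mem_normalizer_iff_map.mp (hRQ hq)]
  have hD₁R : ⁅D₁, R⁆ ≤ A := by
    apply Cfsg.Agent.Lib.Coprime.Generation2.three_subgroups_rel D₀ Q R A _ _
      (hD₀A.trans (centralizer_le_normalizer _)) hQA hRA
    · rw [Subgroup.commutator_le]
      intro x hx c hc
      have hxA := hQRc hx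
      rw [commutatorElement_eq_one_iff_mul_comm.mpr
        ((Subgroup.mem_centralizer_iff.mp (hD₀A hc)) x hxA)]
      exact A.one_mem
    · refine le_trans (Subgroup.commutator_mono
        (commutator_le_left_of_le_normalizer (hD₀C₁.trans hC₁R)) le_rfl) ?_
      rw [Subgroup.commutator_comm]
      exact hQRc
  -- `D₁` is a `p`-group
  have hD₁p : IsPGroup p D₁ := by
    apply isPGroup_of_forall_coprime
    intro d hd hdc
    have hd0 := hD₁D₀ hd
    have hcR : d ∈ centralizer (R : Set H) := by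
      apply mem_centralizer_of_comm
      intro x hx
      exact comm_eq_one hAp hdc (hD₀A hd0) (hD₁R (Subgroup.commutator_mem_commutator hd hx))
    exact eq_one_of_mem_of_isPGroup_of_coprime hR (hchar d (hD₀C₁ hd0) hcR) hdc
  have hD₁P : D₁ ≤ P := by
    have h1 : D₁ ≤ pCoreOf p D₀ := by
      apply le_pCoreOf hD₁D₀ _ hD₁p
      exact le_normalizer_commutator_left _ _
    refine h1.trans (le_pCoreOf ((pCoreOf_le D₀).trans hD₀C₁) ?_ (isPGroup_pCoreOf D₀))
    intro c hc
    rw [mem_normalizer_iff_map, pCoreOf_conj, mem_normalizer_iff_map.mp (hC₁D₀ hc)]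
  -- coprime elements of `D` are trivial
  have hdQ : ∀ d ∈ D, (orderOf d).Coprime p → d = 1 := by
    intro d hd hdc
    have hd0 := hdD₀ d hd hdc
    have hcQ : d ∈ centralizer (Q : Set H) := by
      apply mem_centralizer_of_comm
      intro x hx
      exact comm_eq_one hPp hdc (hD₀P hd0) (hD₁P (Subgroup.commutator_mem_commutator hd0 hx))
    exact eq_one_of_mem_of_isPGroup_of_coprime hQp (hCQ hcQ) hdc
  have hDp : IsPGroup p D := isPGroup_of_forall_coprime D hdQ
  have hDP' : D ≤ P := le_pCoreOf hDC hC₁D hDp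
  -- `C₁` normalizes `Q`
  have hC₁Q : C₁ ≤ normalizer (Q : Set H) := by
    intro c hc
    rw [mem_normalizer_iff_map]
    have hsup : IsPGroup p (D ⊔ Q : Subgroup H) := IsPGroup.to_sup_of_normal_left' hDp hQp hQD
    apply hu.eq_of_le hsup le_sup_right
    rintro _ ⟨q, hq, rfl⟩
    have e : (MulAut.conj c).toMonoidHom q = ⁅c, q⁆ * q := by
      simp [commutatorElement_def, MulAut.conj_apply]
    rw [e]
    exact Subgroup.mul_mem _ (Subgroup.mem_sup_left (Subgroup.commutator_mem_commutator hc hq))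
      (Subgroup.mem_sup_right hq)
  have hDQ : D ≤ Q := commutator_le_right_of_le_normalizer hC₁Q
  have hDE : D ≤ E := (le_inf hDQ hDP').trans hPE
  refine ⟨le_inf hDQ hDE, ?_⟩
  apply isPGroup_of_forall_coprime
  intro x hx hxc
  have hcQ : x ∈ centralizer (Q : Set H) := by
    apply mem_centralizer_of_comm
    intro q hq
    exact comm_eq_one hE hxc (hC₁E hx) (hDE (Subgroup.commutator_mem_commutator hx hq))
  exact eq_one_of_mem_of_isPGroup_of_coprime hQp (hCQ hcQ) hxc

end Cfsg.Agent.Lib.LocalStruct.WCCharP
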