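/-
Characteristic `p` for subgroups, in the ambient group.
-/
import Cfsg.Agent.Lib.LocalStruct.WCCharP
import Cfsg.Agent.Lib.LocalStruct.Large2

set_option autoImplicit false

namespace Cfsg.Agent.Lib.LocalStruct.CharPOf

open Subgroup Cfsg Cfsg.Agent.Lib.LocalStruct.Basic Cfsg.Agent.Lib.LocalStruct.Comm
  Cfsg.Agent.Lib.LocalStruct.WeakClosed Cfsg.Agent.Lib.LocalStruct.PCoreOf
  Cfsg.Agent.Lib.LocalStruct.Large2

universe u

variable {p : ℕ} {G : Type u} [Group G]

/-- characteristic `p` in the ambient form -/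
theorem charP_iff {L : Subgroup G} :
    centralizer (pCore p L : Set L) ≤ pCore p L ↔
      L ⊓ centralizer ((pCoreOf p L : Subgroup G) : Set G) ≤ pCoreOf p L := by
  constructor
  · rintro h x ⟨hx1, hx2⟩
    have : (⟨x, hx1⟩ : L) ∈ centralizer (pCore p L : Set L) :=
      mem_centralizer_pCore_iff.mpr hx2
    exact ⟨_, h this, rfl⟩
  · intro h x hx
    obtain ⟨y, hy, hyx⟩ := h ⟨x.2, mem_centralizer_pCore_iff.mp hx⟩
    have : y = x := Subtype.ext hyx
    exact this ▸ hy

variable [Finite G]

/-- characteristic `p` passes to conjugates -/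
theorem charP_map_conj {L : Subgroup G} (g : G)
    (h : centralizer (pCore p L : Set L) ≤ pCore p L) :
    centralizer (pCore p (L.map (MulAut.conj g).toMonoidHom) :
      Set (L.map (MulAut.conj g).toMonoidHom)) ≤ pCore p (L.map (MulAut.conj g).toMonoidHom) := by
  rw [charP_iff] at h ⊢
  rw [← pCoreOf_conj, centralizer_map_conj,
    ← Subgroup.map_inf _ _ _ (MulAut.conj g).injective]
  exact map_conj_mono g h

variable [Fact p.Prime]

/-- subgroups of a group `L` of characteristic `p` containing a weakly closed self-centralizing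
`p`-subgroup have characteristic `p` -/
theorem charP_of_le {T H L : Subgroup G} (hTp : IsPGroup p T) (hu : UniqueConj p T)
    (hCT : centralizer (T : Set G) ≤ T) (hTH : T ≤ H) (hHL : H ≤ L)
    (hL : centralizer (pCore p L : Set L) ≤ pCore p L) :
    centralizer (pCore p H : Set H) ≤ pCore p H := by
  rw [charP_iff] at hL ⊢
  set E : Subgroup G := pCoreOf p H with hE
  have hHE : H ≤ normalizer (E : Set G) := le_normalizer_pCoreOf H
  set C₁ : Subgroup G := H ⊓ centralizer (E : Set G) with hC₁
  have hHC₁ : H ≤ normalizer (C₁ : Set G) := by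
    intro h hh
    rw [mem_normalizer_iff_map, hC₁, Subgroup.map_inf _ _ _ (MulAut.conj h).injective,
      mem_normalizer_iff_map.mp (Subgroup.le_normalizer hh),
      mem_normalizer_iff_map.mp (le_normalizer_centralizer hHE hh)]
  have hHP : H ≤ normalizer ((pCoreOf p C₁ : Subgroup G) : Set G) := le_normalizer_pCoreOf_of hHC₁
  have hPE : T ⊓ pCoreOf p C₁ ≤ E := by
    refine (inf_le_inf_right _ hTH).trans ?_
    refine le_pCoreOf inf_le_left ?_ ((isPGroup_pCoreOf C₁).to_le inf_le_right)
    intro h hh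
    rw [mem_normalizer_iff_map, Subgroup.map_inf _ _ _ (MulAut.conj h).injective,
      mem_normalizer_iff_map.mp (Subgroup.le_normalizer hh), mem_normalizer_iff_map.mp (hHP hh)]
  have hmain := WCCharP.main hTp hu hCT (hTH.trans hHC₁) (hTH.trans hHE) inf_le_right
    (isPGroup_pCoreOf H) hPE (isPGroup_pCoreOf L)
    ((hTH.trans hHL).trans (le_normalizer_pCoreOf L))
    ((inf_le_left.trans hHL).trans (le_normalizer_pCoreOf L))
    (fun x hx hxc => hL ⟨hHL hx.1, hxc⟩)
  exact le_pCoreOf inf_le_left hHC₁ hmain.2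

end Cfsg.Agent.Lib.LocalStruct.CharPOf
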