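/-
Elementary structure of the members of `ℌ_G(O_p(M))`, in abstract form:
`T` a `p`-subgroup, `Y ≤ T` central in `T`, `H ≥ T` with `Y ≰ O_p(H)` and `Y ≤ O_p(P)`
for all proper subgroups `P` of `H` containing `T`.
-/
import Cfsg.Agent.Lib.LocalStruct.CharPOf

set_option autoImplicit false

namespace Cfsg.Agent.Lib.LocalStruct.FrakH

open Subgroup Cfsg Cfsg.Agent.Lib.Core.Basic Cfsg.Agent.Lib.Core.Residual
  Cfsg.Agent.Lib.LocalStruct.Basic Cfsg.Agent.Lib.LocalStruct.Comm
  Cfsg.Agent.Lib.LocalStruct.WeakClosed Cfsg.Agent.Lib.LocalStruct.PCoreOf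
  Cfsg.Agent.Lib.LocalStruct.PClosed Cfsg.Agent.Lib.LocalStruct.Minimal
open scoped commutatorElement

universe u

variable {G : Type u} [Group G] [Finite G] {p : ℕ} [Fact p.Prime]

/-- `O^p(H)` as a subgroup of the ambient group -/
abbrev resOf (p : ℕ) (H : Subgroup G) : Subgroup G := (pResidual p ↥H).map H.subtype

theorem resOf_le (H : Subgroup G) : resOf p H ≤ H := by
  rintro _ ⟨x, -, rfl⟩
  exact x.2

omit [Fact p.Prime] in
theorem normal_subgroupOf_iff {N H : Subgroup G} (hN : N ≤ H) :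
    (N.subgroupOf H).Normal ↔ H ≤ normalizer (N : Set G) :=
  Subgroup.normal_subgroupOf_iff_le_normalizer hN

omit [Finite G] [Fact p.Prime] in
theorem le_normalizer_map_subtype {H : Subgroup G} (N : Subgroup H) [N.Normal] :
    H ≤ normalizer ((N.map H.subtype : Subgroup G) : Set G) := by
  intro h hh
  rw [Subgroup.mem_normalizer_iff]
  intro x
  constructor
  · rintro ⟨y, hy, rfl⟩
    exact ⟨⟨h, hh⟩ * y * (⟨h, hh⟩ : H)⁻¹, ‹N.Normal›.conj_mem y hy _, by simp⟩
  · rintro ⟨y, hy, hyx⟩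
    refine ⟨(⟨h, hh⟩ : H)⁻¹ * y * (⟨h, hh⟩ : H)⁻¹⁻¹, ‹N.Normal›.conj_mem y hy _, ?_⟩
    have : x = h⁻¹ * (y : G) * h := by
      rw [show (y : G) = h * x * h⁻¹ from hyx]; group
    rw [this]
    simp

theorem le_normalizer_resOf (H : Subgroup G) : H ≤ normalizer (resOf p H : Set G) :=
  le_normalizer_map_subtype _

/-- if `N ⊴ H` and `N Q = H` for a `p`-subgroup `Q`, then `O^p(H) ≤ N`. -/
theorem resOf_le_of_sup {N H Q : Subgroup G} (hNH : N ≤ H) (hHN : H ≤ normalizer (N : Set G))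
    (hQ : IsPGroup p Q) (hQH : Q ≤ H) (h : N ⊔ Q = H) : resOf p H ≤ N := by
  have h1 : (N.subgroupOf H).Normal := (normal_subgroupOf_iff hNH).mpr hHN
  have h2 : IsPGroup p (Q.subgroupOf H) := hQ.comap_of_injective H.subtype H.subtype_injective
  have h3 : N.subgroupOf H ⊔ Q.subgroupOf H = ⊤ := by
    apply Subgroup.map_injective H.subtype_injective
    rw [Subgroup.map_sup, Subgroup.map_subgroupOf_eq_of_le hNH, Subgroup.map_subgroupOf_eq_of_le hQH, h,
      ← MonoidHom.range_eq_map, Subgroup.range_subtype]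
  have h4 := isPGroup_quotient_of_sup_eq_top (N.subgroupOf H) h2 h3
  have h5 := (isPGroup_quotient_iff (N.subgroupOf H)).mp h4
  have h6 := Subgroup.map_mono (f := H.subtype) h5
  rwa [Subgroup.map_subgroupOf_eq_of_le hNH] at h6

/-- a proper subgroup containing `O^p(H)` lies in a proper normal subgroup -/
theorem exists_normal_of_resOf_le {N H : Subgroup G} (hNH : N < H) (hK : resOf p H ≤ N) :
    ∃ N' : Subgroup G, N ≤ N' ∧ N' < H ∧ H ≤ normalizer (N' : Set G) := by
  have hle : N.subgroupOf H ≠ ⊤ := by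
    intro h
    rw [Subgroup.subgroupOf_eq_top] at h
    exact absurd (lt_of_lt_of_le hNH h) (lt_irrefl _)
  obtain ⟨A, hA, hNA⟩ := exists_coatom_ge hle
  have hKA : pResidual p H ≤ A := by
    intro x hx
    apply hNA
    rw [Subgroup.mem_subgroupOf]
    exact hK ⟨x, hx, rfl⟩
  have h1 : IsCoatom (A.map (QuotientGroup.mk' (pResidual p H))) := isCoatom_map_mk _ hA hKA
  have h2 : (A.map (QuotientGroup.mk' (pResidual p H))).Normal :=
    coatom_normal_of_isPGroup pResidual_quotient_isPGroup h1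
  have h3 : A.Normal := by
    have := h2.comap (QuotientGroup.mk' (pResidual p H))
    rwa [Subgroup.comap_map_eq_self] at this
    simpa using hKA
  refine ⟨A.map H.subtype, ?_, ?_, le_normalizer_map_subtype A⟩
  · have := Subgroup.map_mono (f := H.subtype) hNA
    rwa [Subgroup.map_subgroupOf_eq_of_le hNH.le] at this
  · apply lt_of_le_of_ne
    · rintro _ ⟨x, -, rfl⟩
      exact x.2
    · intro h
      apply hA.1
      rw [eq_top_iff]
      intro x _
      have hx : (x : G) ∈ A.map H.subtype := by rw [h]; exact x.2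
      obtain ⟨y, hy, hyx⟩ := hx
      have : y = x := Subtype.ext hyx
      exact this ▸ hy

/-- `O_p(N) ≤ O_p(H)` for `N ⊴ H`. -/
theorem pCoreOf_le_of_normal {N H : Subgroup G} (hNH : N ≤ H) (hHN : H ≤ normalizer (N : Set G)) :
    pCoreOf p N ≤ pCoreOf p H := by
  apply le_pCoreOf ((pCoreOf_le N).trans hNH)
  · intro h hh
    rw [mem_normalizer_iff_map, pCoreOf_conj, mem_normalizer_iff_map.mp (hHN hh)]
  · exact isPGroup_pCoreOf N

/-- `A` normalizes `Y P` when it normalizes `P` and `[A, Y] ≤ P`. -/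
theorem le_normalizer_sup_of_commutator_le {A Y P : Subgroup G}
    (hA : A ≤ normalizer (P : Set G)) (h : ⁅A, Y⁆ ≤ P) :
    A ≤ normalizer ((Y ⊔ P : Subgroup G) : Set G) := by
  intro a ha
  have h1 : (Y ⊔ P).map (MulAut.conj a).toMonoidHom ≤ Y ⊔ P := by
    rw [Subgroup.map_sup, mem_normalizer_iff_map.mp (hA ha)]
    apply sup_le _ le_sup_right
    rintro _ ⟨y, hy, rfl⟩
    have e : (MulAut.conj a).toMonoidHom y = ⁅a, y⁆ * y := by
      simp [commutatorElement_def, MulAut.conj_apply]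
    rw [e]
    exact Subgroup.mul_mem _ ((le_sup_right : P ≤ Y ⊔ P) (h (Subgroup.commutator_mem_commutator ha hy)))
      ((le_sup_left : Y ≤ Y ⊔ P) hy)
  exact mem_normalizer_of_conj_mem fun x hx => h1 ⟨x, hx, rfl⟩

section main

variable {T Y H : Subgroup G}

/-- a normal subgroup of `H` containing `T` is all of `H` -/
theorem eq_of_normal (hYH : ¬ Y ≤ pCoreOf p H)
    (hmin : ∀ P : Subgroup G, T ≤ P → P < H → Y ≤ pCoreOf p P)
    {N : Subgroup G} (hTN : T ≤ N) (hNH : N ≤ H) (hHN : H ≤ normalizer (N : Set G)) : N = H := by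
  by_contra hne
  exact hYH ((hmin N hTN (lt_of_le_of_ne hNH hne)).trans (pCoreOf_le_of_normal hNH hHN))

/-- `H = ⟨T^H⟩` -/
theorem normalClosure_eq (hTH : T ≤ H) (hYH : ¬ Y ≤ pCoreOf p H)
    (hmin : ∀ P : Subgroup G, T ≤ P → P < H → Y ≤ pCoreOf p P) :
    (normalClosure ((T.subgroupOf H : Subgroup H) : Set H)).map H.subtype = H := by
  apply eq_of_normal (p := p) hYH hmin
  · intro t ht
    refine ⟨⟨t, hTH ht⟩, Subgroup.subset_normalClosure ?_, rfl⟩
    simpa [Subgroup.mem_subgroupOf] using ht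
  · rintro _ ⟨x, -, rfl⟩
    exact x.2
  · exact le_normalizer_map_subtype _

/-- `H = O^p(H) T` -/
theorem resOf_sup_eq (hTH : T ≤ H) (hYH : ¬ Y ≤ pCoreOf p H)
    (hmin : ∀ P : Subgroup G, T ≤ P → P < H → Y ≤ pCoreOf p P) : resOf p H ⊔ T = H := by
  by_contra hne
  have hlt : resOf p H ⊔ T < H := lt_of_le_of_ne (sup_le (resOf_le H) hTH) hne
  obtain ⟨N, hN1, hN2, hN3⟩ := exists_normal_of_resOf_le hlt le_sup_left
  have := eq_of_normal (p := p) hYH hmin (le_sup_right.trans hN1) hN2.le hN3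
  exact absurd this hN2.ne

/-- A `p`-subgroup `Y` of `H` with `[B, Y] ≤ O_p(H)` for a normal subgroup `B` containing `Y`
lies in `O_p(H)`. -/
theorem le_pCoreOf_of_comm {Y B : Subgroup G} (hYp : IsPGroup p Y) (hBH : B ≤ H)
    (hHB : H ≤ normalizer (B : Set G)) (hYB : Y ≤ B) (hPB : pCoreOf p H ≤ B)
    (h : B ≤ normalizer ((Y ⊔ pCoreOf p H : Subgroup G) : Set G)) : Y ≤ pCoreOf p H := by
  have hYH : Y ≤ normalizer ((pCoreOf p H : Subgroup G) : Set G) :=
    (hYB.trans hBH).trans (le_normalizer_pCoreOf H)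
  have h1 : IsPGroup p (Y ⊔ pCoreOf p H : Subgroup G) :=
    IsPGroup.to_sup_of_normal_right' hYp (isPGroup_pCoreOf H) hYH
  have h2 : Y ⊔ pCoreOf p H ≤ pCoreOf p B := le_pCoreOf (sup_le hYB hPB) h h1
  exact (le_sup_left.trans h2).trans (pCoreOf_le_of_normal hBH hHB)

/-- `[O^p(H), Y] ≰ O_p(H)`, in the general form. -/
theorem comm_not_le (hYp : IsPGroup p Y) (hYab : Y ≤ centralizer (Y : Set G))
    (hTH : T ≤ H) (hTY : T ≤ normalizer (Y : Set G)) (hYT : Y ≤ T) (hYH : ¬ Y ≤ pCoreOf p H)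
    (hmin : ∀ P : Subgroup G, T ≤ P → P < H → Y ≤ pCoreOf p P) :
    ¬ ⁅⁅resOf p H, Y⁆, Y⁆ ≤ pCoreOf p H := by
  intro hc
  set K := resOf p H with hK
  set X : Subgroup G := ⁅K, Y⁆ with hX
  set P : Subgroup G := pCoreOf p H with hP
  have hYH' : Y ≤ H := hYT.trans hTH
  have hKH : K ≤ H := resOf_le H
  have hHK : H ≤ normalizer (K : Set G) := le_normalizer_resOf H
  have hHP : H ≤ normalizer (P : Set G) := le_normalizer_pCoreOf H
  have hPH : P ≤ H := pCoreOf_le H
  have hXK : X ≤ K := commutator_le_left_of_le_normalizer (hYH'.trans hHK)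
  have hKX : K ≤ normalizer (X : Set G) := le_normalizer_commutator_left K Y
  have hTX : T ≤ normalizer (X : Set G) := fun t ht =>
    mem_normalizer_commutator (hHK (hTH ht)) (hTY ht)
  have hsup : K ⊔ T = H := resOf_sup_eq hTH hYH hmin
  have hHX : H ≤ normalizer (X : Set G) := by
    rw [← hsup]
    exact sup_le hKX hTX
  set B : Subgroup G := (Y ⊔ X) ⊔ P with hB
  have hBH : B ≤ H := sup_le (sup_le hYH' (hXK.trans hKH)) hPH
  have hKYX : K ≤ normalizer ((Y ⊔ X : Subgroup G) : Set G) :=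
    le_normalizer_sup_of_commutator_le hKX le_rfl
  have hTYX : T ≤ normalizer ((Y ⊔ X : Subgroup G) : Set G) := by
    intro t ht
    rw [mem_normalizer_iff_map, Subgroup.map_sup, mem_normalizer_iff_map.mp (hTY ht),
      mem_normalizer_iff_map.mp (hTX ht)]
  have hHYX : H ≤ normalizer ((Y ⊔ X : Subgroup G) : Set G) := by
    rw [← hsup]
    exact sup_le hKYX hTYX
  have hHB : H ≤ normalizer (B : Set G) := by
    intro h hh
    rw [mem_normalizer_iff_map, Subgroup.map_sup, mem_normalizer_iff_map.mp (hHYX hh),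
      mem_normalizer_iff_map.mp (hHP hh)]
  apply hYH
  apply le_pCoreOf_of_comm hYp hBH hHB (le_sup_left.trans le_sup_left) le_sup_right
  refine sup_le (sup_le ?_ ?_) ?_
  · apply le_normalizer_sup_of_commutator_le (hYH'.trans hHP)
    have : ⁅Y, Y⁆ = ⊥ := commutator_eq_bot_iff_le_centralizer'.mpr hYab
    rw [this]
    exact bot_le
  · exact le_normalizer_sup_of_commutator_le ((hXK.trans hKH).trans hHP) hc
  · apply le_normalizer_sup_of_commutator_le (hPH.trans hHP)
    exact commutator_le_left_of_le_normalizer (hYH'.trans hHP)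

/-- `O^p(H) = [O^p(H), Y]` -/
theorem comm_eq (hTp : IsPGroup p T) (hYab : Y ≤ centralizer (Y : Set G))
    (hTH : T ≤ H) (hTY : T ≤ normalizer (Y : Set G)) (hYT : Y ≤ T) (hYH : ¬ Y ≤ pCoreOf p H)
    (hmin : ∀ P : Subgroup G, T ≤ P → P < H → Y ≤ pCoreOf p P) :
    ⁅resOf p H, Y⁆ = resOf p H := by
  have hYp : IsPGroup p Y := hTp.to_le hYT
  set K := resOf p H with hK
  set X : Subgroup G := ⁅K, Y⁆ with hX
  have hYH' : Y ≤ H := hYT.trans hTH
  have hKH : K ≤ H := resOf_le H
  have hHK : H ≤ normalizer (K : Set G) := le_normalizer_resOf H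
  have hXK : X ≤ K := commutator_le_left_of_le_normalizer (hYH'.trans hHK)
  have hKX : K ≤ normalizer (X : Set G) := le_normalizer_commutator_left K Y
  have hTX : T ≤ normalizer (X : Set G) := fun t ht =>
    mem_normalizer_commutator (hHK (hTH ht)) (hTY ht)
  have hsup : K ⊔ T = H := resOf_sup_eq hTH hYH hmin
  have hHX : H ≤ normalizer (X : Set G) := by
    rw [← hsup]
    exact sup_le hKX hTX
  have hXH : X ≤ H := hXK.trans hKH
  apply le_antisymm hXK
  have hXT : X ⊔ T = H := by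
    by_contra hne
    have hlt : X ⊔ T < H := lt_of_le_of_ne (sup_le hXH hTH) hne
    have h1 : Y ≤ pCoreOf p (X ⊔ T) := hmin _ le_sup_right hlt
    apply comm_not_le hYp hYab hTH hTY hYT hYH hmin
    have h2 : ⁅X, Y⁆ ≤ X := commutator_le_left_of_le_normalizer (hYH'.trans hHX)
    have h3 : ⁅X, Y⁆ ≤ pCoreOf p (X ⊔ T) := by
      refine (Subgroup.commutator_mono le_rfl h1).trans ?_
      exact commutator_le_right_of_le_normalizer (le_sup_left.trans (le_normalizer_pCoreOf _))
    have h4 : ⁅X, Y⁆ ≤ pCoreOf p X := by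
      apply le_pCoreOf h2
      · exact le_normalizer_commutator_left X Y
      · exact (isPGroup_pCoreOf (X ⊔ T)).to_le h3
    exact h4.trans (pCoreOf_le_of_normal hXH hHX)
  exact resOf_le_of_sup hXH hHX hTp hTH hXT

/-- `O^p(H) Y = ⟨Y^H⟩` -/
theorem sup_eq_normalClosure (hTp : IsPGroup p T) (hYab : Y ≤ centralizer (Y : Set G))
    (hTH : T ≤ H) (hTY : T ≤ normalizer (Y : Set G)) (hYT : Y ≤ T) (hYH : ¬ Y ≤ pCoreOf p H)
    (hmin : ∀ P : Subgroup G, T ≤ P → P < H → Y ≤ pCoreOf p P) :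
    resOf p H ⊔ Y = (normalClosure ((Y.subgroupOf H : Subgroup H) : Set H)).map H.subtype := by
  have hYH' : Y ≤ H := hYT.trans hTH
  have hKH : resOf p H ≤ H := resOf_le H
  have hHK : H ≤ normalizer (resOf p H : Set G) := le_normalizer_resOf H
  have hsup := resOf_sup_eq hTH hYH hmin
  have hc := comm_eq hTp hYab hTH hTY hYT hYH hmin
  set W : Subgroup H := normalClosure ((Y.subgroupOf H : Subgroup H) : Set H) with hW
  have hYW : Y ≤ W.map H.subtype := by
    intro y hy
    refine ⟨⟨y, hYH' hy⟩, Subgroup.subset_normalClosure ?_, rfl⟩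
    simpa [Subgroup.mem_subgroupOf] using hy
  apply le_antisymm
  · apply sup_le _ hYW
    rw [← hc, Subgroup.commutator_le]
    intro k hk y hy
    rw [commutatorElement_def]
    have hn := le_normalizer_map_subtype (H := H) W
    exact Subgroup.mul_mem _ (conj_mem_of_mem_normalizer (hn (hKH hk)) (hYW hy))
      (Subgroup.inv_mem _ (hYW hy))
  · have hN : H ≤ normalizer ((resOf p H ⊔ Y : Subgroup G) : Set G) := by
      conv_lhs => rw [← hsup]
      apply sup_le
      · rw [sup_comm]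
        apply le_normalizer_sup_of_commutator_le (hKH.trans hHK)
        exact commutator_le_left_of_le_normalizer (hYH'.trans hHK)
      · intro t ht
        rw [mem_normalizer_iff_map, Subgroup.map_sup, mem_normalizer_iff_map.mp (hTY ht),
          mem_normalizer_iff_map.mp (hHK (hTH ht))]
    have hle : resOf p H ⊔ Y ≤ H := sup_le hKH hYH'
    have h1 : ((resOf p H ⊔ Y).subgroupOf H).Normal := (normal_subgroupOf_iff hle).mpr hN
    have h2 : W ≤ (resOf p H ⊔ Y).subgroupOf H := by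
      apply Subgroup.normalClosure_le_normal
      intro y hy
      have hy' : (y : G) ∈ Y := by simpa [Subgroup.mem_subgroupOf] using hy
      simpa [Subgroup.mem_subgroupOf] using (le_sup_right : Y ≤ resOf p H ⊔ Y) hy'
    have h3 := Subgroup.map_mono (f := H.subtype) h2
    rwa [Subgroup.map_subgroupOf_eq_of_le hle] at h3

end main

end Cfsg.Agent.Lib.LocalStruct.FrakH
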