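/-
`p`-irreducible groups.
-/
import Cfsg.Agent.Lib.PReduced.Basic
import Cfsg.Agent.Lib.LocalStruct.PCoreOf

set_option autoImplicit false

namespace Cfsg.Agent.Lib.LocalStruct.PIrred

open Subgroup Cfsg Cfsg.Agent.Lib.Core.Basic Cfsg.Agent.Lib.Core.Residual
  Cfsg.Agent.Lib.LocalStruct.Basic Cfsg.Agent.Lib.LocalStruct.Comm
  Cfsg.Agent.Lib.LocalStruct.PClosed

universe u

variable {p : ℕ} {H : Type u} [Group H]

omit [Group H] in
theorem pResidual_le_of_forall [Group H] {N : Subgroup H} (h : ∀ x : H, (orderOf x).Coprime p → x ∈ N) :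
    pResidual p H ≤ N :=
  (Subgroup.closure_le _).mpr fun x hx => h x hx

variable [Fact p.Prime] [Finite H]

/-- A `p'`-element in `N D`, with `D` a `p`-group and `N` normal, lies in `N`. -/
theorem mem_of_mem_sup_of_coprime' {N D : Subgroup H} [hN : N.Normal] (hD : IsPGroup p D) {x : H}
    (hx : x ∈ N ⊔ D) (hc : (orderOf x).Coprime p) : x ∈ N := by
  obtain ⟨n, hn, d, hd, rfl⟩ := Subgroup.mem_sup_of_normal_left.mp hx
  rw [← QuotientGroup.eq_one_iff]
  have h1 : ((n * d : H) : H ⧸ N) = (d : H ⧸ N) := by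
    rw [QuotientGroup.mk_mul, (QuotientGroup.eq_one_iff n).mpr hn, one_mul]
  have h2 : IsPElt p ((d : H) : H ⧸ N) := (IsPElt.of_mem hD hd).map (QuotientGroup.mk' N)
  rw [h1]
  apply eq_one_of_isPElt_of_coprime h2
  rw [← h1]
  exact Nat.Coprime.coprime_dvd_left (orderOf_map_dvd (QuotientGroup.mk' N) _) hc

theorem pResidual_le_of_le_sup {N D : Subgroup H} [N.Normal] (hD : IsPGroup p D)
    (h : pResidual p H ≤ N ⊔ D) : pResidual p H ≤ N :=
  pResidual_le_of_forall fun _ hc => mem_of_mem_sup_of_coprime' hD (h (mem_pResidual_of_coprime hc)) hc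

theorem comap_pCore_le (D : Subgroup H) [D.Normal] (hD : IsPGroup p D) :
    (pCore p (H ⧸ D)).comap (QuotientGroup.mk' D) ≤ pCore p H := by
  refine le_pCore inferInstance ?_
  refine IsPGroup.comap_of_ker_isPGroup pCore_isPGroup _ ?_
  rwa [QuotientGroup.ker_mk']

/-- A normal subgroup containing a Sylow subgroup in a `p`-irreducible group is everything. -/
theorem eq_top_of_sylow_le (hH : IsPIrreducible p H) (T : Sylow p H) {N : Subgroup H} [hN : N.Normal]
    (hTN : (T : Subgroup H) ≤ N) : N = ⊤ := by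
  have h1 : ¬ IsPClosed p N := by
    intro hc
    apply hH.1
    have h2 := sylow_eq_pCore hc (T.subtype hTN)
    rw [Sylow.coe_subtype] at h2
    have h3 : (T : Subgroup H) = (pCore p N).map N.subtype := by
      rw [← h2, Subgroup.map_subgroupOf_eq_of_le hTN]
    refine isPClosed_of_normal_sylow T ?_
    rw [h3]
    infer_instance
  have h2 := hH.2 N hN h1
  have h3 := sylow_sup_pResidual T
  rw [eq_top_iff, ← h3]
  exact sup_le hTN h2

end Cfsg.Agent.Lib.LocalStruct.PIrred
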