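/-
`ℌ_G(O_p(M))`: overgroups normalizing a `p`-subgroup, `p`-irreducibility.
-/
import Cfsg.Agent.Lib.LocalStruct.FrakH
import Cfsg.Agent.Lib.LocalStruct.PIrred
import Cfsg.Agent.Lib.LocalStruct.Asym

set_option autoImplicit false

namespace Cfsg.Agent.Lib.LocalStruct.FrakH2

open Subgroup Cfsg Cfsg.Agent.Lib.Core.Basic Cfsg.Agent.Lib.Core.Residual
  Cfsg.Agent.Lib.LocalStruct.Basic Cfsg.Agent.Lib.LocalStruct.Comm
  Cfsg.Agent.Lib.LocalStruct.WeakClosed Cfsg.Agent.Lib.LocalStruct.PCoreOf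
  Cfsg.Agent.Lib.LocalStruct.PClosed Cfsg.Agent.Lib.LocalStruct.Minimal
  Cfsg.Agent.Lib.LocalStruct.FrakH Cfsg.Agent.Lib.LocalStruct.PIrred
  Cfsg.Agent.Lib.LocalStruct.PReducedOf
open scoped commutatorElement

universe u

variable {G : Type u} [Group G] [Finite G] {p : ℕ} [Fact p.Prime]

omit [Fact p.Prime] in
theorem mem_normalizer_inf {A B : Subgroup G} {g : G} (hA : g ∈ normalizer (A : Set G))
    (hB : g ∈ normalizer (B : Set G)) : g ∈ normalizer ((A ⊓ B : Subgroup G) : Set G) :=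
  mem_normalizer_of_conj_mem fun _ hx =>
    ⟨conj_mem_of_mem_normalizer hA hx.1, conj_mem_of_mem_normalizer hB hx.2⟩

omit [Fact p.Prime] in
theorem mem_normalizer_sup {A B : Subgroup G} {g : G} (hA : g ∈ normalizer (A : Set G))
    (hB : g ∈ normalizer (B : Set G)) : g ∈ normalizer ((A ⊔ B : Subgroup G) : Set G) := by
  rw [mem_normalizer_iff_map, Subgroup.map_sup, mem_normalizer_iff_map.mp hA,
    mem_normalizer_iff_map.mp hB]

/-- `Y_M ≠ 1` -/
theorem largestPReducedOf_ne_bot {M : Subgroup G} (S : Sylow p G) (hSM : (S : Subgroup G) ≤ M)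
    (hM : M ∈ charPSubgroups p G) : largestPReducedOf p M ≠ ⊥ := by
  have hT1 : pCoreOf p M ≠ ⊥ := Large2.pCoreOf_ne_bot hM.1
  have hS1 : (S : Subgroup G) ≠ ⊥ := by
    intro hb
    apply hT1
    have := pCoreOf_le_sylow S hSM
    rw [hb] at this
    exact le_bot_iff.mp this
  have hZ := center_ne_bot S.isPGroup' hS1
  have hZp : IsPGroup p ((S : Subgroup G) ⊓ centralizer ((S : Subgroup G) : Set G) : Subgroup G) :=
    S.isPGroup'.to_le inf_le_left
  have hd : p ∣ Nat.card ((S : Subgroup G) ⊓ centralizer ((S : Subgroup G) : Set G) : Subgroup G) := by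
    rcases hZp.card_eq_or_dvd with h5 | h5
    · exact absurd (Subgroup.card_eq_one.mp h5) hZ
    · exact h5
  obtain ⟨z, hz⟩ := exists_prime_orderOf_dvd_card' p hd
  have hz' : orderOf (z : G) = p := by rw [Subgroup.orderOf_coe]; exact hz
  have hchar : centralizer (pCore p M : Set M) ≤ pCore p M := by
    intro x hx
    obtain ⟨y, hy, hyx⟩ := hM.2 (Large2.mem_centralizer_pCore_iff.mp hx)
    have : y = x := Subtype.ext hyx
    exact this ▸ hy
  have hzY : (z : G) ∈ largestPReducedOf p M := by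
    apply (omega_center_le_sylowCenterClosure S hSM).trans (sylowCenterClosure_le hchar)
    apply Subgroup.subset_closure
    exact ⟨z.2, orderOf_dvd_iff_pow_eq_one.mp (dvd_of_eq hz')⟩
  intro hb
  rw [hb, Subgroup.mem_bot] at hzY
  rw [hzY, orderOf_one] at hz'
  exact (Fact.out : p.Prime).one_lt.ne hz'

/-- `[⟨Y^H⟩, N] ≤ P` from `[Y, N] ≤ P`, for `N`, `P` normalized by `H`. -/
theorem comm_normalClosure_le {H N P Y : Subgroup G} (hN : H ≤ normalizer (N : Set G))
    (hP : H ≤ normalizer (P : Set G)) (hc : ⁅Y, N⁆ ≤ P) :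
    ⁅(normalClosure ((Y.subgroupOf H : Subgroup H) : Set H)).map H.subtype, N⁆ ≤ P := by
  let Cen : Subgroup H :=
    { carrier := {h | ∀ n ∈ N, ⁅(h : G), n⁆ ∈ P}
      one_mem' := by
        intro n _
        simp [commutatorElement_def, P.one_mem]
      mul_mem' := by
        intro a b ha hb n hn
        have e : ⁅((a * b : H) : G), n⁆ = (a : G) * ⁅(b : G), n⁆ * (a : G)⁻¹ * ⁅(a : G), n⁆ := by
          simp only [commutatorElement_def, Subgroup.coe_mul]
          group
        rw [e]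
        exact P.mul_mem (conj_mem_of_mem_normalizer (hP a.2) (hb n hn)) (ha n hn)
      inv_mem' := by
        intro a ha n hn
        have e : ⁅((a⁻¹ : H) : G), n⁆ = (a : G)⁻¹ * ⁅(a : G), n⁆⁻¹ * (a : G) := by
          simp only [commutatorElement_def, Subgroup.coe_inv]
          group
        rw [e]
        exact conj_inv_mem_of_mem_normalizer (hP a.2) (P.inv_mem (ha n hn)) }
  have hCen : Cen.Normal := by
    constructor
    intro x hx h n hn
    have e : ⁅((h * x * h⁻¹ : H) : G), n⁆ =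
        (h : G) * ⁅(x : G), (h : G)⁻¹ * n * (h : G)⁆ * (h : G)⁻¹ := by
      simp only [commutatorElement_def, Subgroup.coe_mul, Subgroup.coe_inv]
      group
    rw [e]
    exact conj_mem_of_mem_normalizer (hP h.2) (hx _ (conj_inv_mem_of_mem_normalizer (hN h.2) hn))
  have h1 : normalClosure ((Y.subgroupOf H : Subgroup H) : Set H) ≤ Cen := by
    apply Subgroup.normalClosure_le_normal
    intro y hy n hn
    have hy' : (y : G) ∈ Y := by simpa [Subgroup.mem_subgroupOf] using hy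
    exact hc (Subgroup.commutator_mem_commutator hy' hn)
  rw [Subgroup.commutator_le]
  rintro _ ⟨w, hw, rfl⟩ n hn
  exact h1 hw n hn

section main

variable {T Y H Q' : Subgroup G}

/-- `Q'` normalizes `H` if it normalizes `T` and is normalized by `H`. -/
theorem le_normalizer_of (hTH : T ≤ H) (hYH : ¬ Y ≤ pCoreOf p H)
    (hmin : ∀ P : Subgroup G, T ≤ P → P < H → Y ≤ pCoreOf p P)
    (hHQ : H ≤ normalizer (Q' : Set G)) (hQT : Q' ≤ normalizer (T : Set G)) :
    Q' ≤ normalizer (H : Set G) := by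
  let H₁ : Subgroup G :=
    { carrier := {x | x ∈ H ∧ ∀ q ∈ Q', q * x * q⁻¹ ∈ H}
      one_mem' := ⟨H.one_mem, fun q _ => by simp [H.one_mem]⟩
      mul_mem' := by
        rintro a b ⟨ha, ha'⟩ ⟨hb, hb'⟩
        refine ⟨H.mul_mem ha hb, fun q hq => ?_⟩
        have e : q * (a * b) * q⁻¹ = (q * a * q⁻¹) * (q * b * q⁻¹) := by group
        rw [e]
        exact H.mul_mem (ha' q hq) (hb' q hq)
      inv_mem' := by
        rintro a ⟨ha, ha'⟩
        refine ⟨H.inv_mem ha, fun q hq => ?_⟩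
        have e : q * a⁻¹ * q⁻¹ = (q * a * q⁻¹)⁻¹ := by group
        rw [e]
        exact H.inv_mem (ha' q hq) }
  have h1 : T ≤ H₁ := fun t ht =>
    ⟨hTH ht, fun q hq => hTH (conj_mem_of_mem_normalizer (hQT hq) ht)⟩
  have h2 : H₁ ≤ H := fun x hx => hx.1
  have h3 : H ≤ normalizer (H₁ : Set G) := by
    intro h hh
    apply mem_normalizer_of_conj_mem
    rintro x ⟨hx, hx'⟩
    refine ⟨H.mul_mem (H.mul_mem hh hx) (H.inv_mem hh), fun q hq => ?_⟩
    have hq₁ : h⁻¹ * q * h ∈ Q' := conj_inv_mem_of_mem_normalizer (hHQ hh) hq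
    have e : q * (h * x * h⁻¹) * q⁻¹ = h * ((h⁻¹ * q * h) * x * (h⁻¹ * q * h)⁻¹) * h⁻¹ := by group
    rw [e]
    exact H.mul_mem (H.mul_mem hh (hx' _ hq₁)) (H.inv_mem hh)
  have h4 : H₁ = H := eq_of_normal (p := p) hYH hmin h1 h2 h3
  intro q hq
  apply mem_normalizer_of_conj_mem
  intro x hx
  rw [← h4] at hx
  exact hx.2 q hq

/-- `O^p(H) = O^p(H Q')`. -/
theorem resOf_eq_of_normal {H Hs Q' : Subgroup G} (hle : H ≤ Hs) (hn : Hs ≤ normalizer (H : Set G))
    (hQp : IsPGroup p Q') (hQ : Q' ≤ Hs) (hs : H ⊔ Q' = Hs) : resOf p H = resOf p Hs := by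
  apply le_antisymm
  · rintro _ ⟨x, hx, rfl⟩
    exact ⟨Subgroup.inclusion hle x, map_pResidual_le (Subgroup.inclusion hle) ⟨x, hx, rfl⟩, rfl⟩
  · have h1 : resOf p Hs ≤ H := resOf_le_of_sup hle hn hQp hQ hs
    rintro _ ⟨x, hx, rfl⟩
    have h2 : pResidual p Hs ≤ (resOf p H).subgroupOf Hs := by
      apply pResidual_le_of_forall
      intro y hy
      rw [Subgroup.mem_subgroupOf]
      have hyH : (y : G) ∈ H := h1 ⟨y, mem_pResidual_of_coprime hy, rfl⟩
      refine ⟨⟨y, hyH⟩, mem_pResidual_of_coprime ?_, rfl⟩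
      rw [Subgroup.orderOf_mk]
      rwa [Subgroup.orderOf_coe]
    have := h2 hx
    rwa [Subgroup.mem_subgroupOf] at this

/-- all `p`-subgroups of a normal subgroup `N` of `H` with `[N, Y] ≤ O_p(H)` lie in `O_p(H)`. -/
theorem le_pCoreOf_of_comm_normal (hTp : IsPGroup p T) (hYab : Y ≤ centralizer (Y : Set G))
    (hTH : T ≤ H) (hTY : T ≤ normalizer (Y : Set G)) (hYT : Y ≤ T) (hYH : ¬ Y ≤ pCoreOf p H)
    (hmin : ∀ P : Subgroup G, T ≤ P → P < H → Y ≤ pCoreOf p P)
    {N : Subgroup G} (hHN : H ≤ normalizer (N : Set G))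
    (hc : ⁅Y, N⁆ ≤ pCoreOf p H) {J : Subgroup G} (hJ : IsPGroup p J) (hJN : J ≤ N) (hJH : J ≤ H) :
    J ≤ pCoreOf p H := by
  set P : Subgroup G := pCoreOf p H with hP
  have hHP : H ≤ normalizer (P : Set G) := le_normalizer_pCoreOf H
  have hsup := resOf_sup_eq hTH hYH hmin
  have hW := sup_eq_normalClosure hTp hYab hTH hTY hYT hYH hmin
  have hcW := comm_normalClosure_le hHN hHP hc
  rw [← hW] at hcW
  have hKN : ⁅resOf p H, N⁆ ≤ P :=
    (Subgroup.commutator_mono le_sup_left le_rfl).trans hcW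
  obtain ⟨S₁', hS₁'⟩ := exists_sylow_of_subgroup_ge hTH hTp
  set S₁ : Subgroup G := (S₁' : Subgroup H).map H.subtype with hS₁
  have hS₁p : IsPGroup p S₁ := S₁'.isPGroup'.map _
  have hS₁H : S₁ ≤ H := by
    rintro _ ⟨x, -, rfl⟩
    exact x.2
  set V : Subgroup G := N ⊓ S₁ with hV
  have hVp : IsPGroup p V := hS₁p.to_le inf_le_right
  have hVH : V ≤ H := inf_le_right.trans hS₁H
  have hHV : H ≤ normalizer ((V ⊔ P : Subgroup G) : Set G) := by
    rw [← hsup]
    apply sup_le
    · apply le_normalizer_sup_of_commutator_le ((resOf_le H).trans hHP)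
      exact (Subgroup.commutator_mono le_rfl inf_le_left).trans hKN
    · intro t ht
      apply mem_normalizer_sup _ (hHP (hTH ht))
      exact mem_normalizer_inf (hHN (hTH ht)) (Subgroup.le_normalizer (hS₁' ht))
  have hVP : V ≤ P := by
    have h1 : IsPGroup p (V ⊔ P : Subgroup G) :=
      IsPGroup.to_sup_of_normal_right' hVp (isPGroup_pCoreOf H) (hVH.trans hHP)
    have h2 : V ⊔ P ≤ pCoreOf p H := le_pCoreOf (sup_le hVH (pCoreOf_le H)) hHV h1
    exact le_sup_left.trans h2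
  obtain ⟨k, hk, hJk⟩ := exists_le_conj_of_sylowIn S₁' hJH hJ
  have h3 : J.map (MulAut.conj k⁻¹).toMonoidHom ≤ V := by
    apply le_inf
    · have := map_conj_mono k⁻¹ hJN
      rwa [mem_normalizer_iff_map.mp (hHN (H.inv_mem hk))] at this
    · have := map_conj_mono k⁻¹ hJk
      rwa [map_conj_inv_map_conj] at this
  have h4 : J ≤ P.map (MulAut.conj k).toMonoidHom := by
    rw [le_map_conj_iff]
    exact h3.trans hVP
  rwa [mem_normalizer_iff_map.mp (hHP hk)] at h4

/-- the overgroup `H Q'` is `p`-irreducible. -/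
theorem isPIrreducible_sup (hTp : IsPGroup p T) (hYab : Y ≤ centralizer (Y : Set G))
    (hTH : T ≤ H) (hTY : T ≤ normalizer (Y : Set G)) (hYT : Y ≤ T) (hYH : ¬ Y ≤ pCoreOf p H)
    (hmin : ∀ P : Subgroup G, T ≤ P → P < H → Y ≤ pCoreOf p P)
    (hQp : IsPGroup p Q') (hHQ : H ≤ normalizer (Q' : Set G)) (hQH : Q' ≤ normalizer (H : Set G)) :
    IsPIrreducible p ↥(H ⊔ Q') := by
  set Hs : Subgroup G := H ⊔ Q' with hHs
  set Ps : Subgroup G := pCoreOf p Hs with hPs
  set P : Subgroup G := pCoreOf p H with hP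
  have hHHs : H ≤ Hs := le_sup_left
  have hQHs : Q' ≤ Hs := le_sup_right
  have hHsH : Hs ≤ normalizer (H : Set G) := sup_le Subgroup.le_normalizer hQH
  have hHsQ : Hs ≤ normalizer (Q' : Set G) := sup_le hHQ Subgroup.le_normalizer
  have hQPs : Q' ≤ Ps := le_pCoreOf hQHs hHsQ hQp
  have hPPs : P ≤ Ps := pCoreOf_le_of_normal hHHs hHsH
  have hHsPs : Hs ≤ normalizer (Ps : Set G) := le_normalizer_pCoreOf Hs
  have hPsp : IsPGroup p Ps := isPGroup_pCoreOf Hs
  have hHP : H ≤ normalizer (P : Set G) := le_normalizer_pCoreOf H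
  constructor
  · intro hc
    apply hYH
    have h1 : Y ≤ Ps := by
      intro y hy
      have h2 : (⟨y, hHHs (hTH (hYT hy))⟩ : Hs) ∈ pCore p Hs :=
        isPClosed_iff.mp hc _ (IsPElt.of_injective Hs.subtype Hs.subtype_injective
          (IsPElt.of_mem (hTp.to_le hYT) hy))
      exact ⟨_, h2, rfl⟩
    have h3 : Ps ⊓ H ≤ P := le_pCoreOf inf_le_right
      (fun h hh => mem_normalizer_inf (hHsPs (hHHs hh)) (Subgroup.le_normalizer hh))
      (hPsp.to_le inf_le_left)
    exact (le_inf h1 (hYT.trans hTH)).trans h3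
  · intro N hN hNc
    set N' : Subgroup G := N.map Hs.subtype with hN'
    set E : Subgroup G := N' ⊔ Ps with hE
    have hN'Hs : N' ≤ Hs := by
      rintro _ ⟨x, -, rfl⟩
      exact x.2
    have hEHs : E ≤ Hs := sup_le hN'Hs (pCoreOf_le Hs)
    have hHsN' : Hs ≤ normalizer (N' : Set G) := le_normalizer_map_subtype N
    have hHsE : Hs ≤ normalizer (E : Set G) := fun h hh =>
      mem_normalizer_sup (hHsN' hh) (hHsPs hh)
    set N₄ : Subgroup G := E ⊓ H with hN₄
    have hHN₄ : H ≤ normalizer (N₄ : Set G) := fun h hh =>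
      mem_normalizer_inf (hHsE (hHHs hh)) (Subgroup.le_normalizer hh)
    have hN₄H : N₄ ≤ H := inf_le_right
    have hEeq : E = (N ⊔ pCore p Hs).map Hs.subtype := by
      rw [Subgroup.map_sup]
      rfl
    by_cases hc : T ⊔ N₄ = H
    · have h1 : E ⊔ T = Hs := by
        apply le_antisymm (sup_le hEHs (hTH.trans hHHs))
        apply sup_le
        · rw [← hc]
          exact sup_le le_sup_right (inf_le_left.trans le_sup_left)
        · exact (hQPs.trans le_sup_right).trans le_sup_left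
      have h2 : resOf p Hs ≤ E := resOf_le_of_sup hEHs hHsE hTp (hTH.trans hHHs) h1
      rw [hEeq] at h2
      have h3 : pResidual p Hs ≤ N ⊔ pCore p Hs :=
        (Subgroup.map_le_map_iff_of_injective Hs.subtype_injective).mp h2
      exact pResidual_le_of_le_sup pCore_isPGroup h3
    · exfalso
      apply hNc
      have hlt : T ⊔ N₄ < H := lt_of_le_of_ne (sup_le hTH hN₄H) hc
      have h1 : Y ≤ pCoreOf p (T ⊔ N₄) := hmin _ le_sup_left hlt
      have h2 : ⁅N₄, Y⁆ ≤ P := by
        have h3 : ⁅N₄, Y⁆ ≤ N₄ :=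
          commutator_le_left_of_le_normalizer ((hYT.trans hTH).trans hHN₄)
        have h4 : ⁅N₄, Y⁆ ≤ pCoreOf p (T ⊔ N₄) := by
          refine (Subgroup.commutator_mono le_rfl h1).trans ?_
          exact commutator_le_right_of_le_normalizer (le_sup_right.trans (le_normalizer_pCoreOf _))
        have h5 : ⁅N₄, Y⁆ ≤ pCoreOf p N₄ :=
          le_pCoreOf h3 (le_normalizer_commutator_left N₄ Y) ((isPGroup_pCoreOf _).to_le h4)
        exact h5.trans (pCoreOf_le_of_normal hN₄H hHN₄)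
      have h2' : ⁅Y, N₄⁆ ≤ P := by rwa [Subgroup.commutator_comm]
      have hJ : ∀ J : Subgroup G, IsPGroup p J → J ≤ N₄ → J ≤ P := fun J hJ hJN =>
        le_pCoreOf_of_comm_normal hTp hYab hTH hTY hYT hYH hmin hHN₄ h2' hJ hJN (hJN.trans hN₄H)
      have hnorm : ((pCore p Hs).subgroupOf N).Normal := inferInstance
      apply isPClosed_of_exists _ hnorm
      · exact pCore_isPGroup.comap_of_injective N.subtype N.subtype_injective
      · intro x hx
        rw [Subgroup.mem_subgroupOf]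
        have hz : IsPElt p (((x : Hs) : G)) := (hx.map N.subtype).map Hs.subtype
        set z : G := ((x : Hs) : G) with hzdef
        have hzN' : z ∈ N' := ⟨x, x.2, rfl⟩
        have hzHs : z ∈ Hs := (x : Hs).2
        have hJ₁p : IsPGroup p (zpowers z ⊔ Ps : Subgroup G) :=
          IsPGroup.to_sup_of_normal_right' (isPElt_iff_zpowers.mp hz) hPsp
            (((Subgroup.zpowers_le).mpr hzHs).trans hHsPs)
        have hJ₁E : zpowers z ⊔ Ps ≤ E :=
          sup_le (((Subgroup.zpowers_le).mpr hzN').trans le_sup_left) le_sup_right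
        have hJ₂ : (zpowers z ⊔ Ps) ⊓ H ≤ P :=
          hJ _ (hJ₁p.to_le inf_le_left) (inf_le_inf_right _ hJ₁E)
        obtain ⟨h, hh, q, hq, hzq⟩ := mem_sup_of_le_normalizer hQH hzHs
        have hqPs := hQPs hq
        have hh₁ : h ∈ (zpowers z ⊔ Ps) ⊓ H := by
          refine ⟨?_, hh⟩
          have e : h = z * q⁻¹ := by rw [hzq]; group
          rw [e]
          exact Subgroup.mul_mem _ ((le_sup_left : zpowers z ≤ zpowers z ⊔ Ps) (Subgroup.mem_zpowers z))
            ((le_sup_right : Ps ≤ zpowers z ⊔ Ps) (Ps.inv_mem hqPs))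
        have hzPs : z ∈ Ps := by
          rw [hzq]
          exact Ps.mul_mem (hPPs (hJ₂ hh₁)) hqPs
        obtain ⟨y, hy, hyz⟩ := hzPs
        have : y = (x : Hs) := Subtype.ext hyz
        simpa [this] using hy

end main

end Cfsg.Agent.Lib.LocalStruct.FrakH2
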