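/-
Toolkit for the asymmetric `L`-lemma: action of subgroups on sections `V / W`, written inside the
ambient finite group; stability groups of the chief series inside `O_p(H)`.
-/
import Cfsg.Agent.Lib.LocalStruct.FrakH2
import Cfsg.Agent.Lib.PGroups.LowerCentral

set_option autoImplicit false
set_option linter.style.haveILetI false
set_option linter.unusedSectionVars false

namespace Cfsg.Agent.Lib.LocalStruct.AsymL1

open Subgroup Cfsg Cfsg.Agent.Lib.LocalStruct.Basic Cfsg.Agent.Lib.LocalStruct.Comm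
  Cfsg.Agent.Lib.LocalStruct.PCoreOf
open scoped commutatorElement

universe u

variable {G : Type u} [Group G]

/-- The elements normalizing `I` and acting trivially on the set `S` modulo `I`. -/
def stabMod (S : Set G) (I : Subgroup G) : Subgroup G where
  carrier := {g | g ∈ normalizer (I : Set G) ∧ ∀ v ∈ S, ⁅v, g⁆ ∈ I}
  one_mem' := ⟨one_mem _, fun v _ => by simp [commutatorElement_def, I.one_mem]⟩
  mul_mem' := by
    rintro a b ⟨ha, ha'⟩ ⟨hb, hb'⟩
    refine ⟨mul_mem ha hb, fun v hv => ?_⟩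
    have e : ⁅v, a * b⁆ = ⁅v, a⁆ * (a * ⁅v, b⁆ * a⁻¹) := by
      simp only [commutatorElement_def]; group
    rw [e]
    exact I.mul_mem (ha' v hv) (conj_mem_of_mem_normalizer ha (hb' v hv))
  inv_mem' := by
    rintro a ⟨ha, ha'⟩
    refine ⟨inv_mem ha, fun v hv => ?_⟩
    have e : ⁅v, a⁻¹⁆ = a⁻¹ * (⁅v, a⁆)⁻¹ * a := by
      simp only [commutatorElement_def]; group
    rw [e]
    exact conj_inv_mem_of_mem_normalizer ha (I.inv_mem (ha' v hv))

theorem mem_stabMod {S : Set G} {I : Subgroup G} {g : G} :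
    g ∈ stabMod S I ↔ g ∈ normalizer (I : Set G) ∧ ∀ v ∈ S, ⁅v, g⁆ ∈ I := Iff.rfl

/-- `C_V(X)` modulo `W`: the elements of `V` (normalizing `W`) fixed by `X` modulo `W`. -/
def fixMod (V W X : Subgroup G) : Subgroup G where
  carrier := {v | v ∈ V ∧ v ∈ normalizer (W : Set G) ∧ ∀ x ∈ X, ⁅v, x⁆ ∈ W}
  one_mem' := ⟨V.one_mem, one_mem _, fun x _ => by simp [commutatorElement_def, W.one_mem]⟩
  mul_mem' := by
    rintro a b ⟨ha, ha', ha''⟩ ⟨hb, hb', hb''⟩
    refine ⟨V.mul_mem ha hb, mul_mem ha' hb', fun x hx => ?_⟩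
    have e : ⁅a * b, x⁆ = (a * ⁅b, x⁆ * a⁻¹) * ⁅a, x⁆ := by
      simp only [commutatorElement_def]; group
    rw [e]
    exact W.mul_mem (conj_mem_of_mem_normalizer ha' (hb'' x hx)) (ha'' x hx)
  inv_mem' := by
    rintro a ⟨ha, ha', ha''⟩
    refine ⟨V.inv_mem ha, inv_mem ha', fun x hx => ?_⟩
    have e : ⁅a⁻¹, x⁆ = a⁻¹ * (⁅a, x⁆)⁻¹ * a := by
      simp only [commutatorElement_def]; group
    rw [e]
    exact conj_inv_mem_of_mem_normalizer ha' (W.inv_mem (ha'' x hx))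

theorem mem_fixMod {V W X : Subgroup G} {v : G} :
    v ∈ fixMod V W X ↔ v ∈ V ∧ v ∈ normalizer (W : Set G) ∧ ∀ x ∈ X, ⁅v, x⁆ ∈ W := Iff.rfl

theorem fixMod_le (V W X : Subgroup G) : fixMod V W X ≤ V := fun _ h => h.1

/-- `[V, X] ≤ U ≤ V` gives that `X` normalizes `U`. -/
theorem le_normalizer_of_comm_le [Finite G] {V X U : Subgroup G} (h : ⁅V, X⁆ ≤ U) (hUV : U ≤ V) :
    X ≤ normalizer (U : Set G) := by
  intro x hx
  apply mem_normalizer_of_conj_mem
  intro u hu
  have h1 : ⁅u, x⁆ ∈ U := h (Subgroup.commutator_mem_commutator (hUV hu) hx)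
  have e : x * u * x⁻¹ = (⁅u, x⁆)⁻¹ * u := by
    simp only [commutatorElement_def]; group
  rw [e]
  exact U.mul_mem (U.inv_mem h1) hu

/-- Conjugation of a commutator element. -/
theorem conj_commutatorElement (g a b : G) : g * ⁅a, b⁆ * g⁻¹ = ⁅g * a * g⁻¹, g * b * g⁻¹⁆ := by
  simp only [commutatorElement_def]; group

/-- `fixMod` under conjugation. -/
theorem map_fixMod [Finite G] {V W : Subgroup G} (X : Subgroup G) {g : G}
    (hgV : g ∈ normalizer (V : Set G)) (hgW : g ∈ normalizer (W : Set G)) :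
    (fixMod V W X).map (MulAut.conj g).toMonoidHom = fixMod V W (X.map (MulAut.conj g).toMonoidHom) := by
  have key : ∀ (g : G) (X : Subgroup G), g ∈ normalizer (V : Set G) → g ∈ normalizer (W : Set G) →
      (fixMod V W X).map (MulAut.conj g).toMonoidHom ≤
        fixMod V W (X.map (MulAut.conj g).toMonoidHom) := by
    rintro g X hgV hgW _ ⟨v, ⟨hv, hv', hv''⟩, rfl⟩
    simp only [MulEquiv.coe_toMonoidHom, MulAut.conj_apply]
    refine ⟨conj_mem_of_mem_normalizer hgV hv, mul_mem (mul_mem hgW hv') (inv_mem hgW), ?_⟩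
    rintro _ ⟨x, hx, rfl⟩
    simp only [MulEquiv.coe_toMonoidHom, MulAut.conj_apply]
    rw [← conj_commutatorElement]
    exact conj_mem_of_mem_normalizer hgW (hv'' x hx)
  apply le_antisymm (key g X hgV hgW)
  have h := key g⁻¹ (X.map (MulAut.conj g).toMonoidHom) (inv_mem hgV) (inv_mem hgW)
  rw [map_conj_inv_map_conj] at h
  have h2 := map_conj_mono g h
  rwa [map_conj_map_conj_inv] at h2

/-- Any `g` normalizing `V`, `W`, `X` normalizes `fixMod V W X`. -/
theorem mem_normalizer_fixMod [Finite G] {V W X : Subgroup G} {g : G}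
    (hgV : g ∈ normalizer (V : Set G)) (hgW : g ∈ normalizer (W : Set G))
    (hgX : g ∈ normalizer (X : Set G)) : g ∈ normalizer ((fixMod V W X : Subgroup G) : Set G) := by
  rw [mem_normalizer_iff_map, map_fixMod X hgV hgW, mem_normalizer_iff_map.mp hgX]

/-- `⁅V, X⁆ ⊔ W` under conjugation. -/
theorem map_commSup [Finite G] {V W : Subgroup G} (X : Subgroup G) {g : G}
    (hgV : g ∈ normalizer (V : Set G)) (hgW : g ∈ normalizer (W : Set G)) :
    (⁅V, X⁆ ⊔ W).map (MulAut.conj g).toMonoidHom = ⁅V, X.map (MulAut.conj g).toMonoidHom⁆ ⊔ W := by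
  rw [Subgroup.map_sup, map_conj_commutator, mem_normalizer_iff_map.mp hgV,
    mem_normalizer_iff_map.mp hgW]

/-- Any `g` normalizing `V`, `W`, `X` normalizes `⁅V, X⁆ ⊔ W`. -/
theorem mem_normalizer_commSup [Finite G] {V W X : Subgroup G} {g : G}
    (hgV : g ∈ normalizer (V : Set G)) (hgW : g ∈ normalizer (W : Set G))
    (hgX : g ∈ normalizer (X : Set G)) : g ∈ normalizer ((⁅V, X⁆ ⊔ W : Subgroup G) : Set G) := by
  rw [mem_normalizer_iff_map, map_commSup X hgV hgW, mem_normalizer_iff_map.mp hgX]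

section pgroup

variable [Finite G] {p : ℕ} [Fact p.Prime]

/-- In a `p`-group `P` normalizing `W < V ≤ P`, we have `[V, P] W ≠ V`. -/
theorem comm_sup_ne {P V W : Subgroup G} (hP : IsPGroup p P) (hVP : V ≤ P) (hWV : W < V)
    (hPV : P ≤ normalizer (V : Set G)) (hPW : P ≤ normalizer (W : Set G)) : ⁅V, P⁆ ⊔ W ≠ V := by
  classical
  intro hE
  have hWP : W ≤ P := hWV.le.trans hVP
  haveI hN₀ : (W.subgroupOf P).Normal := (Subgroup.normal_subgroupOf_iff_le_normalizer hWP).mpr hPW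
  haveI hU : (V.subgroupOf P).Normal := (Subgroup.normal_subgroupOf_iff_le_normalizer hVP).mpr hPV
  set φ : ↥P →* ↥P ⧸ W.subgroupOf P := QuotientGroup.mk' (W.subgroupOf P) with hφ
  have hs : Function.Surjective φ := QuotientGroup.mk'_surjective _
  haveI : Finite (↥P ⧸ W.subgroupOf P) := inferInstance
  have hQ : IsPGroup p (↥P ⧸ W.subgroupOf P) := IsPGroup.to_quotient hP _
  haveI : Group.IsNilpotent (↥P ⧸ W.subgroupOf P) := hQ.isNilpotent
  set U : Subgroup ↥P := V.subgroupOf P with hUdef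
  haveI hUbar : (U.map φ).Normal := Subgroup.Normal.map hU φ hs
  have hne : U.map φ ≠ ⊥ := by
    intro h
    rw [Subgroup.map_eq_bot_iff, hφ, QuotientGroup.ker_mk'] at h
    obtain ⟨v, hv, hvW⟩ := SetLike.exists_of_lt hWV
    have : (⟨v, hVP hv⟩ : ↥P) ∈ W.subgroupOf P := h (by simpa [hUdef, Subgroup.mem_subgroupOf] using hv)
    exact hvW (by simpa [Subgroup.mem_subgroupOf] using this)
  have hlt := Cfsg.Agent.Lib.PGroups.LowerCentral.commutator_top_lt (U.map φ) hne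
  have e1 : ⁅U.map φ, (⊤ : Subgroup (↥P ⧸ W.subgroupOf P))⁆ = (⁅U, ⊤⁆ : Subgroup ↥P).map φ := by
    rw [Subgroup.map_commutator, Subgroup.map_top_of_surjective φ hs]
  rw [e1] at hlt
  apply hlt.not_ge
  rintro _ ⟨u, hu, rfl⟩
  have huV : (u : G) ∈ V := by simpa [hUdef, Subgroup.mem_subgroupOf] using hu
  have e2 : ⁅V, P⁆ ⊔ W = (⁅U, ⊤⁆ ⊔ W.subgroupOf P : Subgroup ↥P).map P.subtype := by
    rw [Subgroup.map_sup, Subgroup.map_commutator, Subgroup.map_subgroupOf_eq_of_le hWP, hUdef,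
      Subgroup.map_subgroupOf_eq_of_le hVP, ← MonoidHom.range_eq_map, Subgroup.range_subtype]
  have h3 : (u : G) ∈ (⁅U, ⊤⁆ ⊔ W.subgroupOf P : Subgroup ↥P).map P.subtype := by
    rw [← e2, hE]
    exact huV
  obtain ⟨x, hx, hxu⟩ := h3
  have hxu' : x = u := Subtype.ext hxu
  subst hxu'
  have h4 : φ x ∈ ((⁅U, ⊤⁆ ⊔ W.subgroupOf P : Subgroup ↥P)).map φ := ⟨x, hx, rfl⟩
  rw [Subgroup.map_sup] at h4
  have h5 : (W.subgroupOf P).map φ = ⊥ := by
    rw [Subgroup.map_eq_bot_iff, hφ, QuotientGroup.ker_mk']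
  rwa [h5, sup_bot_eq] at h4

/-- exact version of the coprime computation -/
theorem pow_conj_eq {Γ : Type*} [Group Γ] {g v a : Γ} (h1 : g * v * g⁻¹ = a * v)
    (h2 : g * a * g⁻¹ = a) (k : ℕ) : g ^ k * v * (g ^ k)⁻¹ = a ^ k * v := by
  induction k with
  | zero => simp
  | succ k ih =>
    have e : g ^ (k + 1) * v * (g ^ (k + 1))⁻¹ = g * (g ^ k * v * (g ^ k)⁻¹) * g⁻¹ := by
      rw [pow_succ']; group
    rw [e, ih]
    have hc : g * a ^ k * g⁻¹ = a ^ k := by
      have := conj_pow (a := g) (b := a) (i := k)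
      rw [h2] at this
      exact this.symm
    calc g * (a ^ k * v) * g⁻¹ = (g * a ^ k * g⁻¹) * (g * v * g⁻¹) := by group
      _ = a ^ k * (a * v) := by rw [hc, h1]
      _ = a ^ (k + 1) * v := by rw [pow_succ]; group

/-- Coprime action on a section `T / W` with a stable subgroup `U`: if `[T, g] ≤ U` and
`[U, g] ≤ W`, then `[T, g] ≤ W`. -/
theorem comm_mem_of_coprime {T U W : Subgroup G} {g : G}
    (hTW : T ≤ normalizer (W : Set G)) (hgW : g ∈ normalizer (W : Set G))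
    (hTp : IsPGroup p T) (hUT : U ≤ T) (hcop : (orderOf g).Coprime p)
    (h1 : ∀ v ∈ T, ⁅v, g⁆ ∈ U) (h2 : ∀ u ∈ U, ⁅u, g⁆ ∈ W) : ∀ v ∈ T, ⁅v, g⁆ ∈ W := by
  classical
  intro v hv
  set D : Subgroup G := normalizer (W : Set G) with hD
  have hWD : W ≤ D := Subgroup.le_normalizer
  haveI hN : (W.subgroupOf D).Normal := (Subgroup.normal_subgroupOf_iff_le_normalizer hWD).mpr le_rfl
  set φ : ↥D →* ↥D ⧸ W.subgroupOf D := QuotientGroup.mk' (W.subgroupOf D) with hφ
  have hker : ∀ x : ↥D, φ x = 1 ↔ (x : G) ∈ W := by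
    intro x
    rw [hφ, QuotientGroup.mk'_apply, QuotientGroup.eq_one_iff, Subgroup.mem_subgroupOf]
  set a : G := (⁅v, g⁆)⁻¹ with ha
  have haU : a ∈ U := U.inv_mem (h1 v hv)
  have haT : a ∈ T := hUT haU
  let gg : ↥D := ⟨g, hgW⟩
  let vv : ↥D := ⟨v, hTW hv⟩
  let aa : ↥D := ⟨a, hTW haT⟩
  have r1 : gg * vv * gg⁻¹ = aa * vv := by
    apply Subtype.ext
    show g * v * g⁻¹ = a * v
    rw [ha]
    simp only [commutatorElement_def]; group
  have r2 : φ gg * φ aa * (φ gg)⁻¹ = φ aa := by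
    have h3 : φ (⁅aa, gg⁆) = 1 := (hker _).mpr (by
      show ⁅a, g⁆ ∈ W
      exact h2 a haU)
    rw [map_commutatorElement, commutatorElement_def] at h3
    have h4 : φ gg * φ aa * (φ gg)⁻¹ = φ gg * (φ aa * (φ gg)⁻¹ * (φ aa)⁻¹) * φ aa := by group
    rw [h4]
    have h5 : φ aa * (φ gg)⁻¹ * (φ aa)⁻¹ = (φ gg)⁻¹ := by
      have h6 : φ aa * φ gg * (φ aa)⁻¹ = φ gg := by
        rw [mul_inv_eq_one] at h3
        rw [h3]
      calc φ aa * (φ gg)⁻¹ * (φ aa)⁻¹ = (φ aa * φ gg * (φ aa)⁻¹)⁻¹ := by group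
        _ = (φ gg)⁻¹ := by rw [h6]
    rw [h5]
    group
  have r1' : φ gg * φ vv * (φ gg)⁻¹ = φ aa * φ vv := by
    rw [← map_mul, ← map_inv, ← map_mul, ← map_mul]
    exact congrArg φ r1
  have hpow := pow_conj_eq r1' r2 (orderOf g)
  have hg1 : (φ gg) ^ orderOf g = 1 := by
    rw [← map_pow]
    have : gg ^ orderOf g = 1 := by
      apply Subtype.ext
      show g ^ orderOf g = 1
      exact pow_orderOf_eq_one g
    rw [this, map_one]
  rw [hg1] at hpow
  have ham : (φ aa) ^ orderOf g = 1 := by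
    simpa using hpow.symm
  -- `φ aa` is a `p`-element
  obtain ⟨e, he⟩ := IsPElt.of_mem hTp haT
  have hae : (φ aa) ^ p ^ e = 1 := by
    rw [← map_pow]
    have : aa ^ p ^ e = 1 := by
      apply Subtype.ext
      show a ^ p ^ e = 1
      exact he
    rw [this, map_one]
  have hone : φ aa = 1 := by
    have hd1 := orderOf_dvd_of_pow_eq_one ham
    have hd2 := orderOf_dvd_of_pow_eq_one hae
    have hc : Nat.Coprime (orderOf g) (p ^ e) := Nat.Coprime.pow_right _ hcop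
    have : orderOf (φ aa) = 1 := Nat.eq_one_of_dvd_coprimes hc hd1 hd2
    exact orderOf_eq_one_iff.mp this
  have haW : a ∈ W := (hker aa).mp hone
  have := W.inv_mem haW
  rwa [ha, inv_inv] at this

/-- A subgroup without nontrivial elements of order prime to `p` is a `p`-group. -/
theorem isPGroup_of_coprime_trivial {X : Subgroup G}
    (h : ∀ x ∈ X, (orderOf x).Coprime p → x = 1) : IsPGroup p X := by
  rw [isPGroup_iff_forall_mem]
  intro x hx
  have hpos : orderOf x ≠ 0 := (orderOf_pos x).ne'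
  obtain ⟨a, m, hm, he⟩ := Nat.exists_eq_pow_mul_and_not_dvd hpos p (Fact.out : p.Prime).ne_one
  refine ⟨a, ?_⟩
  have h1 : orderOf (x ^ p ^ a) = m := by
    have h0 : p ^ a ≠ 0 := pow_ne_zero _ (Fact.out : p.Prime).ne_zero
    rw [orderOf_pow_of_dvd h0 (Dvd.intro _ he.symm), he, Nat.mul_div_cancel_left _ (Nat.pos_of_ne_zero h0)]
  apply h _ (X.pow_mem hx _)
  rw [h1]
  exact ((Nat.Prime.coprime_iff_not_dvd (Fact.out : p.Prime)).mpr hm).symm

end pgroup

end Cfsg.Agent.Lib.LocalStruct.AsymL1
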