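/-
The asymmetric `L`-lemma, part 2: chief factors of `H` inside `O_p(H)`, the stability group of the
chief factors, and the decomposition of a chief factor for a "far" pair of conjugates.
-/
import Cfsg.Agent.Lib.LocalStruct.AsymL1

set_option autoImplicit false
set_option linter.style.haveILetI false
set_option linter.unusedSectionVars false

namespace Cfsg.Agent.Lib.LocalStruct.AsymL2

open Subgroup Cfsg Cfsg.Agent.Lib.LocalStruct.Basic Cfsg.Agent.Lib.LocalStruct.Comm
  Cfsg.Agent.Lib.LocalStruct.PCoreOf Cfsg.Agent.Lib.LocalStruct.WeakClosed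
  Cfsg.Agent.Lib.LocalStruct.AsymL1
open scoped commutatorElement

universe u

variable {G : Type u} [Group G] [Finite G] {p : ℕ} [Fact p.Prime]

/-- `V / W` is a chief factor of `H` inside `O_p(H)`. -/
structure Chief (p : ℕ) (H V W : Subgroup G) : Prop where
  hVK : V ≤ pCoreOf p H
  hHV : H ≤ normalizer (V : Set G)
  hHW : H ≤ normalizer (W : Set G)
  hlt : W < V
  hirr : ∀ Z : Subgroup G, H ≤ normalizer (Z : Set G) → W ≤ Z → Z ≤ V → Z = W ∨ Z = V

namespace Chief

variable {H V W : Subgroup G}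

theorem hVH (hc : Chief p H V W) : V ≤ H := hc.hVK.trans (pCoreOf_le H)

theorem hWV (hc : Chief p H V W) : W ≤ V := hc.hlt.le

theorem hVW (hc : Chief p H V W) : V ≤ normalizer (W : Set G) := hc.hVH.trans hc.hHW

theorem hVp (hc : Chief p H V W) : IsPGroup p V := (isPGroup_pCoreOf H).to_le hc.hVK

/-- A `p`-subgroup `X` of `H` acts nontrivially-properly: `[V, X] W ≠ V`. -/
theorem comm_sup_ne (hc : Chief p H V W) {X : Subgroup G} (hXH : X ≤ H) (hXp : IsPGroup p X) :
    ⁅V, X⁆ ⊔ W ≠ V := by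
  intro hE
  have hPp : IsPGroup p (X ⊔ pCoreOf p H : Subgroup G) :=
    IsPGroup.to_sup_of_normal_right' hXp (isPGroup_pCoreOf H) (hXH.trans (le_normalizer_pCoreOf H))
  have hPH : X ⊔ pCoreOf p H ≤ H := sup_le hXH (pCoreOf_le H)
  apply AsymL1.comm_sup_ne hPp (hc.hVK.trans le_sup_right) hc.hlt (hPH.trans hc.hHV)
    (hPH.trans hc.hHW)
  apply le_antisymm
  · exact sup_le (commutator_le_left_of_le_normalizer (hPH.trans hc.hHV)) hc.hWV
  · calc V = ⁅V, X⁆ ⊔ W := hE.symm
      _ ≤ _ := sup_le_sup_right (Subgroup.commutator_mono le_rfl le_sup_left) _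

/-- `V / W` is abelian. -/
theorem comm_self_le (hc : Chief p H V W) : ⁅V, V⁆ ≤ W := by
  have hZ : H ≤ normalizer ((⁅V, V⁆ ⊔ W : Subgroup G) : Set G) := fun h hh =>
    mem_normalizer_commSup (hc.hHV hh) (hc.hHW hh) (hc.hHV hh)
  rcases hc.hirr _ hZ le_sup_right
      (sup_le (commutator_le_left_of_le_normalizer Subgroup.le_normalizer) hc.hWV) with h | h
  · exact le_sup_left.trans h.le
  · exact absurd h (hc.comm_sup_ne hc.hVH hc.hVp)

/-- subgroups between `W` and `V` are normalized by `V`. -/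
theorem le_normalizer_of_between (hc : Chief p H V W) {U : Subgroup G} (hWU : W ≤ U) (hUV : U ≤ V) :
    V ≤ normalizer (U : Set G) :=
  le_normalizer_of_comm_le (hc.comm_self_le.trans hWU) hUV

/-- `W` lies in `fixMod V W X`. -/
theorem le_fixMod (hc : Chief p H V W) {X : Subgroup G} (hXH : X ≤ H) : W ≤ fixMod V W X := by
  intro w hw
  refine ⟨hc.hWV hw, Subgroup.le_normalizer hw, fun x hx => ?_⟩
  exact commutator_le_left_of_le_normalizer (hXH.trans hc.hHW)
    (Subgroup.commutator_mem_commutator hw hx)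

/-- `fixMod V W H = W` for a noncentral chief factor. -/
theorem mem_of_fix (hc : Chief p H V W) (hnc : ¬ ⁅V, H⁆ ≤ W) {x : G} (hxV : x ∈ V)
    (hx : ∀ h ∈ H, ⁅x, h⁆ ∈ W) : x ∈ W := by
  have hN : H ≤ normalizer ((fixMod V W H : Subgroup G) : Set G) := fun h hh =>
    mem_normalizer_fixMod (hc.hHV hh) (hc.hHW hh) (Subgroup.le_normalizer hh)
  rcases hc.hirr _ hN (hc.le_fixMod le_rfl) (fixMod_le _ _ _) with h | h
  · rw [← h]
    exact ⟨hxV, hc.hVW hxV, hx⟩
  · exfalso
    apply hnc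
    rw [Subgroup.commutator_le]
    intro v hv g hg
    rw [← h] at hv
    exact hv.2.2 g hg

/-- if `L` acts trivially on `V / W` and `H = L O` with a `p`-group `O`, then `H` acts trivially. -/
theorem comm_top_le_of_sup (hc : Chief p H V W) {L O : Subgroup G} (hLO : L ⊔ O = H)
    (hOp : IsPGroup p O) (hL : ⁅V, L⁆ ≤ W) : ⁅V, H⁆ ≤ W := by
  have hOH : O ≤ H := le_sup_right.trans hLO.le
  have hLH : L ≤ H := le_sup_left.trans hLO.le
  set J : Subgroup G := ⁅V, O⁆ ⊔ W with hJ
  have hJV : J ≤ V := sup_le (commutator_le_left_of_le_normalizer (hOH.trans hc.hHV)) hc.hWV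
  have hHJ : H ≤ normalizer (J : Set G) := by
    rw [← hLO]
    apply sup_le
    · exact le_normalizer_of_comm_le (hL.trans le_sup_right) hJV
    · intro o ho
      exact mem_normalizer_commSup (hc.hHV (hOH ho)) (hc.hHW (hOH ho)) (Subgroup.le_normalizer ho)
  rcases hc.hirr _ hHJ le_sup_right hJV with h | h
  · have hOW : ⁅V, O⁆ ≤ W := le_sup_left.trans h.le
    have h1 : L ⊔ O ≤ stabMod (V : Set G) W := by
      apply sup_le
      · intro l hl
        refine ⟨hc.hHW (hLH hl), fun v hv => hL (Subgroup.commutator_mem_commutator hv hl)⟩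
      · intro o ho
        refine ⟨hc.hHW (hOH ho), fun v hv => hOW (Subgroup.commutator_mem_commutator hv ho)⟩
    rw [Subgroup.commutator_le]
    intro v hv g hg
    rw [← hLO] at hg
    exact (h1 hg).2 v hv
  · exact absurd h (hc.comm_sup_ne hOH hOp)

end Chief

/-- Existence of a chief factor below an `H`-invariant subgroup. -/
theorem exists_chief {H N : Subgroup G} (hNK : N ≤ pCoreOf p H)
    (hHN : H ≤ normalizer (N : Set G)) (hne : N ≠ ⊥) : ∃ W : Subgroup G, Chief p H N W := by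
  classical
  let S : Set (Subgroup G) := {W | H ≤ normalizer (W : Set G) ∧ W < N}
  have hS : S.Nonempty := ⟨⊥, by
    constructor
    · intro h _
      rw [mem_normalizer_iff_map]
      simp
    · exact bot_lt_iff_ne_bot.mpr hne⟩
  obtain ⟨W, hW⟩ := S.toFinite.exists_maximal hS
  refine ⟨W, hNK, hHN, hW.prop.1, hW.prop.2, ?_⟩
  intro Z hZ hWZ hZN
  by_cases h : Z = N
  · exact Or.inr h
  · left
    have hZS : Z ∈ S := ⟨hZ, lt_of_le_of_ne hZN h⟩
    exact le_antisymm (hW.le_of_ge hZS hWZ) hWZ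

/-- `g` acts trivially on all chief factors of `H` inside `O_p(H)`. -/
def IsStab (p : ℕ) (H : Subgroup G) (g : G) : Prop :=
  ∀ V W : Subgroup G, Chief p H V W → ∀ v ∈ V, ⁅v, g⁆ ∈ W

/-- A `p'`-element stabilizing the chief factors centralizes `O_p(H)`. -/
theorem stab_centralizes {H : Subgroup G} {g : G} (hgH : g ∈ H) (hcop : (orderOf g).Coprime p)
    (hg : IsStab p H g) : ∀ (n : ℕ) (N : Subgroup G), Nat.card N = n → N ≤ pCoreOf p H →
      H ≤ normalizer (N : Set G) → ∀ x ∈ N, ⁅x, g⁆ = 1 := by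
  intro n
  induction n using Nat.strong_induction_on with
  | _ n ih =>
    intro N hn hNK hHN x hx
    by_cases hne : N = ⊥
    · subst hne
      rw [Subgroup.mem_bot] at hx
      subst hx
      simp [commutatorElement_def]
    · obtain ⟨W, hc⟩ := exists_chief hNK hHN hne
      have hlt : Nat.card W < n := hn ▸ Cfsg.Agent.Lib.PGroups.Basic.card_lt_of_lt hc.hlt
      have hW := ih _ hlt W rfl (hc.hWV.trans hNK) hc.hHW
      have hbot : ∀ x : G, x ∈ normalizer (((⊥ : Subgroup G) : Subgroup G) : Set G) := fun x => by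
        rw [Subgroup.normalizer_eq_top (H := (⊥ : Subgroup G))]
        exact Subgroup.mem_top x
      have h := comm_mem_of_coprime (T := N) (U := W) (W := ⊥) (g := g)
        (fun x _ => hbot x) (hbot g) hc.hVp hc.hWV hcop
        (hg N W hc) (fun u hu => by rw [hW u hu]; exact Subgroup.one_mem _)
      simpa using h x hx

/-- A `p'`-element stabilizing the chief factors is trivial, if `C_H(O_p(H)) ≤ O_p(H)`. -/
theorem eq_one_of_stab {H : Subgroup G}
    (hCK : ∀ g ∈ H, g ∈ centralizer ((pCoreOf p H : Subgroup G) : Set G) → g ∈ pCoreOf p H)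
    {g : G} (hgH : g ∈ H) (hcop : (orderOf g).Coprime p) (hg : IsStab p H g) : g = 1 := by
  have h1 : g ∈ centralizer ((pCoreOf p H : Subgroup G) : Set G) := by
    rw [Subgroup.mem_centralizer_iff]
    intro x hx
    have := stab_centralizes hgH hcop hg _ (pCoreOf p H) rfl le_rfl (le_normalizer_pCoreOf H) x hx
    exact (commutatorElement_eq_one_iff_mul_comm.mp this)
  exact eq_one_of_isPElt_of_coprime (IsPElt.of_mem (isPGroup_pCoreOf H) (hCK g hgH h1)) hcop

/-- The subgroup of elements of `H` stabilizing the chief factors. -/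
def stabSub (p : ℕ) (H : Subgroup G) : Subgroup G where
  carrier := {g | g ∈ H ∧ IsStab p H g}
  one_mem' := ⟨H.one_mem, fun V W _ v _ => by simp [commutatorElement_def, W.one_mem]⟩
  mul_mem' := by
    rintro a b ⟨ha, ha'⟩ ⟨hb, hb'⟩
    refine ⟨H.mul_mem ha hb, fun V W hc v hv => ?_⟩
    have h1 : a ∈ stabMod (V : Set G) W := ⟨hc.hHW ha, ha' V W hc⟩
    have h2 : b ∈ stabMod (V : Set G) W := ⟨hc.hHW hb, hb' V W hc⟩
    exact ((stabMod (V : Set G) W).mul_mem h1 h2).2 v hv
  inv_mem' := by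
    rintro a ⟨ha, ha'⟩
    refine ⟨H.inv_mem ha, fun V W hc v hv => ?_⟩
    have h1 : a ∈ stabMod (V : Set G) W := ⟨hc.hHW ha, ha' V W hc⟩
    exact ((stabMod (V : Set G) W).inv_mem h1).2 v hv

/-- elements stabilizing the chief factors lie in `O_p(H)`. -/
theorem mem_pCoreOf_of_stab {H : Subgroup G}
    (hCK : ∀ g ∈ H, g ∈ centralizer ((pCoreOf p H : Subgroup G) : Set G) → g ∈ pCoreOf p H)
    {g : G} (hgH : g ∈ H) (hg : IsStab p H g) : g ∈ pCoreOf p H := by
  have hle : stabSub p H ≤ H := fun _ h => h.1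
  have hn : H ≤ normalizer ((stabSub p H : Subgroup G) : Set G) := by
    intro h hh
    apply mem_normalizer_of_conj_mem
    rintro a ⟨ha, ha'⟩
    refine ⟨H.mul_mem (H.mul_mem hh ha) (H.inv_mem hh), fun V W hc v hv => ?_⟩
    have hv' : h⁻¹ * v * h ∈ V := conj_inv_mem_of_mem_normalizer (hc.hHV hh) hv
    have h1 := conj_mem_of_mem_normalizer (hc.hHW hh) (ha' V W hc _ hv')
    rw [conj_commutatorElement] at h1
    have e : h * (h⁻¹ * v * h) * h⁻¹ = v := by group
    rwa [e] at h1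
  have hp : IsPGroup p (stabSub p H) := isPGroup_of_coprime_trivial fun x hx hcop =>
    eq_one_of_stab hCK hx.1 hcop hx.2
  exact le_pCoreOf hle hn hp ⟨hgH, hg⟩

/-- A pair `(O, Y)` with `Y` central in `O`, and `O_p(H)` normalizing `Y`. -/
structure Pair (p : ℕ) (H O Y : Subgroup G) : Prop where
  hYO : Y ≤ O
  hOC : O ≤ centralizer (Y : Set G)
  hOH : O ≤ H
  hKY : pCoreOf p H ≤ normalizer (Y : Set G)
  hOp : IsPGroup p O

namespace Pair

variable {H O Y V W : Subgroup G}

theorem hYH (hP : Pair p H O Y) : Y ≤ H := hP.hYO.trans hP.hOH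

theorem hYp (hP : Pair p H O Y) : IsPGroup p Y := hP.hOp.to_le hP.hYO

theorem hYY (hP : Pair p H O Y) : Y ≤ centralizer (Y : Set G) := hP.hYO.trans hP.hOC

theorem hON (hP : Pair p H O Y) : O ≤ normalizer (Y : Set G) :=
  hP.hOC.trans (Subgroup.centralizer_le_normalizer _)

/-- Conjugating a pair by an element of `H`. -/
theorem conj (hP : Pair p H O Y) {l : G} (hl : l ∈ H) :
    Pair p H (O.map (MulAut.conj l).toMonoidHom) (Y.map (MulAut.conj l).toMonoidHom) where
  hYO := map_conj_mono l hP.hYO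
  hOC := by
    rw [centralizer_map_conj]
    exact map_conj_mono l hP.hOC
  hOH := conj_le_of_mem hP.hOH hl
  hKY := by
    rw [normalizer_map_conj]
    have h := map_conj_mono l hP.hKY
    rwa [mem_normalizer_iff_map.mp (le_normalizer_pCoreOf H hl)] at h
  hOp := isPGroup_map_conj l hP.hOp

theorem comm_le_right (hP : Pair p H O Y) (hc : Chief p H V W) : ⁅V, Y⁆ ≤ Y :=
  commutator_le_right_of_le_normalizer (hc.hVK.trans hP.hKY)

theorem comm_le_left (hP : Pair p H O Y) (hc : Chief p H V W) : ⁅V, Y⁆ ≤ V :=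
  commutator_le_left_of_le_normalizer (hP.hYH.trans hc.hHV)

theorem commSup_le (hP : Pair p H O Y) (hc : Chief p H V W) : ⁅V, Y⁆ ⊔ W ≤ V :=
  sup_le (hP.comm_le_left hc) hc.hWV

/-- `[V, Y] W ≤ C_V(Y)` modulo `W`. -/
theorem commSup_le_fix (hP : Pair p H O Y) (hc : Chief p H V W) : ⁅V, Y⁆ ⊔ W ≤ fixMod V W Y := by
  apply sup_le _ (hc.le_fixMod hP.hYH)
  intro a ha
  refine ⟨hP.comm_le_left hc ha, hc.hVW (hP.comm_le_left hc ha), fun y hy => ?_⟩
  have h1 : a * y = y * a := by
    exact ((Subgroup.mem_centralizer_iff.mp (hP.hYY (hP.comm_le_right hc ha))) y hy).symm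
  rw [commutatorElement_eq_one_iff_mul_comm.mpr h1]
  exact W.one_mem

/-- `[V, Y] W ≤ C_V(O)` modulo `W`. -/
theorem commSup_le_fix_O (hP : Pair p H O Y) (hc : Chief p H V W) : ⁅V, Y⁆ ⊔ W ≤ fixMod V W O := by
  apply sup_le _ (hc.le_fixMod hP.hOH)
  intro a ha
  refine ⟨hP.comm_le_left hc ha, hc.hVW (hP.comm_le_left hc ha), fun o ho => ?_⟩
  have h1 : a * o = o * a := by
    exact Subgroup.mem_centralizer_iff.mp (hP.hOC ho) a (hP.comm_le_right hc ha)
  rw [commutatorElement_eq_one_iff_mul_comm.mpr h1]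
  exact W.one_mem

/-- `[V, O] ≤ C_V(Y)` modulo `W`, by the three-subgroup lemma. -/
theorem comm_O_le_fix (hP : Pair p H O Y) (hc : Chief p H V W) : ⁅V, O⁆ ≤ fixMod V W Y := by
  have h3 : ⁅⁅V, O⁆, Y⁆ = ⊥ := by
    apply Subgroup.commutator_commutator_eq_bot_of_rotate
    · have : ⁅O, Y⁆ = ⊥ := commutator_eq_bot_iff_le_centralizer'.mpr hP.hOC
      rw [this, Subgroup.commutator_bot_left]
    · have h4 : ⁅Y, V⁆ ≤ Y := commutator_le_left_of_le_normalizer (hc.hVK.trans hP.hKY)
      rw [eq_bot_iff]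
      refine (Subgroup.commutator_mono h4 le_rfl).trans ?_
      rw [Subgroup.commutator_comm, commutator_eq_bot_iff_le_centralizer'.mpr hP.hOC]
  intro a ha
  have haV : a ∈ V := commutator_le_left_of_le_normalizer (hP.hOH.trans hc.hHV) ha
  refine ⟨haV, hc.hVW haV, fun y hy => ?_⟩
  have h5 : ⁅a, y⁆ ∈ ⁅⁅V, O⁆, Y⁆ := Subgroup.commutator_mem_commutator ha hy
  rw [h3, Subgroup.mem_bot] at h5
  rw [h5]
  exact W.one_mem

end Pair

end Cfsg.Agent.Lib.LocalStruct.AsymL2
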