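/-
The asymmetric `L`-lemma, part 3: a chief factor of `H` in `O_p(H)` and a pair of conjugates of `Y`
generating `L`.
-/
import Cfsg.Agent.Lib.LocalStruct.AsymL2

set_option autoImplicit false
set_option linter.style.haveILetI false
set_option linter.unusedSectionVars false

namespace Cfsg.Agent.Lib.LocalStruct.AsymL3

open Subgroup Cfsg Cfsg.Agent.Lib.LocalStruct.Basic Cfsg.Agent.Lib.LocalStruct.Comm
  Cfsg.Agent.Lib.LocalStruct.PCoreOf Cfsg.Agent.Lib.LocalStruct.WeakClosed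
  Cfsg.Agent.Lib.LocalStruct.AsymL1 Cfsg.Agent.Lib.LocalStruct.AsymL2
open scoped commutatorElement

universe u

variable {G : Type u} [Group G] [Finite G] {p : ℕ} [Fact p.Prime]

/-- two pairs whose `Y`s generate a complement-like `L`. -/
structure Far (p : ℕ) (H O₁ Y₁ O₂ Y₂ : Subgroup G) : Prop where
  h1 : Pair p H O₁ Y₁
  h2 : Pair p H O₂ Y₂
  hs1 : (Y₁ ⊔ Y₂) ⊔ O₁ = H
  hs2 : (Y₁ ⊔ Y₂) ⊔ O₂ = H

namespace Far

variable {H O₁ Y₁ O₂ Y₂ V W : Subgroup G}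

theorem symm (hF : Far p H O₁ Y₁ O₂ Y₂) : Far p H O₂ Y₂ O₁ Y₁ :=
  ⟨hF.h2, hF.h1, by rw [sup_comm Y₂ Y₁]; exact hF.hs2, by rw [sup_comm Y₂ Y₁]; exact hF.hs1⟩

theorem hLH (hF : Far p H O₁ Y₁ O₂ Y₂) : Y₁ ⊔ Y₂ ≤ H := le_sup_left.trans hF.hs1.le

theorem comm_L_le (hF : Far p H O₁ Y₁ O₂ Y₂) (hc : Chief p H V W) :
    ⁅V, Y₁ ⊔ Y₂⁆ ≤ (⁅V, Y₁⁆ ⊔ W) ⊔ (⁅V, Y₂⁆ ⊔ W) := by
  set I : Subgroup G := (⁅V, Y₁⁆ ⊔ W) ⊔ (⁅V, Y₂⁆ ⊔ W) with hI
  have hIV : I ≤ V := sup_le (hF.h1.commSup_le hc) (hF.h2.commSup_le hc)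
  have h1 : ⁅V, Y₁⁆ ≤ I := le_sup_left.trans le_sup_left
  have h2 : ⁅V, Y₂⁆ ≤ I := le_sup_left.trans le_sup_right
  have hs : Y₁ ⊔ Y₂ ≤ stabMod (V : Set G) I := by
    apply sup_le
    · exact fun y hy => ⟨le_normalizer_of_comm_le h1 hIV hy,
        fun v hv => h1 (Subgroup.commutator_mem_commutator hv hy)⟩
    · exact fun y hy => ⟨le_normalizer_of_comm_le h2 hIV hy,
        fun v hv => h2 (Subgroup.commutator_mem_commutator hv hy)⟩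
  rw [Subgroup.commutator_le]
  intro v hv l hl
  exact (hs hl).2 v hv

theorem sup_fix_eq (hF : Far p H O₁ Y₁ O₂ Y₂) (hc : Chief p H V W) :
    (⁅V, Y₂⁆ ⊔ W) ⊔ fixMod V W Y₁ = V := by
  set I : Subgroup G := (⁅V, Y₁⁆ ⊔ W) ⊔ (⁅V, Y₂⁆ ⊔ W) with hI
  set U : Subgroup G := I ⊔ fixMod V W Y₁ with hU
  have hIV : I ≤ V := sup_le (hF.h1.commSup_le hc) (hF.h2.commSup_le hc)
  have hUV : U ≤ V := sup_le hIV (fixMod_le _ _ _)
  have hHU : H ≤ normalizer (U : Set G) := by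
    rw [← hF.hs1]
    apply sup_le
    · exact le_normalizer_of_comm_le ((hF.comm_L_le hc).trans le_sup_left) hUV
    · exact le_normalizer_of_comm_le ((hF.h1.comm_O_le_fix hc).trans le_sup_right) hUV
  have hWU : W ≤ U := le_sup_right.trans (le_sup_left.trans le_sup_left)
  rcases hc.hirr U hHU hWU hUV with h | h
  · exfalso
    have h1 : ⁅V, Y₁⁆ ≤ W := (le_sup_left.trans (le_sup_left.trans le_sup_left)).trans h.le
    have h2 : V ≤ fixMod V W Y₁ := fun v hv =>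
      ⟨hv, hc.hVW hv, fun y hy => h1 (Subgroup.commutator_mem_commutator hv hy)⟩
    have h3 : V ≤ W := h2.trans (le_sup_right.trans h.le)
    exact absurd hc.hlt (not_lt_of_ge h3)
  · apply le_antisymm (sup_le (hF.h2.commSup_le hc) (fixMod_le _ _ _))
    calc V = U := h.symm
      _ ≤ _ := sup_le (sup_le ((hF.h1.commSup_le_fix hc).trans le_sup_right) le_sup_left)
        le_sup_right

theorem inf_fix_le (hF : Far p H O₁ Y₁ O₂ Y₂) (hc : Chief p H V W) (hnc : ¬ ⁅V, H⁆ ≤ W) :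
    (⁅V, Y₂⁆ ⊔ W) ⊓ fixMod V W Y₁ ≤ W := by
  rintro x ⟨hx2, hx1⟩
  have hs : H ≤ stabMod ({x} : Set G) W := by
    rw [← hF.hs2]
    refine sup_le (sup_le ?_ ?_) ?_
    · intro y hy
      exact ⟨hc.hHW (hF.h1.hYH hy), by rintro v rfl; exact hx1.2.2 y hy⟩
    · intro y hy
      exact ⟨hc.hHW (hF.h2.hYH hy), by
        rintro v rfl; exact ((hF.h2.commSup_le_fix hc) hx2).2.2 y hy⟩
    · intro o ho
      exact ⟨hc.hHW (hF.h2.hOH ho), by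
        rintro v rfl; exact ((hF.h2.commSup_le_fix_O hc) hx2).2.2 o ho⟩
  exact hc.mem_of_fix hnc hx1.1 fun h hh => (hs hh).2 x rfl

theorem inf_I_le (hF : Far p H O₁ Y₁ O₂ Y₂) (hc : Chief p H V W) (hnc : ¬ ⁅V, H⁆ ≤ W) :
    fixMod V W Y₁ ⊓ ((⁅V, Y₁⁆ ⊔ W) ⊔ (⁅V, Y₂⁆ ⊔ W)) ≤ ⁅V, Y₁⁆ ⊔ W := by
  rintro x ⟨hx1, hxI⟩
  have hVN := hc.le_normalizer_of_between (le_sup_right) (hF.h1.commSup_le hc)
  obtain ⟨a, ha, b, hb, rfl⟩ := mem_sup_of_le_normalizer ((hF.h2.commSup_le hc).trans hVN) hxI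
  have hb1 : b ∈ fixMod V W Y₁ := by
    have := (fixMod V W Y₁).mul_mem ((fixMod V W Y₁).inv_mem ((hF.h1.commSup_le_fix hc) ha)) hx1
    simpa using this
  have hbW := hF.inf_fix_le hc hnc ⟨hb, hb1⟩
  exact Subgroup.mul_mem _ ha ((le_sup_right : W ≤ ⁅V, Y₁⁆ ⊔ W) hbW)

theorem exists_decomp (hF : Far p H O₁ Y₁ O₂ Y₂) (hc : Chief p H V W) {c : G}
    (hc' : c ∈ fixMod V W Y₁) :
    ∃ a ∈ ⁅V, Y₁⁆ ⊔ W, ∃ d ∈ fixMod V W Y₁ ⊓ fixMod V W Y₂, c = a * d := by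
  have hV := hF.symm.sup_fix_eq hc
  have hVN := hc.le_normalizer_of_between (le_sup_right) (hF.h1.commSup_le hc)
  have hcV : c ∈ (⁅V, Y₁⁆ ⊔ W) ⊔ fixMod V W Y₂ := by
    rw [hV]
    exact hc'.1
  obtain ⟨a, ha, b, hb, rfl⟩ := mem_sup_of_le_normalizer ((fixMod_le _ _ _).trans hVN) hcV
  refine ⟨a, ha, b, ⟨?_, hb⟩, rfl⟩
  have := (fixMod V W Y₁).mul_mem ((fixMod V W Y₁).inv_mem ((hF.h1.commSup_le_fix hc) ha)) hc'
  simpa using this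

/-- the key fact for commuting conjugates -/
theorem conj_of_comm (hF : Far p H O₁ Y₁ O₂ Y₂) (hc : Chief p H V W) (hnc : ¬ ⁅V, H⁆ ≤ W) {t : G}
    (ht : t ∈ Y₁ ⊔ Y₂) (hcomm : ⁅Y₁, Y₁.map (MulAut.conj t).toMonoidHom⁆ = ⊥) :
    ⁅V, Y₁.map (MulAut.conj t).toMonoidHom⁆ ⊔ W = ⁅V, Y₁⁆ ⊔ W ∧
      fixMod V W (Y₁.map (MulAut.conj t).toMonoidHom) = fixMod V W Y₁ ∧
      t ∈ stabMod ((fixMod V W Y₁ : Subgroup G) : Set G) (⁅V, Y₁⁆ ⊔ W) := by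
  set A : Subgroup G := ⁅V, Y₁⁆ ⊔ W with hA
  set Yt : Subgroup G := Y₁.map (MulAut.conj t).toMonoidHom with hYt
  have htH : t ∈ H := hF.hLH ht
  have hPt : Pair p H (O₁.map (MulAut.conj t).toMonoidHom) Yt := hF.h1.conj htH
  have hAC : A ≤ fixMod V W Y₁ := hF.h1.commSup_le_fix hc
  have h1 : ⁅V, Yt⁆ ⊔ W ≤ fixMod V W Y₁ := by
    apply sup_le _ (hc.le_fixMod hF.h1.hYH)
    intro a ha
    refine ⟨hPt.comm_le_left hc ha, hc.hVW (hPt.comm_le_left hc ha), fun y hy => ?_⟩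
    have h2 : y * a = a * y := commutator_eq_bot_iff_forall.mp hcomm y hy a (hPt.comm_le_right hc ha)
    rw [commutatorElement_eq_one_iff_mul_comm.mpr h2.symm]
    exact W.one_mem
  have h3 : Yt ≤ Y₁ ⊔ Y₂ := conj_le_of_mem le_sup_left ht
  have h4 : ⁅V, Yt⁆ ⊔ W ≤ A ⊔ (⁅V, Y₂⁆ ⊔ W) := by
    apply sup_le
    · exact (Subgroup.commutator_mono le_rfl h3).trans (hF.comm_L_le hc)
    · exact le_sup_right.trans le_sup_left
  have h5 : ⁅V, Yt⁆ ⊔ W ≤ A := (le_inf h1 h4).trans (hF.inf_I_le hc hnc)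
  have hVt := hc.hHV htH
  have hWt := hc.hHW htH
  have h6 : ⁅V, Yt⁆ ⊔ W = A := by
    apply Subgroup.eq_of_le_of_card_ge h5
    rw [hYt, ← map_commSup Y₁ hVt hWt, card_map_conj]
  have hAt : t ∈ normalizer (A : Set G) := by
    rw [mem_normalizer_iff_map, hA, map_commSup Y₁ hVt hWt]
    exact h6
  have hst : t ∈ stabMod ((fixMod V W Y₁ : Subgroup G) : Set G) A := by
    refine ⟨hAt, fun c hc' => ?_⟩
    obtain ⟨a, ha, d, hd, rfl⟩ := hF.exists_decomp hc hc'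
    have e : ⁅a * d, t⁆ = (a * ⁅d, t⁆ * a⁻¹) * ⁅a, t⁆ := by
      simp only [commutatorElement_def]; group
    rw [e]
    have hs : Y₁ ⊔ Y₂ ≤ stabMod ({d} : Set G) W := by
      apply sup_le
      · intro y hy
        exact ⟨hc.hHW (hF.h1.hYH hy), by rintro v rfl; exact hd.1.2.2 y hy⟩
      · intro y hy
        exact ⟨hc.hHW (hF.h2.hYH hy), by rintro v rfl; exact hd.2.2.2 y hy⟩
    have h7 : ⁅d, t⁆ ∈ A := (le_sup_right : W ≤ A) ((hs ht).2 d rfl)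
    refine A.mul_mem (A.mul_mem (A.mul_mem ha h7) (A.inv_mem ha)) ?_
    have e2 : ⁅a, t⁆ = a * (t * a⁻¹ * t⁻¹) := by
      simp only [commutatorElement_def]; group
    rw [e2]
    exact A.mul_mem ha (conj_mem_of_mem_normalizer hAt (A.inv_mem ha))
  refine ⟨h6, ?_, hst⟩
  have hCt : t ∈ normalizer ((fixMod V W Y₁ : Subgroup G) : Set G) := by
    apply mem_normalizer_of_conj_mem
    intro c hc'
    have h8 : ⁅c, t⁆ ∈ fixMod V W Y₁ := hAC (hst.2 c hc')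
    have e3 : t * c * t⁻¹ = (⁅c, t⁆)⁻¹ * c := by
      simp only [commutatorElement_def]; group
    rw [e3]
    exact Subgroup.mul_mem _ (Subgroup.inv_mem _ h8) hc'
  rw [hYt, ← map_fixMod Y₁ hVt hWt]
  exact mem_normalizer_iff_map.mp hCt

end Far

end Cfsg.Agent.Lib.LocalStruct.AsymL3
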