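/-
The asymmetric `L`-lemma, part 4: the core configuration and the key conjugation statement.
-/
import Cfsg.Agent.Lib.LocalStruct.AsymL3
import Cfsg.Agent.S0199

set_option autoImplicit false
set_option linter.style.haveILetI false
set_option linter.unusedSectionVars false

namespace Cfsg.Agent.Lib.LocalStruct.AsymL4

open Subgroup Cfsg Cfsg.Agent.Lib.LocalStruct.Basic Cfsg.Agent.Lib.LocalStruct.Comm
  Cfsg.Agent.Lib.LocalStruct.PCoreOf Cfsg.Agent.Lib.LocalStruct.WeakClosed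
  Cfsg.Agent.Lib.LocalStruct.AsymL1 Cfsg.Agent.Lib.LocalStruct.AsymL2
  Cfsg.Agent.Lib.LocalStruct.AsymL3 Cfsg.Agent.Lib.Core.Basic
open scoped commutatorElement

universe u

variable {G : Type u} [Group G] [Finite G] {p : ℕ} [Fact p.Prime]

/-- whoever normalizes `C` and `A` normalizes the kernel of the action on `C / A`. -/
theorem mem_normalizer_stabMod {C A : Subgroup G} {g : G} (hC : g ∈ normalizer (C : Set G))
    (hA : g ∈ normalizer (A : Set G)) :
    g ∈ normalizer ((stabMod (C : Set G) A : Subgroup G) : Set G) := by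
  apply mem_normalizer_of_conj_mem
  rintro k ⟨hk, hk'⟩
  refine ⟨mul_mem (mul_mem hA hk) (inv_mem hA), fun c hc => ?_⟩
  have hc' : g⁻¹ * c * g ∈ C := conj_inv_mem_of_mem_normalizer hC hc
  have h1 := conj_mem_of_mem_normalizer hA (hk' _ hc')
  rw [conj_commutatorElement] at h1
  have e : g * (g⁻¹ * c * g) * g⁻¹ = c := by group
  rwa [e] at h1

theorem exists_pow_eq_mul {K O : Subgroup G} (h : O ≤ normalizer (K : Set G)) {k o : G}
    (hk : k ∈ K) (ho : o ∈ O) (n : ℕ) : ∃ k₁ ∈ K, (k * o) ^ n = k₁ * o ^ n := by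
  induction n with
  | zero => exact ⟨1, K.one_mem, by simp⟩
  | succ n ih =>
    obtain ⟨k₁, hk₁, e⟩ := ih
    refine ⟨k₁ * (o ^ n * k * (o ^ n)⁻¹), K.mul_mem hk₁
      (conj_mem_of_mem_normalizer (h (O.pow_mem ho n)) hk), ?_⟩
    rw [pow_succ, e, pow_succ]
    group

/-- A `p'`-element of `K O`, with `O` a `p`-group normalizing `K`, lies in `K`. -/
theorem mem_of_coprime_of_sup {K O : Subgroup G} (h : O ≤ normalizer (K : Set G))
    (hO : IsPGroup p O) {g : G} (hg : g ∈ K ⊔ O) (hcop : (orderOf g).Coprime p) : g ∈ K := by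
  obtain ⟨k, hk, o, ho, rfl⟩ := mem_sup_of_le_normalizer h hg
  obtain ⟨e, he⟩ := IsPElt.of_mem hO ho
  obtain ⟨k₁, hk₁, h2⟩ := exists_pow_eq_mul h hk ho (p ^ e)
  rw [he, mul_one] at h2
  have hc : (p ^ e).Coprime (orderOf (k * o)) := (Nat.Coprime.pow_right _ hcop).symm
  obtain ⟨m, hm⟩ := exists_pow_eq_self_of_coprime hc
  rw [← hm, h2]
  exact K.pow_mem hk₁ m

/-- The configuration of the asymmetric `L`-lemma. -/
structure Core (p : ℕ) (O Y H L : Subgroup G) : Prop where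
  hOp : IsPGroup p O
  hYO : Y ≤ O
  hOC : O ≤ centralizer (Y : Set G)
  hu : UniqueConj p O
  hNO : normalizer (O : Set G) ≤ normalizer (Y : Set G)
  hasym : ∀ g : G, ⁅Y, Y.map (MulAut.conj g).toMonoidHom⁆ ≤ Y ⊓ Y.map (MulAut.conj g).toMonoidHom →
    ⁅Y, Y.map (MulAut.conj g).toMonoidHom⁆ = ⊥
  hOH : O ≤ H
  hCK : ∀ g ∈ H, g ∈ centralizer ((pCoreOf p H : Subgroup G) : Set G) → g ∈ pCoreOf p H
  hYK : ¬ Y ≤ pCoreOf p H
  hmin : ∀ P : Subgroup G, O ≤ P → P < H → Y ≤ pCoreOf p P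
  hLH : L ≤ H
  hYL : Y ≤ L
  hYOL : ¬ Y ≤ pCoreOf p L
  hminL : ∀ L' : Subgroup G, L' ≤ L → Y ≤ L' → ¬ Y ≤ pCoreOf p L' → L' = L

namespace Core

variable {O Y H L V W : Subgroup G}

theorem hKO (hC : Core p O Y H L) : pCoreOf p H ≤ normalizer (O : Set G) := by
  have h1 : IsPGroup p (O ⊔ pCoreOf p H : Subgroup G) :=
    IsPGroup.to_sup_of_normal_right' hC.hOp (isPGroup_pCoreOf H)
      (hC.hOH.trans (le_normalizer_pCoreOf H))
  exact le_sup_right.trans (hC.hu.le_normalizer_of_le h1 le_sup_left)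

theorem pair (hC : Core p O Y H L) : Pair p H O Y where
  hYO := hC.hYO
  hOC := hC.hOC
  hOH := hC.hOH
  hKY := hC.hKO.trans hC.hNO
  hOp := hC.hOp

/-- `L O = H`. -/
theorem sup_O_eq (hC : Core p O Y H L) : L ⊔ O = H := by
  by_contra hne
  have hlt : L ⊔ O < H := lt_of_le_of_ne (sup_le hC.hLH hC.hOH) hne
  have h1 := hC.hmin _ le_sup_right hlt
  apply hC.hYOL
  have h2 : L ≤ normalizer ((pCoreOf p (L ⊔ O) : Subgroup G) : Set G) :=
    le_sup_left.trans (le_normalizer_pCoreOf _)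
  have h3 : pCoreOf p (L ⊔ O) ⊓ L ≤ pCoreOf p L := by
    apply le_pCoreOf inf_le_right
    · intro l hl
      exact Cfsg.Agent.Lib.LocalStruct.FrakH2.mem_normalizer_inf (h2 hl) (Subgroup.le_normalizer hl)
    · exact (isPGroup_pCoreOf (L ⊔ O)).to_le inf_le_left
  exact (le_inf h1 hC.hYL).trans h3

/-- the Baer-Suzuki step: there is a conjugate of `Y` in `L` generating `L` with `Y`. -/
theorem exists_far (hC : Core p O Y H L) :
    ∃ h ∈ L, Y ⊔ Y.map (MulAut.conj h).toMonoidHom = L := by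
  by_contra hno
  push Not at hno
  have hYp : IsPGroup p Y := hC.hOp.to_le hC.hYO
  have hp : ∀ g ∈ L, IsPGroup p (Y ⊔ Y.map (MulAut.conj g).toMonoidHom : Subgroup G) := by
    intro g hg
    set X : Subgroup G := Y ⊔ Y.map (MulAut.conj g).toMonoidHom with hX
    have hXL : X ≤ L := sup_le hC.hYL (conj_le_of_mem hC.hYL hg)
    have h1 : Y ≤ pCoreOf p X := by
      by_contra h
      exact hno g hg (hC.hminL X hXL le_sup_left h)
    have h2 : IsPGroup p (Y.map (MulAut.conj g).toMonoidHom ⊔ pCoreOf p X : Subgroup G) :=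
      IsPGroup.to_sup_of_normal_right' (isPGroup_map_conj g hYp) (isPGroup_pCoreOf X)
        ((le_sup_right : _ ≤ X).trans (le_normalizer_pCoreOf X))
    exact h2.to_le (sup_le (h1.trans le_sup_right) le_sup_left)
  set A : Subgroup ↥L := Y.subgroupOf L with hA
  have hAp : IsPGroup p A := hYp.comap_of_injective L.subtype L.subtype_injective
  have hBS : ∀ g : ↥L, IsPGroup p ↥(A ⊔ A.map (MulAut.conj g).toMonoidHom) := by
    intro g
    have h3 : A ⊔ A.map (MulAut.conj g).toMonoidHom ≤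
        (Y ⊔ Y.map (MulAut.conj (g : G)).toMonoidHom).subgroupOf L := by
      apply sup_le
      · intro a ha
        rw [Subgroup.mem_subgroupOf]
        exact (le_sup_left : Y ≤ _) ha
      · rintro _ ⟨a, ha, rfl⟩
        rw [Subgroup.mem_subgroupOf]
        apply (le_sup_right : Y.map (MulAut.conj (g : G)).toMonoidHom ≤ _)
        exact ⟨a, ha, by simp [MulAut.conj_apply]⟩
    exact IsPGroup.to_le ((hp g g.2).comap_of_injective L.subtype L.subtype_injective) h3
  obtain ⟨N, hN, hNp, hAN⟩ := Cfsg.Agent.S0199.result A hAp hBS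
  apply hC.hYOL
  intro y hy
  have h4 : (⟨y, hC.hYL hy⟩ : ↥L) ∈ pCore p ↥L := le_pCore hN hNp (hAN (by
    rw [hA, Subgroup.mem_subgroupOf]
    exact hy))
  exact ⟨_, h4, rfl⟩

/-- A far conjugate gives a `Far` configuration. -/
theorem far (hC : Core p O Y H L) {h : G} (hh : h ∈ L)
    (hs : Y ⊔ Y.map (MulAut.conj h).toMonoidHom = L) :
    Far p H O Y (O.map (MulAut.conj h).toMonoidHom) (Y.map (MulAut.conj h).toMonoidHom) where
  h1 := hC.pair
  h2 := hC.pair.conj (hC.hLH hh)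
  hs1 := by rw [hs, hC.sup_O_eq]
  hs2 := by
    rw [hs]
    have e1 : L.map (MulAut.conj h).toMonoidHom = L :=
      mem_normalizer_iff_map.mp (Subgroup.le_normalizer hh)
    have e2 : H.map (MulAut.conj h).toMonoidHom = H :=
      mem_normalizer_iff_map.mp (Subgroup.le_normalizer (hC.hLH hh))
    calc L ⊔ O.map (MulAut.conj h).toMonoidHom
        = (L ⊔ O).map (MulAut.conj h).toMonoidHom := by rw [Subgroup.map_sup, e1]
      _ = H := by rw [hC.sup_O_eq, e2]

/-- the `p`-core of an overgroup of `O` normalizes `Y`. -/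
theorem pCoreOf_le_normalizer (hC : Core p O Y H L) {P : Subgroup G} (hOP : O ≤ P) :
    pCoreOf p P ≤ normalizer (Y : Set G) := by
  have h1 : IsPGroup p (O ⊔ pCoreOf p P : Subgroup G) :=
    IsPGroup.to_sup_of_normal_right' hC.hOp (isPGroup_pCoreOf P)
      (hOP.trans (le_normalizer_pCoreOf P))
  exact (le_sup_right.trans (hC.hu.le_normalizer_of_le h1 le_sup_left)).trans hC.hNO

/-- two conjugates of `Y` under `l ∈ H` whose `O`s generate a proper subgroup commute. -/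
theorem comm_of_sup_lt (hC : Core p O Y H L) {l : G} (hl : l ∈ H)
    (hlt : O ⊔ O.map (MulAut.conj l).toMonoidHom < H) :
    ⁅Y, Y.map (MulAut.conj l).toMonoidHom⁆ = ⊥ := by
  set P : Subgroup G := O ⊔ O.map (MulAut.conj l).toMonoidHom with hP
  set R : Subgroup G := pCoreOf p P with hR
  have hYR : Y ≤ R := hC.hmin P le_sup_left hlt
  have hHl : H.map (MulAut.conj l⁻¹).toMonoidHom = H :=
    mem_normalizer_iff_map.mp (Subgroup.le_normalizer (H.inv_mem hl))
  have hHl' : H.map (MulAut.conj l).toMonoidHom = H :=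
    mem_normalizer_iff_map.mp (Subgroup.le_normalizer hl)
  have h1 : O ≤ P.map (MulAut.conj l⁻¹).toMonoidHom := by
    rw [le_map_conj_iff, inv_inv]
    exact le_sup_right
  have h2 : P.map (MulAut.conj l⁻¹).toMonoidHom < H := by
    apply lt_of_le_of_ne ((map_conj_mono l⁻¹ hlt.le).trans hHl.le)
    intro h
    have := congrArg (Subgroup.map (MulAut.conj l).toMonoidHom) h
    rw [map_conj_map_conj_inv, hHl'] at this
    exact hlt.ne this
  have hY2 : Y.map (MulAut.conj l).toMonoidHom ≤ R := by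
    rw [map_conj_le_iff_le_inv, hR, pCoreOf_conj]
    exact hC.hmin _ h1 h2
  have hRY : R ≤ normalizer (Y : Set G) := hC.pCoreOf_le_normalizer le_sup_left
  have hRY2 : R ≤ normalizer ((Y.map (MulAut.conj l).toMonoidHom : Subgroup G) : Set G) := by
    have h3 := hC.pCoreOf_le_normalizer h1
    have h4 := map_conj_mono l h3
    rwa [← pCoreOf_conj, map_conj_map_conj_inv, ← normalizer_map_conj] at h4
  exact hC.hasym l (commutator_le_inf_of_normalizes (hY2.trans hRY) (hYR.trans hRY2))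

/-- Lemma C: an element of `[V, Y] W` and `[V, Y^l] W` outside `W` forces `[Y, Y^l] = 1`. -/
theorem comm_of_mem (hC : Core p O Y H L) (hc : Chief p H V W) (hnc : ¬ ⁅V, H⁆ ≤ W) {l : G}
    (hl : l ∈ H) {x : G} (hx : x ∈ ⁅V, Y⁆ ⊔ W)
    (hx2 : x ∈ ⁅V, Y.map (MulAut.conj l).toMonoidHom⁆ ⊔ W) (hxW : x ∉ W) :
    ⁅Y, Y.map (MulAut.conj l).toMonoidHom⁆ = ⊥ := by
  have hPl := hC.pair.conj hl
  apply hC.comm_of_sup_lt hl
  apply lt_of_le_of_ne (sup_le hC.hOH hPl.hOH)
  intro hE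
  apply hxW
  have hs : H ≤ stabMod ({x} : Set G) W := by
    rw [← hE]
    apply sup_le
    · intro o ho
      exact ⟨hc.hHW (hC.hOH ho), by rintro v rfl; exact ((hC.pair.commSup_le_fix_O hc) hx).2.2 o ho⟩
    · intro o ho
      exact ⟨hc.hHW (hPl.hOH ho), by rintro v rfl; exact ((hPl.commSup_le_fix_O hc) hx2).2.2 o ho⟩
  exact hc.mem_of_fix hnc (hC.pair.commSup_le hc hx) fun h hh => (hs hh).2 x rfl

/-- `Y` acts nontrivially on a noncentral chief factor. -/
theorem not_comm_le (hC : Core p O Y H L) (hc : Chief p H V W) (hnc : ¬ ⁅V, H⁆ ≤ W) {h : G}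
    (hh : h ∈ L) (hs : Y ⊔ Y.map (MulAut.conj h).toMonoidHom = L) : ¬ ⁅V, Y⁆ ≤ W := by
  intro hle
  apply hnc
  apply hc.comm_top_le_of_sup hC.sup_O_eq hC.hOp
  have hhH := hC.hLH hh
  have h2 : ⁅V, Y.map (MulAut.conj h).toMonoidHom⁆ ≤ W := by
    have h3 := map_conj_mono h (sup_le hle le_rfl : ⁅V, Y⁆ ⊔ W ≤ W)
    rw [map_commSup Y (hc.hHV hhH) (hc.hHW hhH), mem_normalizer_iff_map.mp (hc.hHW hhH)] at h3
    exact le_sup_left.trans h3
  have h4 : Y ⊔ Y.map (MulAut.conj h).toMonoidHom ≤ stabMod (V : Set G) W := by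
    apply sup_le
    · exact fun y hy => ⟨hc.hHW (hC.pair.hYH hy), fun v hv =>
        hle (Subgroup.commutator_mem_commutator hv hy)⟩
    · exact fun y hy => ⟨hc.hHW ((hC.pair.conj hhH).hYH hy), fun v hv =>
        h2 (Subgroup.commutator_mem_commutator hv hy)⟩
  rw [hs] at h4
  rw [Subgroup.commutator_le]
  intro v hv l hl
  exact (h4 hl).2 v hv

/-- (E3c) If `Y` normalizes `A^g`, then `A^g = A`. -/
theorem conj_A_eq (hC : Core p O Y H L) (hc : Chief p H V W) (hnc : ¬ ⁅V, H⁆ ≤ W) {h : G}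
    (hh : h ∈ L) (hs : Y ⊔ Y.map (MulAut.conj h).toMonoidHom = L) {g : G} (hg : g ∈ L)
    (hN : Y ≤ normalizer ((⁅V, Y.map (MulAut.conj g).toMonoidHom⁆ ⊔ W : Subgroup G) : Set G)) :
    ⁅V, Y.map (MulAut.conj g).toMonoidHom⁆ ⊔ W = ⁅V, Y⁆ ⊔ W := by
  have hF := hC.far hh hs
  have hgH := hC.hLH hg
  have hPg := hC.pair.conj hgH
  set Yg : Subgroup G := Y.map (MulAut.conj g).toMonoidHom with hYg
  set Ag : Subgroup G := ⁅V, Yg⁆ ⊔ W with hAg
  set A : Subgroup G := ⁅V, Y⁆ ⊔ W with hA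
  have hAgV : Ag ≤ V := hPg.commSup_le hc
  by_cases h1 : ∀ a ∈ Ag, ∀ y ∈ Y, ⁅a, y⁆ ∈ W
  · have h2 : Ag ≤ fixMod V W Y := fun a ha => ⟨hAgV ha, hc.hVW (hAgV ha), h1 a ha⟩
    have h3 : Yg ≤ Y ⊔ Y.map (MulAut.conj h).toMonoidHom := by
      rw [hs]
      exact conj_le_of_mem hC.hYL hg
    have h4 : Ag ≤ A ⊔ (⁅V, Y.map (MulAut.conj h).toMonoidHom⁆ ⊔ W) := by
      apply sup_le
      · exact (Subgroup.commutator_mono le_rfl h3).trans (hF.comm_L_le hc)
      · exact le_sup_right.trans le_sup_left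
    have h5 : Ag ≤ A := (le_inf h2 h4).trans (hF.inf_I_le hc hnc)
    apply Subgroup.eq_of_le_of_card_ge h5
    rw [hAg, hYg, ← map_commSup Y (hc.hHV hgH) (hc.hHW hgH), card_map_conj]
  · push Not at h1
    obtain ⟨a, ha, y, hy, hxW⟩ := h1
    have hx : ⁅a, y⁆ ∈ A := (le_sup_left : ⁅V, Y⁆ ≤ A)
      (Subgroup.commutator_mem_commutator (hAgV ha) hy)
    have hx2 : ⁅a, y⁆ ∈ Ag := commutator_le_left_of_le_normalizer hN
      (Subgroup.commutator_mem_commutator ha hy)
    have hcomm := hC.comm_of_mem hc hnc hgH hx hx2 hxW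
    have hgL : g ∈ Y ⊔ Y.map (MulAut.conj h).toMonoidHom := by
      rw [hs]
      exact hg
    exact (hF.conj_of_comm hc hnc hgL hcomm).1

/-- (E3a) A `p`-subgroup of `L` containing `Y` normalizes `A = [V, Y] W`. -/
theorem le_normalizer_A (hC : Core p O Y H L) (hc : Chief p H V W) (hnc : ¬ ⁅V, H⁆ ≤ W) {h : G}
    (hh : h ∈ L) (hs : Y ⊔ Y.map (MulAut.conj h).toMonoidHom = L) {P : Subgroup G}
    (hPp : IsPGroup p P) (hYP : Y ≤ P) (hPL : P ≤ L) :
    P ≤ normalizer ((⁅V, Y⁆ ⊔ W : Subgroup G) : Set G) := by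
  classical
  set A : Subgroup G := ⁅V, Y⁆ ⊔ W with hA
  set T : Subgroup G := P ⊓ normalizer (A : Set G) with hT
  by_contra hne
  have hTP : T.subgroupOf P ≠ ⊤ := by
    intro h1
    rw [Subgroup.subgroupOf_eq_top] at h1
    exact hne (h1.trans inf_le_right)
  haveI : Group.IsNilpotent ↥P := hPp.isNilpotent
  have hgrow := Group.normalizerCondition_of_isNilpotent (T.subgroupOf P) (lt_top_iff_ne_top.mpr hTP)
  obtain ⟨g, hg, hgT⟩ := SetLike.exists_of_lt hgrow
  have hgP : (g : G) ∈ P := g.2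
  have hgL : (g : G) ∈ L := hPL hgP
  have hgH : (g : G) ∈ H := hC.hLH hgL
  have hgN : (g : G) ∈ normalizer (T : Set G) := by
    apply mem_normalizer_of_conj_mem
    intro x hx
    have h1 := (Subgroup.mem_normalizer_iff.mp hg ⟨x, hx.1⟩).mp (by
      rw [Subgroup.mem_subgroupOf]
      exact hx)
    rw [Subgroup.mem_subgroupOf] at h1
    simpa using h1
  have hYT : Y ≤ T := by
    refine le_inf hYP fun y hy => ?_
    exact mem_normalizer_commSup (hc.hHV (hC.pair.hYH hy)) (hc.hHW (hC.pair.hYH hy))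
      (Subgroup.le_normalizer hy)
  have hYAg : Y ≤ normalizer ((⁅V, Y.map (MulAut.conj (g : G)).toMonoidHom⁆ ⊔ W : Subgroup G) : Set G) := by
    rw [← map_commSup Y (hc.hHV hgH) (hc.hHW hgH), normalizer_map_conj, le_map_conj_iff]
    rintro _ ⟨y, hy, rfl⟩
    have := conj_inv_mem_of_mem_normalizer hgN (hYT hy)
    simpa [MulAut.conj_apply] using this.2
  have hE := hC.conj_A_eq hc hnc hh hs hgL hYAg
  apply hgT
  rw [Subgroup.mem_subgroupOf]
  refine ⟨hgP, ?_⟩
  show (g : G) ∈ normalizer (A : Set G)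
  rw [mem_normalizer_iff_map, hA, map_commSup Y (hc.hHV hgH) (hc.hHW hgH)]
  exact hE

/-- (E3b) `t ∈ L` with `⟨Y, Y^t⟩` a `p`-group gives `[Y, Y^t] = 1`. -/
theorem comm_of_isPGroup (hC : Core p O Y H L) (hc : Chief p H V W) (hnc : ¬ ⁅V, H⁆ ≤ W) {h : G}
    (hh : h ∈ L) (hs : Y ⊔ Y.map (MulAut.conj h).toMonoidHom = L) {t : G} (ht : t ∈ L)
    (hp : IsPGroup p (Y ⊔ Y.map (MulAut.conj t).toMonoidHom : Subgroup G)) :
    ⁅Y, Y.map (MulAut.conj t).toMonoidHom⁆ = ⊥ := by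
  have htH := hC.hLH ht
  have hp2 : IsPGroup p (Y ⊔ Y.map (MulAut.conj t⁻¹).toMonoidHom : Subgroup G) := by
    have := isPGroup_map_conj t⁻¹ hp
    rwa [Subgroup.map_sup, map_conj_inv_map_conj, sup_comm] at this
  have hle := hC.le_normalizer_A hc hnc hh hs hp2 le_sup_left
    (sup_le hC.hYL (conj_le_of_mem hC.hYL (L.inv_mem ht)))
  have h1 : Y ≤ normalizer ((⁅V, Y.map (MulAut.conj t).toMonoidHom⁆ ⊔ W : Subgroup G) : Set G) := by
    rw [← map_commSup Y (hc.hHV htH) (hc.hHW htH), normalizer_map_conj, le_map_conj_iff]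
    exact le_sup_right.trans hle
  have hE := hC.conj_A_eq hc hnc hh hs ht h1
  have hne := hC.not_comm_le hc hnc hh hs
  obtain ⟨x, hx, hxW⟩ := SetLike.not_le_iff_exists.mp hne
  have hx1 : x ∈ ⁅V, Y⁆ ⊔ W := (le_sup_left : ⁅V, Y⁆ ≤ _) hx
  refine hC.comm_of_mem hc hnc htH hx1 ?_ hxW
  rw [hE]
  exact hx1

/-- (*)₀ : commuting conjugates under `L` are equal. -/
theorem conj_eq_of_comm (hC : Core p O Y H L) {h : G}
    (hh : h ∈ L) (hs : Y ⊔ Y.map (MulAut.conj h).toMonoidHom = L) {t : G} (ht : t ∈ L)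
    (hcomm : ⁅Y, Y.map (MulAut.conj t).toMonoidHom⁆ = ⊥) :
    Y.map (MulAut.conj t).toMonoidHom = Y := by
  have hF := hC.far hh hs
  have htH := hC.hLH ht
  have hPt := hC.pair.conj htH
  have htL : t ∈ Y ⊔ Y.map (MulAut.conj h).toMonoidHom := by
    rw [hs]
    exact ht
  set Pi : Subgroup G := O ⊔ O.map (MulAut.conj t).toMonoidHom with hPi
  have hPiH : Pi ≤ H := sup_le hC.hOH hPt.hOH
  have hstab : ∀ g ∈ Pi, (orderOf g).Coprime p → IsStab p H g := by
    intro g hg hcop V W hc v hv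
    have hgH := hPiH hg
    by_cases hnc : ⁅V, H⁆ ≤ W
    · exact hnc (Subgroup.commutator_mem_commutator hv hgH)
    obtain ⟨hA, hCe, hst⟩ := hF.conj_of_comm hc hnc htL hcomm
    set A : Subgroup G := ⁅V, Y⁆ ⊔ W with hAd
    set C : Subgroup G := fixMod V W Y with hCd
    have hOA : O ≤ normalizer (A : Set G) := fun o ho =>
      mem_normalizer_commSup (hc.hHV (hC.hOH ho)) (hc.hHW (hC.hOH ho)) (hC.pair.hON ho)
    have hOC : O ≤ normalizer (C : Set G) := fun o ho =>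
      mem_normalizer_fixMod (hc.hHV (hC.hOH ho)) (hc.hHW (hC.hOH ho)) (hC.pair.hON ho)
    have hOtA : O.map (MulAut.conj t).toMonoidHom ≤ normalizer (A : Set G) := fun o ho => by
      rw [← hA]
      exact mem_normalizer_commSup (hc.hHV (hPt.hOH ho)) (hc.hHW (hPt.hOH ho)) (hPt.hON ho)
    have hOtC : O.map (MulAut.conj t).toMonoidHom ≤ normalizer (C : Set G) := fun o ho => by
      rw [← hCe]
      exact mem_normalizer_fixMod (hc.hHV (hPt.hOH ho)) (hc.hHW (hPt.hOH ho)) (hPt.hON ho)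
    set K₁ : Subgroup G := stabMod (C : Set G) A with hK₁
    have hOK : O ≤ normalizer (K₁ : Set G) := fun o ho => mem_normalizer_stabMod (hOC ho) (hOA ho)
    have hPiK : Pi ≤ K₁ ⊔ O := by
      apply sup_le le_sup_right
      rintro _ ⟨o, ho, rfl⟩
      simp only [MulEquiv.coe_toMonoidHom, MulAut.conj_apply]
      have e : t * o * t⁻¹ = (t * (o * t⁻¹ * o⁻¹)) * o := by group
      rw [e]
      apply Subgroup.mul_mem _ _ ((le_sup_right : O ≤ K₁ ⊔ O) ho)
      apply (le_sup_left : K₁ ≤ K₁ ⊔ O)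
      exact K₁.mul_mem hst (conj_mem_of_mem_normalizer (hOK ho) (K₁.inv_mem hst))
    have hgK : g ∈ K₁ := mem_of_coprime_of_sup hOK hC.hOp (hPiK hg) hcop
    have hPiVC : Pi ≤ stabMod (V : Set G) C := by
      apply sup_le
      · exact fun o ho => ⟨hOC ho, fun v hv =>
          (hC.pair.comm_O_le_fix hc) (Subgroup.commutator_mem_commutator hv ho)⟩
      · refine fun o ho => ⟨hOtC ho, fun v hv => ?_⟩
        rw [← hCe]
        exact (hPt.comm_O_le_fix hc) (Subgroup.commutator_mem_commutator hv ho)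
    have hPiAW : Pi ≤ stabMod (A : Set G) W := by
      apply sup_le
      · exact fun o ho => ⟨hc.hHW (hC.hOH ho), fun a ha => ((hC.pair.commSup_le_fix_O hc) ha).2.2 o ho⟩
      · refine fun o ho => ⟨hc.hHW (hPt.hOH ho), fun a ha => ?_⟩
        rw [← hA] at ha
        exact ((hPt.commSup_le_fix_O hc) ha).2.2 o ho
    have hCV : C ≤ V := fixMod_le _ _ _
    have hAC : A ≤ C := hC.pair.commSup_le_fix hc
    have hCW := comm_mem_of_coprime (T := C) (U := A) (W := W) (g := g)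
      (hCV.trans hc.hVW) (hc.hHW hgH) (hc.hVp.to_le hCV) hAC hcop hgK.2 (hPiAW hg).2
    exact comm_mem_of_coprime (T := V) (U := C) (W := W) (g := g)
      hc.hVW (hc.hHW hgH) hc.hVp hCV hcop (hPiVC hg).2 hCW v hv
  have hPip : IsPGroup p Pi := isPGroup_of_coprime_trivial fun g hg hcop =>
    eq_one_of_stab hC.hCK (hPiH hg) hcop (hstab g hg hcop)
  have hO := hC.hu.eq_of_le hPip le_sup_left (g := t) le_sup_right
  exact mem_normalizer_iff_map.mp (hC.hNO (mem_normalizer_iff_map.mpr hO))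

/-- there is a noncentral chief factor. -/
theorem exists_noncentral (hC : Core p O Y H L) :
    ∃ V W : Subgroup G, Chief p H V W ∧ ¬ ⁅V, H⁆ ≤ W := by
  by_contra hno
  push Not at hno
  apply hC.hYK
  intro y hy
  have hyH := hC.pair.hYH hy
  exact mem_pCoreOf_of_stab hC.hCK hyH fun V W hc v hv =>
    hno V W hc (Subgroup.commutator_mem_commutator hv hyH)

/-- (*) -/
theorem conj_eq_of_isPGroup (hC : Core p O Y H L) {t : G} (ht : t ∈ L)
    (hp : IsPGroup p (Y ⊔ Y.map (MulAut.conj t).toMonoidHom : Subgroup G)) :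
    Y.map (MulAut.conj t).toMonoidHom = Y := by
  obtain ⟨h, hh, hs⟩ := hC.exists_far
  obtain ⟨V, W, hc, hnc⟩ := hC.exists_noncentral
  exact hC.conj_eq_of_comm hh hs ht (hC.comm_of_isPGroup hc hnc hh hs ht hp)

end Core

end Cfsg.Agent.Lib.LocalStruct.AsymL4
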