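/-
The asymmetric `L`-lemma, part 5: the conclusions for the core configuration.
-/
import Cfsg.Agent.Lib.LocalStruct.AsymL4

set_option autoImplicit false
set_option linter.style.haveILetI false
set_option linter.unusedSectionVars false

namespace Cfsg.Agent.Lib.LocalStruct.AsymL5

open Subgroup Cfsg Cfsg.Agent.Lib.LocalStruct.Basic Cfsg.Agent.Lib.LocalStruct.Comm
  Cfsg.Agent.Lib.LocalStruct.PCoreOf Cfsg.Agent.Lib.LocalStruct.WeakClosed
  Cfsg.Agent.Lib.LocalStruct.AsymL1 Cfsg.Agent.Lib.LocalStruct.AsymL2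
  Cfsg.Agent.Lib.LocalStruct.AsymL3 Cfsg.Agent.Lib.LocalStruct.AsymL4 Cfsg.Agent.Lib.Core.Basic
  Cfsg.Agent.Lib.LocalStruct.FrakH
open scoped commutatorElement

universe u

variable {G : Type u} [Group G] [Finite G] {p : ℕ} [Fact p.Prime]
variable {O Y H L V W : Subgroup G}

/-- (1b) -/
theorem sup_eq_of_not_normalizer (hC : Core p O Y H L) {h : G} (hh : h ∈ L)
    (hn : h ∉ normalizer (Y : Set G)) : Y.map (MulAut.conj h).toMonoidHom ⊔ O = H := by
  by_contra hne
  have hle : Y.map (MulAut.conj h).toMonoidHom ⊔ O ≤ H :=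
    sup_le (conj_le_of_mem (hC.hYL.trans hC.hLH) (hC.hLH hh)) hC.hOH
  have hlt := lt_of_le_of_ne hle hne
  have h1 := hC.hmin _ le_sup_right hlt
  have hYh : IsPGroup p (Y.map (MulAut.conj h).toMonoidHom) := isPGroup_map_conj h hC.pair.hYp
  have h2 : IsPGroup p (Y.map (MulAut.conj h).toMonoidHom ⊔
      pCoreOf p (Y.map (MulAut.conj h).toMonoidHom ⊔ O) : Subgroup G) :=
    IsPGroup.to_sup_of_normal_right' hYh (isPGroup_pCoreOf _)
      (le_sup_left.trans (le_normalizer_pCoreOf _))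
  have h3 : IsPGroup p (Y ⊔ Y.map (MulAut.conj h).toMonoidHom : Subgroup G) :=
    h2.to_le (sup_le (h1.trans le_sup_right) le_sup_left)
  exact hn (mem_normalizer_iff_map.mpr (hC.conj_eq_of_isPGroup hh h3))

/-- (2e) -/
theorem le_inf_normalizer (hC : Core p O Y H L) {X : Subgroup G} (hYX : Y ≤ X) (hXL : X < L) :
    X ≤ L ⊓ normalizer (Y : Set G) := by
  intro x hx
  refine ⟨hXL.le hx, ?_⟩
  have h1 : Y ≤ pCoreOf p X := by
    by_contra h
    exact hXL.ne (hC.hminL X hXL.le hYX h)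
  have h2 : Y.map (MulAut.conj x).toMonoidHom ≤ pCoreOf p X := by
    have h3 := map_conj_mono x h1
    rwa [mem_normalizer_iff_map.mp (le_normalizer_pCoreOf X hx)] at h3
  have h4 : IsPGroup p (Y ⊔ Y.map (MulAut.conj x).toMonoidHom : Subgroup G) :=
    (isPGroup_pCoreOf X).to_le (sup_le h1 h2)
  exact mem_normalizer_iff_map.mpr (hC.conj_eq_of_isPGroup (hXL.le hx) h4)

/-- (2d) -/
theorem inf_lt (hC : Core p O Y H L) : L ⊓ normalizer (Y : Set G) < L := by
  apply lt_of_le_of_ne inf_le_left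
  intro h
  apply hC.hYOL
  apply le_pCoreOf hC.hYL _ hC.pair.hYp
  rw [← h]
  exact inf_le_right

/-- `Y` normally generates `L`. -/
theorem normalClosure_eq_top (hC : Core p O Y H L) :
    normalClosure ((Y.subgroupOf L : Subgroup ↥L) : Set ↥L) = ⊤ := by
  set N : Subgroup ↥L := normalClosure ((Y.subgroupOf L : Subgroup ↥L) : Set ↥L) with hN
  haveI hNn : N.Normal := Subgroup.normalClosure_normal
  set N' : Subgroup G := N.map L.subtype with hN'
  have h1 : Y ≤ N' := fun y hy =>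
    ⟨⟨y, hC.hYL hy⟩, Subgroup.subset_normalClosure (by
      show (⟨y, hC.hYL hy⟩ : ↥L) ∈ Y.subgroupOf L
      rw [Subgroup.mem_subgroupOf]
      exact hy), rfl⟩
  have h2 : N' ≤ L := by
    rintro _ ⟨x, -, rfl⟩
    exact x.2
  have h3 : L ≤ normalizer (N' : Set G) := le_normalizer_map_subtype N
  have h4 : ¬ Y ≤ pCoreOf p N' := fun h => hC.hYOL (h.trans (pCoreOf_le_of_normal h2 h3))
  have h5 := hC.hminL N' h2 h1 h4
  rw [eq_top_iff]
  intro x _
  have hx : (x : G) ∈ N' := by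
    rw [h5]
    exact x.2
  obtain ⟨y, hy, hyx⟩ := hx
  have : y = x := Subtype.ext hyx
  exact this ▸ hy

theorem map_lt_of_ne_top {B : Subgroup ↥L} (hB : B ≠ ⊤) : B.map L.subtype < L := by
  apply lt_of_le_of_ne
  · rintro _ ⟨x, -, rfl⟩
    exact x.2
  · intro h
    apply hB
    rw [eq_top_iff]
    intro x _
    have hx : (x : G) ∈ B.map L.subtype := by
      rw [h]
      exact x.2
    obtain ⟨y, hy, hyx⟩ := hx
    have : y = x := Subtype.ext hyx
    exact this ▸ hy

/-- (2a) `L` is `Y`-minimal. -/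
theorem isMinimalOver (hC : Core p O Y H L) : IsMinimalOver (Y.subgroupOf L) := by
  refine ⟨normalClosure_eq_top hC, ?_⟩
  set M₀ : Subgroup ↥L := (L ⊓ normalizer (Y : Set G)).subgroupOf L with hM₀
  have hne : M₀ ≠ ⊤ := by
    intro h
    rw [hM₀, Subgroup.subgroupOf_eq_top] at h
    exact absurd (lt_of_lt_of_le (inf_lt hC) h) (lt_irrefl _)
  have hY : ∀ B : Subgroup ↥L, Y.subgroupOf L ≤ B → B ≠ ⊤ → B ≤ M₀ := by
    intro B hYB hB
    have h1 : Y ≤ B.map L.subtype := fun y hy =>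
      ⟨⟨y, hC.hYL hy⟩, hYB (by rw [Subgroup.mem_subgroupOf]; exact hy), rfl⟩
    have h2 := le_inf_normalizer hC h1 (map_lt_of_ne_top hB)
    intro x hx
    rw [hM₀, Subgroup.mem_subgroupOf]
    exact h2 ⟨x, hx, rfl⟩
  have hYM : Y.subgroupOf L ≤ M₀ := by
    intro y hy
    rw [Subgroup.mem_subgroupOf] at hy
    rw [hM₀, Subgroup.mem_subgroupOf]
    exact ⟨y.2, Subgroup.le_normalizer hy⟩
  refine ⟨M₀, ⟨⟨hne, fun B hB => ?_⟩, hYM⟩, ?_⟩
  · by_contra hBt
    exact absurd hB (not_lt_of_ge (hY B (hYM.trans hB.le) hBt))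
  · rintro M ⟨hM, hYM'⟩
    have h1 := hY M hYM' hM.1
    rcases hM.le_iff.mp h1 with h | h
    · exact absurd h hne
    · exact h.symm

/-- `O_p(H)` normalizes `L`. -/
theorem hKL (hC : Core p O Y H L) : pCoreOf p H ≤ normalizer (L : Set G) := by
  obtain ⟨h, hh, hs⟩ := hC.exists_far
  rw [← hs]
  exact sup_le_normalizer hC.pair.hKY (hC.pair.conj (hC.hLH hh)).hKY

/-- (2c) `L` has characteristic `p`. -/
theorem centralizer_le (hC : Core p O Y H L) :
    centralizer (pCore p ↥L : Set ↥L) ≤ pCore p ↥L := by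
  classical
  haveI : (pCore p ↥L).Normal := pCore_normal p ↥L
  apply le_pCore inferInstance
  apply isPGroup_of_coprime_trivial
  intro c hc hcop
  have hcop' : (orderOf (c : G)).Coprime p := by
    rw [Subgroup.orderOf_coe]
    exact hcop
  have hcH : (c : G) ∈ H := hC.hLH c.2
  have hcc : (c : G) ∈ centralizer ((pCoreOf p L : Subgroup G) : Set G) :=
    Large2.mem_centralizer_pCore_iff.mp hc
  set K : Subgroup G := pCoreOf p H with hK
  have hKLO : K ⊓ L ≤ pCoreOf p L := by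
    apply le_pCoreOf inf_le_right
    · intro l hl
      exact Cfsg.Agent.Lib.LocalStruct.FrakH2.mem_normalizer_inf
        (le_normalizer_pCoreOf H (hC.hLH hl)) (Subgroup.le_normalizer hl)
    · exact (isPGroup_pCoreOf H).to_le inf_le_left
  have h1 := comm_mem_of_coprime (T := K) (U := K ⊓ L) (W := ⊥) (g := (c : G))
    (by
      intro x _
      rw [Subgroup.normalizer_eq_top (H := (⊥ : Subgroup G))]
      exact Subgroup.mem_top x)
    (by
      rw [Subgroup.normalizer_eq_top (H := (⊥ : Subgroup G))]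
      exact Subgroup.mem_top _)
    (isPGroup_pCoreOf H) inf_le_left hcop'
    (fun k hk => ⟨commutator_le_left_of_le_normalizer
        (X := H) (V := K) (le_normalizer_pCoreOf H) (Subgroup.commutator_mem_commutator hk hcH), by
      have e : ⁅k, (c : G)⁆ = (k * (c : G) * k⁻¹) * (c : G)⁻¹ := rfl
      rw [e]
      exact L.mul_mem (conj_mem_of_mem_normalizer (hKL hC hk) c.2) (L.inv_mem c.2)⟩)
    (fun u hu => by
      have h2 := (Subgroup.mem_centralizer_iff.mp hcc) u (hKLO hu)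
      rw [commutatorElement_eq_one_iff_mul_comm.mpr h2]
      exact Subgroup.one_mem _)
  have h3 : (c : G) ∈ centralizer ((K : Subgroup G) : Set G) := by
    rw [Subgroup.mem_centralizer_iff]
    intro k hk
    have := h1 k hk
    rw [Subgroup.mem_bot] at this
    exact commutatorElement_eq_one_iff_mul_comm.mp this
  have h4 := hC.hCK _ hcH h3
  have h5 := eq_one_of_isPElt_of_coprime (IsPElt.of_mem (isPGroup_pCoreOf H) h4) hcop'
  exact Subtype.ext h5

/-- (3) `O^p(L)` acts nontrivially on every noncentral chief factor in `O_p(H)`. -/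
theorem not_comm_resOf_le (hC : Core p O Y H L) (hc : Chief p H V W) (hnc : ¬ ⁅V, H⁆ ≤ W) :
    ¬ ⁅V, (pResidual p ↥L).map L.subtype⁆ ≤ W := by
  intro hle
  obtain ⟨h, hh, hs⟩ := hC.exists_far
  have hL : resOf p L ⊔ Y = L := resOf_sup_eq (Y := Y) hC.hYL hC.hYOL fun P hYP hPL => by
    by_contra hne
    exact hPL.ne (hC.hminL P hPL.le hYP hne)
  set Z : Subgroup G := ⁅V, Y⁆ ⊔ W with hZ
  have hZV : Z ≤ V := hC.pair.commSup_le hc
  have hHZ : H ≤ normalizer (Z : Set G) := by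
    rw [← hC.sup_O_eq, ← hL]
    refine sup_le (sup_le ?_ ?_) ?_
    · exact le_normalizer_of_comm_le (hle.trans le_sup_right) hZV
    · exact fun y hy => mem_normalizer_commSup (hc.hHV (hC.pair.hYH hy)) (hc.hHW (hC.pair.hYH hy))
        (Subgroup.le_normalizer hy)
    · exact fun o ho => mem_normalizer_commSup (hc.hHV (hC.hOH ho)) (hc.hHW (hC.hOH ho))
        (hC.pair.hON ho)
  rcases hc.hirr Z hHZ le_sup_right hZV with h1 | h1
  · exact hC.not_comm_le hc hnc hh hs (le_sup_left.trans h1.le)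
  · exact hc.comm_sup_ne hC.pair.hYH hC.pair.hYp h1

/-- (4) -/
theorem inf_le_pCoreOf (hC : Core p O Y H L) : pCoreOf p L ⊓ Y ≤ pCoreOf p H := by
  intro y hy
  obtain ⟨h, hh, hs⟩ := hC.exists_far
  have hF := hC.far hh hs
  have hhH := hC.hLH hh
  have hyH := hC.pair.hYH hy.2
  set RL : Subgroup G := pCoreOf p L with hRL
  have hRLN : RL ≤ normalizer (Y : Set G) := by
    intro r hr
    have hp : IsPGroup p (Y ⊔ RL : Subgroup G) :=
      IsPGroup.to_sup_of_normal_right' hC.pair.hYp (isPGroup_pCoreOf L)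
        (hC.hYL.trans (le_normalizer_pCoreOf L))
    have h1 : Y.map (MulAut.conj r).toMonoidHom ≤ Y ⊔ RL :=
      conj_le_of_mem le_sup_left ((le_sup_right : RL ≤ Y ⊔ RL) hr)
    exact mem_normalizer_iff_map.mpr (hC.conj_eq_of_isPGroup (pCoreOf_le L hr)
      (hp.to_le (sup_le le_sup_left h1)))
  have hRLN2 : RL ≤ normalizer ((Y.map (MulAut.conj h).toMonoidHom : Subgroup G) : Set G) := by
    rw [normalizer_map_conj, le_map_conj_iff]
    have h1 : RL.map (MulAut.conj h⁻¹).toMonoidHom = RL :=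
      mem_normalizer_iff_map.mp (le_normalizer_pCoreOf L (L.inv_mem hh))
    rw [h1]
    exact hRLN
  apply mem_pCoreOf_of_stab hC.hCK hyH
  intro V W hc v hv
  by_cases hnc : ⁅V, H⁆ ≤ W
  · exact hnc (Subgroup.commutator_mem_commutator hv hyH)
  have hPh := hC.pair.conj hhH
  set Ah : Subgroup G := ⁅V, Y.map (MulAut.conj h).toMonoidHom⁆ ⊔ W with hAh
  have hAhV : Ah ≤ V := hPh.commSup_le hc
  have hV := hF.sup_fix_eq hc
  have hyN : y ∈ normalizer (Ah : Set G) :=
    mem_normalizer_commSup (hc.hHV hyH) (hc.hHW hyH) (hRLN2 hy.1)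
  have hN := hc.le_normalizer_of_between (le_sup_right : W ≤ Ah) hAhV
  have hvs : v ∈ Ah ⊔ fixMod V W Y := by
    rw [hV]
    exact hv
  obtain ⟨a, ha, c, hc', rfl⟩ := mem_sup_of_le_normalizer ((fixMod_le _ _ _).trans hN) hvs
  have e : ⁅a * c, y⁆ = (a * ⁅c, y⁆ * a⁻¹) * ⁅a, y⁆ := by
    simp only [commutatorElement_def]; group
  rw [e]
  refine W.mul_mem (conj_mem_of_mem_normalizer (hc.hVW (hAhV ha)) (hc'.2.2 y hy.2)) ?_
  apply hF.inf_fix_le hc hnc
  refine ⟨commutator_le_left_of_le_normalizer (X := normalizer (Ah : Set G)) le_rfl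
    (Subgroup.commutator_mem_commutator ha hyN), ?_⟩
  apply hC.pair.commSup_le_fix hc
  exact (le_sup_left : ⁅V, Y⁆ ≤ ⁅V, Y⁆ ⊔ W) (Subgroup.commutator_mem_commutator (hAhV ha) hy.2)

/-- (4) in normal-closure form. -/
theorem normalClosure_le (hC : Core p O Y H L) :
    (normalClosure (((pCoreOf p L ⊓ Y).subgroupOf L : Subgroup ↥L) : Set ↥L)).map L.subtype ≤
      pCoreOf p H := by
  have hn : L ≤ normalizer ((pCoreOf p H ⊓ L : Subgroup G) : Set G) := fun l hl =>
    Cfsg.Agent.Lib.LocalStruct.FrakH2.mem_normalizer_inf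
      (le_normalizer_pCoreOf H (hC.hLH hl)) (Subgroup.le_normalizer hl)
  haveI hN : ((pCoreOf p H ⊓ L).subgroupOf L).Normal :=
    (Subgroup.normal_subgroupOf_iff_le_normalizer inf_le_right).mpr hn
  have h1 : normalClosure (((pCoreOf p L ⊓ Y).subgroupOf L : Subgroup ↥L) : Set ↥L) ≤
      (pCoreOf p H ⊓ L).subgroupOf L := by
    apply Subgroup.normalClosure_le_normal
    intro x hx
    have hx' : (x : G) ∈ pCoreOf p L ⊓ Y := hx
    show x ∈ (pCoreOf p H ⊓ L).subgroupOf L
    rw [Subgroup.mem_subgroupOf]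
    exact ⟨inf_le_pCoreOf hC hx', x.2⟩
  rintro _ ⟨x, hx, rfl⟩
  have := h1 hx
  rw [Subgroup.mem_subgroupOf] at this
  exact this.1

end Cfsg.Agent.Lib.LocalStruct.AsymL5
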