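/-
Relative centralizers, and a criterion for a `p`-subgroup to lie in `O_p`:
`[Y, A] ≤ A'` and `[Y, C(A)] ≤ O_p(L)` for a normal `p`-subgroup `A` give `Y ≤ O_p(L)`.
-/
import Cfsg.Agent.Lib.LocalStruct.PCoreOf
import Cfsg.Agent.Lib.LocalEven.CharP
import Cfsg.Agent.Lib.Coprime.Action
import Cfsg.Agent.Lib.PGroups.Basic

set_option autoImplicit false

namespace Cfsg.Agent.Lib.LocalStruct.BurnsideComm

open Subgroup Cfsg Cfsg.Agent.Lib.Core.Basic Cfsg.Agent.Lib.LocalStruct.Basic
  Cfsg.Agent.Lib.LocalStruct.Comm Cfsg.Agent.Lib.LocalStruct.PClosed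
open scoped commutatorElement

universe u

variable {p : ℕ} [Fact p.Prime] {L : Type u} [Group L] [Finite L]

omit [Fact p.Prime] [Finite L] in
/-- the elements centralizing `X` modulo the normal subgroup `N` -/
def relC (X N : Subgroup L) [N.Normal] : Subgroup L :=
  (centralizer ((X.map (QuotientGroup.mk' N) : Subgroup _) : Set (L ⧸ N))).comap (QuotientGroup.mk' N)

omit [Fact p.Prime] [Finite L] in
theorem mem_relC {X N : Subgroup L} [N.Normal] {g : L} : g ∈ relC X N ↔ ∀ x ∈ X, ⁅g, x⁆ ∈ N := by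
  rw [relC, Subgroup.mem_comap, Subgroup.mem_centralizer_iff]
  constructor
  · intro h x hx
    have h1 := h (QuotientGroup.mk' N x) ⟨x, hx, rfl⟩
    rw [← QuotientGroup.eq_one_iff]
    change QuotientGroup.mk' N ⁅g, x⁆ = 1
    rw [map_commutatorElement, commutatorElement_eq_one_iff_mul_comm]
    exact h1.symm
  · rintro h _ ⟨x, hx, rfl⟩
    have h1 : QuotientGroup.mk' N ⁅g, x⁆ = 1 := (QuotientGroup.eq_one_iff _).mpr (h x hx)
    rw [map_commutatorElement, commutatorElement_eq_one_iff_mul_comm] at h1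
    exact h1.symm

omit [Fact p.Prime] [Finite L] in
instance relC_normal (X N : Subgroup L) [X.Normal] [N.Normal] : (relC X N).Normal := by
  unfold relC
  haveI : (X.map (QuotientGroup.mk' N)).Normal :=
    Subgroup.Normal.map inferInstance _ (QuotientGroup.mk'_surjective N)
  exact Subgroup.Normal.comap inferInstance _

/-- a `p'`-element acting trivially on `A / A'` centralizes the normal `p`-subgroup `A` -/
theorem mem_centralizer_of_relC {A : Subgroup L} [hA : A.Normal] (hAp : IsPGroup p A) {x : L}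
    (hx : x ∈ relC A ⁅A, A⁆) (hc : (orderOf x).Coprime p) : x ∈ centralizer (A : Set L) := by
  classical
  set B := zpowers x with hB
  have hBW : B ≤ relC A ⁅A, A⁆ := by
    rw [hB, Subgroup.zpowers_le]
    exact hx
  have hBA : B ≤ normalizer (A : Set L) := by
    rw [Subgroup.normalizer_eq_top]; exact le_top
  have hcop : (Nat.card B).Coprime (Nat.card A) := by
    obtain ⟨n, hn⟩ := IsPGroup.iff_card.mp hAp
    rw [hB, Nat.card_zpowers, hn]
    exact hc.pow_right n
  haveI : Group.IsNilpotent A := hAp.isNilpotent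
  have hsup := Cfsg.Agent.Lib.Coprime.Action.commutator_sup_fixed (K := A) (A := B) hBA hcop
    (Or.inr inferInstance)
  have hAB : ⁅A, B⁆ ≤ ⁅A, A⁆ := by
    rw [Subgroup.commutator_comm, Subgroup.commutator_le]
    intro b hb a ha
    exact mem_relC.mp (hBW hb) a ha
  set F : Subgroup A := (A ⊓ centralizer (B : Set L)).subgroupOf A with hF
  have hFtop : F ⊔ frattini A = ⊤ := by
    apply Subgroup.map_injective A.subtype_injective
    have htop : (⊤ : Subgroup A).map A.subtype = A := by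
      rw [← MonoidHom.range_eq_map, Subgroup.range_subtype]
    apply le_antisymm (Subgroup.map_mono le_top)
    rw [htop, Subgroup.map_sup]
    conv_lhs => rw [← hsup]
    rw [sup_comm]
    apply sup_le_sup
    · rw [hF, Subgroup.map_subgroupOf_eq_of_le inf_le_left]
    · refine hAB.trans ?_
      rw [← Subgroup.map_subtype_commutator]
      exact Subgroup.map_mono (Cfsg.Agent.Lib.PGroups.Basic.commutator_le_frattini hAp)
  have hF2 : F = ⊤ := frattini_nongenerating hFtop
  rw [Subgroup.mem_centralizer_iff]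
  intro a ha
  have h1 : (⟨a, ha⟩ : A) ∈ F := by rw [hF2]; trivial
  have h2 : a ∈ centralizer (B : Set L) := (Subgroup.mem_subgroupOf.mp h1).2
  exact ((Subgroup.mem_centralizer_iff.mp h2) x (Subgroup.mem_zpowers x)).symm

/-- `U` with `[U,C] = 1`, `U/(U∩C)` a `p`-group and `O_p = 1` has no nontrivial `p`-elements -/
theorem eq_one_of_isPElt {Γ : Type u} [Group Γ] [Finite Γ] (U C : Subgroup Γ) [hUn : U.Normal]
    (h0 : pCore p Γ = ⊥) (hU : ∀ u ∈ U, ∃ k : ℕ, u ^ (p ^ k) ∈ C)
    (hcomm : ∀ u ∈ U, ∀ c ∈ C, ⁅u, c⁆ = 1) {x : Γ} (hx : x ∈ U) (hxp : IsPElt p x) : x = 1 := by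
  have hpq : IsPGroup p (U ⧸ center U) := by
    intro q
    obtain ⟨u, rfl⟩ := QuotientGroup.mk_surjective q
    obtain ⟨k, hk⟩ := hU u u.2
    refine ⟨k, ?_⟩
    rw [← QuotientGroup.mk_pow, QuotientGroup.eq_one_iff, Subgroup.mem_center_iff]
    intro v
    apply Subtype.ext
    have := hcomm v v.2 _ hk
    exact commutatorElement_eq_one_iff_mul_comm.mp this
  haveI hn : Group.IsNilpotent U := Group.of_quotient_center_nilpotent hpq.isNilpotent
  have hc : IsPClosed p U := fun P => inferInstance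
  have h1 : (⟨x, hx⟩ : U) ∈ pCore p U :=
    isPClosed_iff.mp hc _ (IsPElt.of_injective U.subtype U.subtype_injective hxp)
  have h2 := map_pCore_le_of_isSubnormal (p := p) hUn.isSubnormal (Subgroup.mem_map_of_mem _ h1)
  rw [h0, Subgroup.mem_bot] at h2
  exact h2

/-- the criterion -/
theorem le_pCore_of_comm (A Y : Subgroup L) [hA : A.Normal] (hAp : IsPGroup p A)
    (hYp : IsPGroup p Y) (hYA : ⁅Y, A⁆ ≤ ⁅A, A⁆)
    (hYC : ∀ y ∈ Y, ∀ c ∈ centralizer (A : Set L), ⁅y, c⁆ ∈ pCore p L) : Y ≤ pCore p L := by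
  classical
  set R := pCore p L with hR
  set C := centralizer (A : Set L) with hC
  haveI hCn : C.Normal := Subgroup.normal_centralizer
  set W₁ := relC A ⁅A, A⁆ with hW₁
  set W₂ := relC C R with hW₂
  set U := normalClosure (Y : Set L) with hU
  have hUW₁ : U ≤ W₁ := by
    apply Subgroup.normalClosure_le_normal
    intro y hy
    exact mem_relC.mpr fun a ha => hYA (Subgroup.commutator_mem_commutator hy ha)
  have hUW₂ : U ≤ W₂ := by
    apply Subgroup.normalClosure_le_normal
    intro y hy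
    exact mem_relC.mpr fun c hc => hYC y hy c hc
  let π := QuotientGroup.mk' R
  haveI : (U.map π).Normal := Subgroup.Normal.map inferInstance _ (QuotientGroup.mk'_surjective R)
  intro y hy
  have hyU : y ∈ U := Subgroup.subset_normalClosure hy
  have key := eq_one_of_isPElt (p := p) (U.map π) (C.map π) pCore_quotient_eq_bot ?_ ?_
    (Subgroup.mem_map_of_mem π hyU) ((IsPElt.of_mem hYp hy).map π)
  · exact (QuotientGroup.eq_one_iff y).mp key
  · rintro _ ⟨u, hu, rfl⟩
    obtain ⟨k, m, hm, hnm⟩ := Nat.exists_eq_pow_mul_and_not_dvd (orderOf_pos u).ne' p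
      (Fact.out : p.Prime).ne_one
    refine ⟨k, u ^ p ^ k, ?_, map_pow _ _ _⟩
    apply mem_centralizer_of_relC hAp (W₁.pow_mem (hUW₁ hu) _)
    rw [orderOf_pow' u (pow_ne_zero _ (Fact.out : p.Prime).ne_zero), hnm]
    rw [Nat.gcd_eq_right (dvd_mul_right _ _), Nat.mul_div_cancel_left _ (pow_pos (Fact.out : p.Prime).pos _)]
    exact ((Fact.out : p.Prime).coprime_iff_not_dvd.mpr hm).symm
  · rintro _ ⟨u, hu, rfl⟩ _ ⟨c, hc, rfl⟩
    rw [← map_commutatorElement]
    exact (QuotientGroup.eq_one_iff _).mpr (mem_relC.mp (hUW₂ hu) c hc)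

end Cfsg.Agent.Lib.LocalStruct.BurnsideComm
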