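/-
Fixed points of non-`p`-elements on `O_p(L) / C_Y(L)` for `L ∈ 𝔏_G(Y)`: the general configuration.
-/
import Cfsg.Agent.Lib.LocalStruct.AsymL2

set_option autoImplicit false
set_option linter.style.haveILetI false
set_option linter.unusedSectionVars false

namespace Cfsg.Agent.Lib.LocalStruct.FrakLFix1

open Subgroup Cfsg Cfsg.Agent.Lib.LocalStruct.Basic Cfsg.Agent.Lib.LocalStruct.Comm
  Cfsg.Agent.Lib.LocalStruct.PCoreOf Cfsg.Agent.Lib.LocalStruct.WeakClosed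
  Cfsg.Agent.Lib.LocalStruct.AsymL1
open scoped commutatorElement

universe u

variable {G : Type u} [Group G] [Finite G] {p : ℕ} [Fact p.Prime]

/-- The configuration of a conjugate of `Y` in `L ∈ 𝔏_G(Y)`. -/
structure LConf (p : ℕ) (Y L : Subgroup G) : Prop where
  hYY : Y ≤ centralizer (Y : Set G)
  hYp : IsPGroup p Y
  hYL : Y ≤ L
  hcl : ∀ N : Subgroup G, L ≤ normalizer (N : Set G) → Y ⊓ pCoreOf p L ≤ N → pCoreOf p L ≤ N
  hAY : pCoreOf p L ≤ normalizer (Y : Set G)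
  hgen : ∀ N : Subgroup G, L ≤ normalizer (N : Set G) → Y ≤ N → L ≤ N
  hlt : ¬ L ≤ normalizer (Y : Set G)
  hmax : ∀ X : Subgroup G, Y ≤ X → X < L → X ≤ normalizer (Y : Set G)

namespace LConf

variable {Y Y₁ Y₂ L : Subgroup G}

/-- `L` acts by conjugation on its subgroups `N` it normalizes -/
theorem hLL {g : G} (hg : g ∈ L) : L.map (MulAut.conj g).toMonoidHom = L :=
  mem_normalizer_iff_map.mp (Subgroup.le_normalizer hg)

theorem mem_A_conj {g a : G} (hg : g ∈ L) (ha : a ∈ pCoreOf p L) : g * a * g⁻¹ ∈ pCoreOf p L :=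
  conj_mem_of_mem_normalizer (le_normalizer_pCoreOf L hg) ha

theorem conj (hc : LConf p Y L) {g : G} (hg : g ∈ L) :
    LConf p (Y.map (MulAut.conj g).toMonoidHom) L where
  hYY := by
    rw [centralizer_map_conj]
    exact map_conj_mono g hc.hYY
  hYp := isPGroup_map_conj g hc.hYp
  hYL := conj_le_of_mem hc.hYL hg
  hcl := by
    intro N hN hle
    apply hc.hcl N hN
    rintro y ⟨hy, hyA⟩
    have h1 : g * y * g⁻¹ ∈ N := hle ⟨⟨y, hy, rfl⟩, mem_A_conj hg hyA⟩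
    have h2 := conj_inv_mem_of_mem_normalizer (hN hg) h1
    have e : g⁻¹ * (g * y * g⁻¹) * g = y := by group
    rwa [e] at h2
  hAY := by
    rw [normalizer_map_conj]
    have h := map_conj_mono g hc.hAY
    rwa [mem_normalizer_iff_map.mp (le_normalizer_pCoreOf L hg)] at h
  hgen := by
    intro N hN hle
    apply hc.hgen N hN
    intro y hy
    have h1 : g * y * g⁻¹ ∈ N := hle ⟨y, hy, rfl⟩
    have h2 := conj_inv_mem_of_mem_normalizer (hN hg) h1
    have e : g⁻¹ * (g * y * g⁻¹) * g = y := by group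
    rwa [e] at h2
  hlt := by
    intro h
    apply hc.hlt
    rw [normalizer_map_conj] at h
    have h1 := map_conj_mono g⁻¹ h
    rwa [hLL (L.inv_mem hg), map_conj_inv_map_conj] at h1
  hmax := by
    intro X hYX hXL
    rw [normalizer_map_conj]
    have h1 : Y ≤ X.map (MulAut.conj g⁻¹).toMonoidHom := by
      rw [le_map_conj_iff, inv_inv]
      exact hYX
    have h2 : X.map (MulAut.conj g⁻¹).toMonoidHom < L := by
      apply lt_of_le_of_ne
      · have := map_conj_mono g⁻¹ hXL.le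
        rwa [hLL (L.inv_mem hg)] at this
      · intro h
        have h3 := congrArg (Subgroup.map (MulAut.conj g).toMonoidHom) h
        rw [map_conj_map_conj_inv, hLL hg] at h3
        exact hXL.ne h3
    have h3 := map_conj_mono g (hc.hmax _ h1 h2)
    rwa [map_conj_map_conj_inv] at h3

/-- the central part of a conjugate of `Y` does not depend on the conjugate. -/
theorem cc_conj {g : G} (hg : g ∈ L) :
    Y.map (MulAut.conj g).toMonoidHom ⊓ centralizer (L : Set G) = Y ⊓ centralizer (L : Set G) := by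
  ext x
  constructor
  · rintro ⟨⟨y, hy, rfl⟩, hz⟩
    have hz' : g * y * g⁻¹ ∈ centralizer (L : Set G) := hz
    have h1 := (Subgroup.mem_centralizer_iff.mp hz') g hg
    have h2 : g * y * g⁻¹ = y := by
      have h5 : g * y = g * (g * y * g⁻¹) := by
        rw [h1]; group
      exact (mul_left_cancel h5).symm
    simp only [MulEquiv.coe_toMonoidHom, MulAut.conj_apply] at *
    rw [h2] at hz' ⊢
    exact ⟨hy, hz'⟩
  · rintro ⟨hy, hz⟩
    refine ⟨⟨x, hy, ?_⟩, hz⟩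
    have h1 := (Subgroup.mem_centralizer_iff.mp hz) g hg
    simp only [MulEquiv.coe_toMonoidHom, MulAut.conj_apply]
    rw [h1]
    group

theorem cc_le (Y L : Subgroup G) : Y ⊓ centralizer (L : Set G) ≤ Y := inf_le_left

theorem cc_comm {c l : G} (hc : c ∈ Y ⊓ centralizer (L : Set G)) (hl : l ∈ L) : l * c = c * l :=
  (Subgroup.mem_centralizer_iff.mp hc.2) l hl

theorem cc_conj_eq {c l : G} (hc : c ∈ Y ⊓ centralizer (L : Set G)) (hl : l ∈ L) : l * c * l⁻¹ = c := by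
  rw [cc_comm hc hl]; group

theorem cc_normal : L ≤ normalizer ((Y ⊓ centralizer (L : Set G) : Subgroup G) : Set G) := by
  intro l hl
  apply mem_normalizer_of_conj_mem
  intro c hc
  rw [cc_conj_eq hc hl]
  exact hc

/-- `C_Y(L) ≤ O_p(L)` -/
theorem cc_le_A (hc : LConf p Y L) : Y ⊓ centralizer (L : Set G) ≤ pCoreOf p L :=
  le_pCoreOf (inf_le_left.trans hc.hYL) cc_normal (hc.hYp.to_le inf_le_left)

/-- An element of `Y` fixed by `L` modulo `C_Y(L)` lies in `C_Y(L)`. -/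
theorem mem_of_fix_all (hc : LConf p Y L) {b : G} (hb : b ∈ Y)
    (hfix : ∀ l ∈ L, ⁅l, b⁆ ∈ Y ⊓ centralizer (L : Set G)) : b ∈ Y ⊓ centralizer (L : Set G) := by
  refine ⟨hb, ?_⟩
  show b ∈ centralizer (L : Set G)
  have hY : ∀ l ∈ L, b ∈ Y.map (MulAut.conj l).toMonoidHom := by
    intro l hl
    have h1 : ⁅l, b⁆ ∈ Y.map (MulAut.conj l).toMonoidHom :=
      (by rw [← cc_conj (Y := Y) hl] at *; exact (hfix l hl).1 : _)
    have h2 : l * b * l⁻¹ ∈ Y.map (MulAut.conj l).toMonoidHom := ⟨b, hb, rfl⟩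
    have e : b = (⁅l, b⁆)⁻¹ * (l * b * l⁻¹) := by
      simp only [commutatorElement_def]; group
    rw [e]
    exact Subgroup.mul_mem _ (Subgroup.inv_mem _ h1) h2
  set D : Subgroup G := ⨅ l : ↥L, Y.map (MulAut.conj (l : G)).toMonoidHom with hD
  have hbD : b ∈ D := by
    rw [hD, Subgroup.mem_iInf]
    exact fun l => hY l l.2
  have hDY : D ≤ Y := by
    have h1 := iInf_le (fun l : ↥L => Y.map (MulAut.conj (l : G)).toMonoidHom) 1
    have h2 : Y.map (MulAut.conj (((1 : ↥L)) : G)).toMonoidHom = Y := by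
      rw [OneMemClass.coe_one]
      exact map_conj_one Y
    rw [h2] at h1
    exact h1
  have hDn : ∀ l ∈ L, ∀ d ∈ D, l * d * l⁻¹ ∈ D := by
    intro l hl d hd
    rw [hD, Subgroup.mem_iInf] at hd ⊢
    intro l'
    have h1 := hd ⟨l⁻¹ * l', L.mul_mem (L.inv_mem hl) l'.2⟩
    obtain ⟨y, hy, hyd⟩ := h1
    refine ⟨y, hy, ?_⟩
    simp only [MulEquiv.coe_toMonoidHom, MulAut.conj_apply] at hyd ⊢
    rw [← hyd]
    group
  have hN : L ≤ normalizer ((centralizer (D : Set G) : Subgroup G) : Set G) := by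
    intro l hl
    apply mem_normalizer_of_conj_mem
    intro x hx
    rw [Subgroup.mem_centralizer_iff] at hx ⊢
    intro d hd
    have h1 := hx _ (hDn l⁻¹ (L.inv_mem hl) d hd)
    simp only [inv_inv] at h1
    calc d * (l * x * l⁻¹) = l * ((l⁻¹ * d * l) * x) * l⁻¹ := by group
      _ = l * (x * (l⁻¹ * d * l)) * l⁻¹ := by rw [h1]
      _ = l * x * l⁻¹ * d := by group
  have hYC : Y ≤ centralizer (D : Set G) := by
    intro y hy
    rw [Subgroup.mem_centralizer_iff]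
    intro d hd
    exact (Subgroup.mem_centralizer_iff.mp (hc.hYY hy)) d (hDY hd)
  have hLC := hc.hgen _ hN hYC
  rw [Subgroup.mem_centralizer_iff]
  intro l hl
  exact ((Subgroup.mem_centralizer_iff.mp (hLC hl)) b hbD).symm

/-- `[y, b] ∈ Y ∩ A`. -/
theorem comm_mem_inf (hc : LConf p Y L) {y b : G} (hy : y ∈ Y) (hb : b ∈ pCoreOf p L) :
    ⁅y, b⁆ ∈ Y ⊓ pCoreOf p L := by
  constructor
  · have e : ⁅y, b⁆ = y * (b * y⁻¹ * b⁻¹) := by
      simp only [commutatorElement_def]; group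
    rw [e]
    exact Y.mul_mem hy (conj_mem_of_mem_normalizer (hc.hAY hb) (Y.inv_mem hy))
  · have e : ⁅y, b⁆ = (y * b * y⁻¹) * b⁻¹ := by
      simp only [commutatorElement_def]
    rw [e]
    exact Subgroup.mul_mem _ (mem_A_conj (hc.hYL hy) hb) (Subgroup.inv_mem _ hb)

/-- `Y ∩ A` is normalized by `Y` and `A` -/
theorem inf_normalized (hc : LConf p Y L) {g : G} (hg : g ∈ normalizer (Y : Set G)) (hgL : g ∈ L) :
    g ∈ normalizer ((Y ⊓ pCoreOf p L : Subgroup G) : Set G) :=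
  Cfsg.Agent.Lib.LocalStruct.FrakH2.mem_normalizer_inf hg (le_normalizer_pCoreOf L hgL)

/-- `O_p(L) = (Y₁ ∩ A)(Y₂ ∩ A)` when `L = ⟨Y₁, Y₂⟩`. -/
theorem sup_eq_A (hc₁ : LConf p Y₁ L) (hc₂ : LConf p Y₂ L) (hs : Y₁ ⊔ Y₂ = L) :
    (Y₁ ⊓ pCoreOf p L) ⊔ (Y₂ ⊓ pCoreOf p L) = pCoreOf p L := by
  set A : Subgroup G := pCoreOf p L with hA
  set P : Subgroup G := (Y₁ ⊓ A) ⊔ (Y₂ ⊓ A) with hP
  have key : ∀ {Y Y' : Subgroup G}, LConf p Y L → LConf p Y' L → (Y ⊓ A) ≤ P → (Y' ⊓ A) ≤ P →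
      Y ≤ normalizer (P : Set G) := by
    intro Y Y' hcY hcY' hYP hYP' y hy
    apply mem_normalizer_of_conj_mem
    have h1 : P.map (MulAut.conj y).toMonoidHom ≤ P := by
      rw [hP, Subgroup.map_sup]
      have h2 : ∀ Z : Subgroup G, LConf p Z L → (Z ⊓ A) ≤ P →
          (Z ⊓ A).map (MulAut.conj y).toMonoidHom ≤ P := by
        intro Z hZ hZP
        rintro _ ⟨b, hb, rfl⟩
        simp only [MulEquiv.coe_toMonoidHom, MulAut.conj_apply]
        have h3 := hcY.comm_mem_inf hy hb.2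
        have e : y * b * y⁻¹ = ⁅y, b⁆ * b := by
          simp only [commutatorElement_def]; group
        rw [e]
        exact P.mul_mem (hYP h3) (hZP hb)
      exact sup_le (h2 Y₁ hc₁ le_sup_left) (h2 Y₂ hc₂ le_sup_right)
    intro x hx
    exact h1 ⟨x, hx, rfl⟩
  have hLP : L ≤ normalizer (P : Set G) := by
    rw [← hs]
    exact sup_le (key hc₁ hc₂ le_sup_left le_sup_right) (key hc₂ hc₁ le_sup_right le_sup_left)
  exact le_antisymm (sup_le inf_le_right inf_le_right) (hc₁.hcl P hLP le_sup_left)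

/-- `Y₁ ∩ Y₂ ≤ C_{Y₁}(L)` when `L = ⟨Y₁, Y₂⟩`. -/
theorem inf_le_cc (hc₁ : LConf p Y₁ L) (hc₂ : LConf p Y₂ L) (hs : Y₁ ⊔ Y₂ = L) :
    Y₁ ⊓ Y₂ ≤ Y₁ ⊓ centralizer (L : Set G) := by
  rintro x ⟨h1, h2⟩
  refine ⟨h1, ?_⟩
  rw [← hs]
  exact mem_centralizer_sup (hc₁.hYY h1) (hc₂.hYY h2)

/-- The pair data: `L = ⟨Y₁, Y₂⟩` with the same central part. -/
structure Pair (p : ℕ) (Y₁ Y₂ L : Subgroup G) : Prop where
  h1 : LConf p Y₁ L
  h2 : LConf p Y₂ L
  hs : Y₁ ⊔ Y₂ = L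
  hC : Y₂ ⊓ centralizer (L : Set G) = Y₁ ⊓ centralizer (L : Set G)

end LConf

open LConf

namespace Pair

variable {Y₁ Y₂ L : Subgroup G}

/-- `[A, A] ≤ C`. -/
theorem comm_A (hP : LConf.Pair p Y₁ Y₂ L) {a a' : G} (ha : a ∈ pCoreOf p L)
    (ha' : a' ∈ pCoreOf p L) : ⁅a, a'⁆ ∈ Y₁ ⊓ centralizer (L : Set G) := by
  set A : Subgroup G := pCoreOf p L with hA
  set C : Subgroup G := Y₁ ⊓ centralizer (L : Set G) with hC
  have hCn : L ≤ normalizer (C : Set G) := cc_normal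
  have hAL : A ≤ L := pCoreOf_le L
  have hsup : (Y₁ ⊓ A) ⊔ (Y₂ ⊓ A) = A := sup_eq_A hP.h1 hP.h2 hP.hs
  have hinv : ∀ {x y : G}, ⁅y, x⁆ ∈ C → ⁅x, y⁆ ∈ C := by
    intro x y h
    have := C.inv_mem h
    rwa [commutatorElement_inv] at this
  have h12 : ∀ b₁ ∈ Y₁ ⊓ A, ∀ b₂ ∈ Y₂ ⊓ A, ⁅b₁, b₂⁆ ∈ C := by
    intro b₁ hb₁ b₂ hb₂
    apply inf_le_cc hP.h1 hP.h2 hP.hs
    refine ⟨(hP.h1.comm_mem_inf hb₁.1 hb₂.2).1, ?_⟩
    have := (hP.h2.comm_mem_inf hb₂.1 hb₁.2).1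
    have h3 := Y₂.inv_mem this
    rwa [commutatorElement_inv] at h3
  have h11 : ∀ {Y : Subgroup G}, LConf p Y L → ∀ b ∈ Y ⊓ A, ∀ b' ∈ Y ⊓ A, ⁅b, b'⁆ ∈ C := by
    intro Y hY b hb b' hb'
    have h3 : b * b' = b' * b := ((Subgroup.mem_centralizer_iff.mp (hY.hYY hb'.1)) b hb.1)
    rw [commutatorElement_eq_one_iff_mul_comm.mpr h3]
    exact C.one_mem
  -- every generator is fixed by `A`
  have hgen : ∀ b ∈ (Y₁ ⊓ A : Subgroup G) ⊔ (Y₂ ⊓ A), ∀ c ∈ A, ⁅c, b⁆ ∈ C := by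
    intro b hb c hc
    have h3 : (Y₁ ⊓ A : Subgroup G) ⊔ (Y₂ ⊓ A) ≤ stabMod ({c} : Set G) C := by
      have h4 : A ≤ stabMod ((Y₁ ⊓ A : Subgroup G) : Set G) C := by
        refine hsup.symm.le.trans ?_
        apply sup_le
        · exact fun x hx => ⟨hCn (hAL hx.2), fun v hv => h11 hP.h1 v hv x hx⟩
        · exact fun x hx => ⟨hCn (hAL hx.2), fun v hv => h12 v hv x hx⟩
      have h5 : A ≤ stabMod ((Y₂ ⊓ A : Subgroup G) : Set G) C := by
        refine hsup.symm.le.trans ?_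
        apply sup_le
        · exact fun x hx => ⟨hCn (hAL hx.2), fun v hv => hinv (h12 x hx v hv)⟩
        · exact fun x hx => ⟨hCn (hAL hx.2), fun v hv => h11 hP.h2 v hv x hx⟩
      apply sup_le
      · refine fun x hx => ⟨hCn (hAL hx.2), ?_⟩
        rintro v rfl
        exact hinv ((h4 hc).2 x hx)
      · refine fun x hx => ⟨hCn (hAL hx.2), ?_⟩
        rintro v rfl
        exact hinv ((h5 hc).2 x hx)
    exact (h3 hb).2 c rfl
  rw [hsup] at hgen
  exact hgen a' ha' a ha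

/-- every element of `A` is a product of elements of the `Yᵢ ∩ A`. -/
theorem decomp (hP : LConf.Pair p Y₁ Y₂ L) {a : G} (ha : a ∈ pCoreOf p L) :
    ∃ b₁ ∈ Y₁ ⊓ pCoreOf p L, ∃ b₂ ∈ Y₂ ⊓ pCoreOf p L, a = b₁ * b₂ := by
  have hsup := sup_eq_A hP.h1 hP.h2 hP.hs
  have hN : Y₂ ⊓ pCoreOf p L ≤ normalizer ((Y₁ ⊓ pCoreOf p L : Subgroup G) : Set G) := by
    rintro x ⟨-, hx⟩
    exact hP.h1.inf_normalized (hP.h1.hAY hx) (pCoreOf_le L hx)
  rw [← hsup] at ha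
  exact mem_sup_of_le_normalizer hN ha

/-- uniqueness of the decomposition modulo `C`. -/
theorem uniq (hP : LConf.Pair p Y₁ Y₂ L) {b₁ b₂ : G} (h₁ : b₁ ∈ Y₁) (h₂ : b₂ ∈ Y₂)
    (h : b₁ * b₂ ∈ Y₁ ⊓ centralizer (L : Set G)) :
    b₁ ∈ Y₁ ⊓ centralizer (L : Set G) ∧ b₂ ∈ Y₁ ⊓ centralizer (L : Set G) := by
  set C : Subgroup G := Y₁ ⊓ centralizer (L : Set G) with hC
  have hb₂Y₁ : b₂ ∈ Y₁ := by
    have e : b₂ = b₁⁻¹ * (b₁ * b₂) := by group
    rw [e]
    exact Y₁.mul_mem (Y₁.inv_mem h₁) h.1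
  have hb₂ : b₂ ∈ C := inf_le_cc hP.h1 hP.h2 hP.hs ⟨hb₂Y₁, h₂⟩
  refine ⟨?_, hb₂⟩
  have e : b₁ = (b₁ * b₂) * b₂⁻¹ := by group
  rw [e]
  exact C.mul_mem h (C.inv_mem hb₂)

end Pair

open LConf

/-- the generation criterion: `L = ⟨x, Y⟩` when `x ∈ L` does not normalize `Y`. -/
theorem zpowers_sup_eq {Y L : Subgroup G} (hc : LConf p Y L) {x : G} (hx : x ∈ L)
    (hn : x ∉ normalizer (Y : Set G)) : Subgroup.zpowers x ⊔ Y = L := by
  have hle : Subgroup.zpowers x ⊔ Y ≤ L := sup_le (Subgroup.zpowers_le.mpr hx) hc.hYL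
  by_contra hne
  exact hn (hc.hmax _ le_sup_right (lt_of_le_of_ne hle hne) (le_sup_left (a := Subgroup.zpowers x)
    (Subgroup.mem_zpowers x)))

/-- An element of `Y` fixed modulo `C` by an element of `L` off `N(Y)` lies in `C`. -/
theorem fix_of_comm {Y L : Subgroup G} (hc : LConf p Y L) {x b : G} (hx : x ∈ L)
    (hn : x ∉ normalizer (Y : Set G)) (hb : b ∈ Y)
    (hfix : ⁅x, b⁆ ∈ Y ⊓ centralizer (L : Set G)) : b ∈ Y ⊓ centralizer (L : Set G) := by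
  set C : Subgroup G := Y ⊓ centralizer (L : Set G) with hC
  have hCn : L ≤ normalizer (C : Set G) := cc_normal
  have h1 : L ≤ stabMod ({b} : Set G) C := by
    rw [← zpowers_sup_eq hc hx hn]
    apply sup_le
    · rw [Subgroup.zpowers_le]
      refine ⟨hCn hx, ?_⟩
      rintro v rfl
      have := C.inv_mem hfix
      rwa [commutatorElement_inv] at this
    · intro y hy
      refine ⟨hCn (hc.hYL hy), ?_⟩
      rintro v rfl
      have h3 : v * y = y * v := ((Subgroup.mem_centralizer_iff.mp (hc.hYY hy)) v hb)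
      rw [commutatorElement_eq_one_iff_mul_comm.mpr h3]
      exact C.one_mem
  apply hc.mem_of_fix_all hb
  intro l hl
  have := C.inv_mem ((h1 hl).2 b rfl)
  rwa [commutatorElement_inv] at this

namespace Pair

variable {Y₁ Y₂ L : Subgroup G}

theorem of_not_norm (hc₁ : LConf p Y₁ L) (hc₂ : LConf p Y₂ L)
    (hC : Y₂ ⊓ centralizer (L : Set G) = Y₁ ⊓ centralizer (L : Set G)) {y₂ : G} (hy₂ : y₂ ∈ Y₂)
    (hn : y₂ ∉ normalizer (Y₁ : Set G)) : LConf.Pair p Y₁ Y₂ L := by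
  refine ⟨hc₁, hc₂, ?_, hC⟩
  have hle : Y₁ ⊔ Y₂ ≤ L := sup_le hc₁.hYL hc₂.hYL
  by_contra hne
  exact hn (hc₁.hmax _ le_sup_left (lt_of_le_of_ne hle hne) (le_sup_right (a := Y₁) hy₂))

/-- the fixed point lemma: the case of two elements off the normalizers. -/
theorem far2 (hP : LConf.Pair p Y₁ Y₂ L) {y₁ y₂ a : G} (hy₁ : y₁ ∈ Y₁) (hy₂ : y₂ ∈ Y₂)
    (hn₁ : y₁ ∉ normalizer (Y₂ : Set G)) (hn₂ : y₂ ∉ normalizer (Y₁ : Set G))
    (ha : a ∈ pCoreOf p L)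
    (h₁ : ⁅y₁, a⁆ ∈ Y₁ ⊓ centralizer (L : Set G)) (h₂ : ⁅y₂, a⁆ ∈ Y₁ ⊓ centralizer (L : Set G)) :
    a ∈ Y₁ ⊓ centralizer (L : Set G) := by
  set C : Subgroup G := Y₁ ⊓ centralizer (L : Set G) with hC
  have hCn : L ≤ normalizer (C : Set G) := cc_normal
  have hAL : pCoreOf p L ≤ L := pCoreOf_le L
  obtain ⟨b₁, hb₁, b₂, hb₂, rfl⟩ := decomp hP ha
  have hb₁L : b₁ ∈ L := hAL hb₁.2
  have hy₁L : y₁ ∈ L := hP.h1.hYL hy₁
  have hy₂L : y₂ ∈ L := hP.h2.hYL hy₂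
  -- first `b₂ ∈ C`
  have hcomm₁ : y₁ * b₁ = b₁ * y₁ := (Subgroup.mem_centralizer_iff.mp (hP.h1.hYY hb₁.1)) y₁ hy₁
  have hb₂C : b₂ ∈ C := by
    have h3 : ⁅y₁, b₂⁆ ∈ C := by
      have e : ⁅y₁, b₂⁆ = b₁⁻¹ * ⁅y₁, b₁ * b₂⁆ * b₁ := by
        simp only [commutatorElement_def]
        have : y₁ * (b₁ * b₂) = b₁ * (y₁ * b₂) := by rw [← mul_assoc, hcomm₁, mul_assoc]
        rw [this]
        group
      rw [e]
      exact conj_inv_mem_of_mem_normalizer (hCn hb₁L) h₁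
    have h4 := fix_of_comm hP.h2 hy₁L hn₁ hb₂.1 (by rw [hP.hC]; exact h3)
    rwa [hP.hC] at h4
  -- then `b₁ ∈ C`
  have hb₁C : b₁ ∈ C := by
    have hcomm₂ : y₂ * b₂ = b₂ * y₂ := (Subgroup.mem_centralizer_iff.mp (hP.h2.hYY hb₂.1)) y₂ hy₂
    have h3 : ⁅y₂, b₁⁆ ∈ C := by
      have e : ⁅y₂, b₁⁆ = ⁅y₂, b₁ * b₂⁆ := by
        simp only [commutatorElement_def]
        have h4 : b₂ * y₂⁻¹ * b₂⁻¹ = y₂⁻¹ := by
          have : y₂⁻¹ * b₂ = b₂ * y₂⁻¹ := by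
            rw [eq_mul_inv_iff_mul_eq, mul_assoc, inv_mul_eq_iff_eq_mul, hcomm₂.symm]
          rw [← this]
          group
        calc y₂ * b₁ * y₂⁻¹ * b₁⁻¹ = y₂ * b₁ * (b₂ * y₂⁻¹ * b₂⁻¹) * b₁⁻¹ := by rw [h4]
          _ = y₂ * (b₁ * b₂) * y₂⁻¹ * (b₁ * b₂)⁻¹ := by group
      rw [e]
      exact h₂
    exact fix_of_comm hP.h1 hy₂L hn₂ hb₁.1 h3
  exact C.mul_mem hb₁C hb₂C

end Pair

/-- A normal section of a `p`-group contains a non-trivial fixed element. -/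
theorem exists_fixed_elt {P W C : Subgroup G} (hP : IsPGroup p P) (hWP : W ≤ P) (hCW : C < W)
    (hPW : P ≤ normalizer (W : Set G)) (hPC : P ≤ normalizer (C : Set G)) :
    ∃ a ∈ W, a ∉ C ∧ ∀ g ∈ P, ⁅a, g⁆ ∈ C := by
  classical
  induction' hn : Nat.card W using Nat.strong_induction_on with n ih generalizing W
  set W₁ : Subgroup G := ⁅W, P⁆ ⊔ C with hW₁
  have hne : W₁ ≠ W := comm_sup_ne hP hWP hCW hPW hPC
  have hcomm : ⁅W, P⁆ ≤ W := commutator_le_left_of_le_normalizer hPW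
  have hle : W₁ ≤ W := sup_le hcomm hCW.le
  have hlt : W₁ < W := lt_of_le_of_ne hle hne
  by_cases hC1 : W₁ = C
  · obtain ⟨a, ha, haC⟩ := SetLike.exists_of_lt hCW
    refine ⟨a, ha, haC, fun g hg => ?_⟩
    rw [← hC1]
    exact le_sup_left (a := ⁅W, P⁆) (Subgroup.commutator_mem_commutator ha hg)
  · have hCW₁ : C < W₁ := lt_of_le_of_ne le_sup_right (Ne.symm hC1)
    have hPW₁ : P ≤ normalizer (W₁ : Set G) := fun g hg =>
      mem_normalizer_commSup (hPW hg) (hPC hg) (Subgroup.le_normalizer hg)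
    obtain ⟨a, ha, haC, hfix⟩ := ih (Nat.card W₁)
      (hn ▸ Cfsg.Agent.Lib.PGroups.Basic.card_lt_of_lt hlt) (hle.trans hWP) hCW₁ hPW₁ rfl
    exact ⟨a, hle ha, haC, hfix⟩

section quot

variable {Q : Type*} [Group Q]

/-- The computation in the quotient. -/
theorem quot_aux {d i : Q} (hi : i * i = 1) (hd : i * d * i = d⁻¹)
    (hcomm : ((d * i) * i * (d * i)⁻¹) * i = i * ((d * i) * i * (d * i)⁻¹)) : d * d * d * d = 1 := by
  have hi' : i⁻¹ = i := inv_eq_of_mul_eq_one_left hi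
  have hid : i * d = d⁻¹ * i := by
    rw [← hd]
    calc i * d = i * d * (i * i) := by rw [hi, mul_one]
      _ = i * d * i * i := by group
  have e1 : (d * i) * i * (d * i)⁻¹ = d * d * i := by
    have : i * d⁻¹ = d * i := by
      have h1 : d⁻¹ = i * d * i := hd.symm
      rw [h1]
      calc i * (i * d * i) = (i * i) * d * i := by group
        _ = d * i := by rw [hi, one_mul]
    calc (d * i) * i * (d * i)⁻¹ = d * (i * i) * i⁻¹ * d⁻¹ := by group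
      _ = d * (i * d⁻¹) := by rw [hi, hi']; group
      _ = d * d * i := by rw [this]; group
  rw [e1] at hcomm
  have h2 : d * d = i * (d * d) * i := by
    calc d * d = d * d * (i * i) := by rw [hi, mul_one]
      _ = d * d * i * i := by group
      _ = i * (d * d * i) := hcomm
      _ = i * (d * d) * i := by group
  have h3 : i * (d * d) * i = d⁻¹ * d⁻¹ := by
    calc i * (d * d) * i = (i * d) * (d * i) := by group
      _ = (i * d) * (i * i) * (d * i) := by rw [hi, mul_one]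
      _ = (i * d * i) * (i * d * i) := by group
      _ = d⁻¹ * d⁻¹ := by rw [hd]
  rw [h3] at h2
  calc d * d * d * d = (d * d) * (d * d) := by group
    _ = (d⁻¹ * d⁻¹) * (d * d) := by rw [← h2]
    _ = 1 := by group

/-- An element of odd order with `d⁴ = 1` is trivial. -/
theorem eq_one_of_odd {d : Q} (hodd : Odd (orderOf d)) (h : d * d * d * d = 1) : d = 1 := by
  have h1 : d ^ 4 = 1 := by
    rw [← h]; simp only [pow_succ, pow_zero, one_mul]
  have h2 : orderOf d ∣ 4 := orderOf_dvd_of_pow_eq_one h1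
  have h3 : orderOf d ∣ 2 ^ 2 := by simpa using h2
  obtain ⟨k, -, hk⟩ := (Nat.dvd_prime_pow Nat.prime_two).mp h3
  rcases k with _ | k
  · simpa using hk
  · rw [hk, pow_succ] at hodd
    exact absurd hodd (by simp [Nat.not_odd_iff_even])

end quot

section core

variable {L : Subgroup G}

instance normal_A (p : ℕ) [Fact p.Prime] (L : Subgroup G) : ((pCoreOf p L).subgroupOf L).Normal :=
  (Subgroup.normal_subgroupOf_iff_le_normalizer (pCoreOf_le L)).mpr (le_normalizer_pCoreOf L)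

/-- The canonical map modulo `O_p(L)`. -/
noncomputable def piA (p : ℕ) [Fact p.Prime] (L : Subgroup G) : ↥L →* ↥L ⧸ (pCoreOf p L).subgroupOf L :=
  QuotientGroup.mk' ((pCoreOf p L).subgroupOf L)

theorem piA_eq_one {x : ↥L} : piA p L x = 1 ↔ (x : G) ∈ pCoreOf p L := by
  rw [piA, QuotientGroup.mk'_apply, QuotientGroup.eq_one_iff, Subgroup.mem_subgroupOf]

/-- The element `z` with `π z = e i` does not normalize `Y`. -/
theorem not_norm {Y : Subgroup G} (hc : LConf p Y L) {y : G} (hy : y ∈ Y) (z : ↥L)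
    {e i : ↥L ⧸ (pCoreOf p L).subgroupOf L} (hi : piA p L ⟨y, hc.hYL hy⟩ = i) (hz : piA p L z = e * i)
    (hii : i * i = 1) (hei : i * e * i = e⁻¹) (hodd : Odd (orderOf e)) (hne : e ≠ 1) :
    (z : G) ∉ normalizer (Y : Set G) := by
  intro hn
  apply hne
  apply eq_one_of_odd hodd
  apply quot_aux hii hei
  have h1 : (z : G) * y * (z : G)⁻¹ ∈ Y := conj_mem_of_mem_normalizer hn hy
  have h2 : (z : G) * y * (z : G)⁻¹ * y = y * ((z : G) * y * (z : G)⁻¹) :=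
    (Subgroup.mem_centralizer_iff.mp (hc.hYY h1)) y hy |>.symm
  have h3 : z * ⟨y, hc.hYL hy⟩ * z⁻¹ * ⟨y, hc.hYL hy⟩ = ⟨y, hc.hYL hy⟩ * (z * ⟨y, hc.hYL hy⟩ * z⁻¹) :=
    Subtype.ext h2
  have h4 := congrArg (piA p L) h3
  simp only [map_mul, map_inv, hi, hz] at h4
  exact h4

/-- The core lemma: an element of odd order off `O_p(L)` inverted modulo `O_p(L)` by an element `y`
of `Y` with `y² ∈ O_p(L)`  acts without fixed points on `O_p(L) / C_Y(L)`. -/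
theorem inv_case {Y₁ : Subgroup G} (hc : LConf p Y₁ L) {y₁ h a : G} (hy₁ : y₁ ∈ Y₁) (hh : h ∈ L)
    (hodd : Odd (orderOf h)) (hhA : h ∉ pCoreOf p L) (hy2 : y₁ * y₁ ∈ pCoreOf p L)
    (hinv : y₁ * h * y₁⁻¹ * h ∈ pCoreOf p L) (ha : a ∈ pCoreOf p L)
    (hfix : ⁅h, a⁆ ∈ Y₁ ⊓ centralizer (L : Set G)) : a ∈ Y₁ ⊓ centralizer (L : Set G) := by
  classical
  set A : Subgroup G := pCoreOf p L with hA
  set C : Subgroup G := Y₁ ⊓ centralizer (L : Set G) with hC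
  have hCn : L ≤ normalizer (C : Set G) := cc_normal
  have hAL : A ≤ L := pCoreOf_le L
  have hCA : C ≤ A := hc.cc_le_A
  have hy₁L : y₁ ∈ L := hc.hYL hy₁
  -- the quotient
  set φ : ↥L →* ↥L ⧸ A.subgroupOf L := piA p L with hφ
  set d := φ ⟨h, hh⟩ with hd
  set i := φ ⟨y₁, hy₁L⟩ with hi
  have hii : i * i = 1 := by
    rw [hi, ← map_mul]
    exact piA_eq_one.mpr hy2
  have hi' : i⁻¹ = i := inv_eq_of_mul_eq_one_left hii
  have hid : i * d * i = d⁻¹ := by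
    have : i * d * i⁻¹ * d = 1 := by
      rw [hi, hd, ← map_inv, ← map_mul, ← map_mul, ← map_mul]
      exact piA_eq_one.mpr hinv
    rw [hi'] at this
    exact eq_inv_of_mul_eq_one_left this
  have hdodd : Odd (orderOf d) := by
    have h1 : orderOf d ∣ orderOf (⟨h, hh⟩ : ↥L) := orderOf_map_dvd φ _
    have h2 : orderOf (⟨h, hh⟩ : ↥L) = orderOf h := Subgroup.orderOf_mk h hh
    rw [h2] at h1
    exact Odd.of_dvd_nat hodd h1
  have hd1 : d ≠ 1 := fun h1 => hhA (piA_eq_one.mp h1)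
  -- the square root
  obtain ⟨k, hk⟩ : ∃ k : ℕ, h ^ k * h ^ k = h := by
    obtain ⟨m, hm⟩ := hodd
    refine ⟨m + 1, ?_⟩
    rw [← pow_add]
    have : m + 1 + (m + 1) = orderOf h + 1 := by omega
    rw [this, pow_succ, pow_orderOf_eq_one, one_mul]
  set t : G := h ^ k with ht
  have htL : t ∈ L := L.pow_mem hh k
  set s := φ ⟨t, htL⟩ with hs
  have hss : s * s = d := by
    rw [hs, hd, ← map_mul]
    congr 1
    exact Subtype.ext hk
  have his : i * s * i = s⁻¹ := by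
    have e1 : s = d ^ k := by
      rw [hs, hd, ← map_pow]
      rfl
    have e2 : i * d ^ k * i⁻¹ = (d⁻¹) ^ k := by
      rw [← conj_pow, hi', hid]
    rw [hi'] at e2
    rw [e1, e2, inv_pow]
  set y₂ : G := t * y₁ * t⁻¹ with hy₂
  set Y₂ : Subgroup G := Y₁.map (MulAut.conj t).toMonoidHom with hY₂
  have hc₂ : LConf p Y₂ L := hc.conj htL
  have hy₂Y : y₂ ∈ Y₂ := ⟨y₁, hy₁, rfl⟩
  have hy₂L : y₂ ∈ L := hc₂.hYL hy₂Y
  set j := φ ⟨y₂, hy₂L⟩ with hj
  have hjdi : j = d * i := by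
    have e1 : (⟨y₂, hy₂L⟩ : ↥L) = ⟨t, htL⟩ * ⟨y₁, hy₁L⟩ * (⟨t, htL⟩ : ↥L)⁻¹ := rfl
    rw [hj, e1, map_mul, map_mul, map_inv, ← hs, ← hi, ← hss]
    have : s⁻¹ = i * s * i := his.symm
    rw [this]
    calc s * i * (i * s * i) = s * (i * i) * s * i := by group
      _ = s * s * i := by rw [hii]; group
  -- the two normalizer conditions
  have hn₂ : y₂ ∉ normalizer (Y₁ : Set G) :=
    not_norm hc hy₁ ⟨y₂, hy₂L⟩ rfl hjdi hii hid hdodd hd1
  have hjj : j * j = 1 := by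
    rw [hjdi]
    calc d * i * (d * i) = d * (i * d * i) := by group
      _ = 1 := by rw [hid]; group
  have hjd : j * d⁻¹ * j = (d⁻¹)⁻¹ := by
    rw [hjdi, inv_inv]
    calc d * i * d⁻¹ * (d * i) = d * (i * i) := by group
      _ = d := by rw [hii, mul_one]
  have hn₁ : y₁ ∉ normalizer (Y₂ : Set G) := by
    refine not_norm hc₂ hy₂Y ⟨y₁, hy₁L⟩ (e := d⁻¹) (i := j) rfl ?_ hjj hjd ?_ (inv_ne_one.mpr hd1)
    · show i = d⁻¹ * j
      rw [hjdi]; group
    · rwa [orderOf_inv]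
  have hCeq : Y₂ ⊓ centralizer (L : Set G) = C := cc_conj htL
  have hP : LConf.Pair p Y₁ Y₂ L := Pair.of_not_norm hc hc₂ hCeq hy₂Y hn₂
  -- reduction to a fixed point of the whole `2`-group
  set W₀ : Subgroup G := fixMod A C (Subgroup.zpowers h) with hW₀
  have hCW₀ : C ≤ W₀ := by
    intro c hc'
    refine ⟨hCA hc', hCn (hAL (hCA hc')), fun x hx => ?_⟩
    have hxL : x ∈ L := (Subgroup.zpowers_le.mpr hh) hx
    have : c * x = x * c := (cc_comm hc' hxL).symm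
    rw [commutatorElement_eq_one_iff_mul_comm.mpr this]
    exact C.one_mem
  have hgen : ∀ v ∈ L, ⁅v, h⁆ ∈ C → v ∈ A → v ∈ W₀ := by
    intro v hvL hv hvA
    refine ⟨hvA, hCn hvL, ?_⟩
    have : Subgroup.zpowers h ≤ stabMod ({v} : Set G) C := by
      rw [Subgroup.zpowers_le]
      refine ⟨hCn hh, ?_⟩
      rintro _ rfl
      exact hv
    exact fun x hx => (this hx).2 v rfl
  by_contra haC
  have haW₀ : a ∈ W₀ := by
    refine hgen a (hAL ha) ?_ ha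
    have := C.inv_mem hfix
    rwa [commutatorElement_inv] at this
  have hCltW₀ : C < W₀ := lt_of_le_of_ne hCW₀ (fun h1 => haC (h1 ▸ haW₀))
  -- `y₁` normalizes `W₀`
  have hy₁W₀ : y₁ ∈ normalizer (W₀ : Set G) := by
    apply mem_normalizer_of_conj_mem
    intro v hv
    have hvA : v ∈ A := hv.1
    have hvL : v ∈ L := hAL hvA
    have hv' : y₁ * v * y₁⁻¹ ∈ A := LConf.mem_A_conj hy₁L hvA
    refine hgen _ (hAL hv') ?_ hv'
    set e : G := h * (y₁⁻¹ * h * y₁) with he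
    have heL : e ∈ L := L.mul_mem hh (L.mul_mem (L.mul_mem (L.inv_mem hy₁L) hh) hy₁L)
    have heA : e ∈ A := by
      have : φ ⟨e, heL⟩ = 1 := by
        have e1 : (⟨e, heL⟩ : ↥L) = ⟨h, hh⟩ * ((⟨y₁, hy₁L⟩ : ↥L)⁻¹ * ⟨h, hh⟩ * ⟨y₁, hy₁L⟩) := rfl
        rw [e1, map_mul, map_mul, map_mul, map_inv, ← hd, ← hi, hi', hid]
        group
      exact piA_eq_one.mp this
    have h1 : ⁅v, e⁆ ∈ C := Pair.comm_A hP hvA heA
    have h2 : ⁅v, h⁻¹⁆ ∈ C := hv.2.2 _ (Subgroup.inv_mem _ (Subgroup.mem_zpowers h))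
    have h3 : ⁅v, y₁⁻¹ * h * y₁⁆ ∈ C := by
      have e1 : y₁⁻¹ * h * y₁ = h⁻¹ * e := by rw [he]; group
      rw [e1]
      have e2 : ⁅v, h⁻¹ * e⁆ = ⁅v, h⁻¹⁆ * (h⁻¹ * ⁅v, e⁆ * h⁻¹⁻¹) := by
        simp only [commutatorElement_def]; group
      rw [e2]
      exact C.mul_mem h2 (conj_mem_of_mem_normalizer (hCn (L.inv_mem hh)) h1)
    have e3 : ⁅y₁ * v * y₁⁻¹, h⁆ = y₁ * ⁅v, y₁⁻¹ * h * y₁⁆ * y₁⁻¹ := by
      simp only [commutatorElement_def]; group
    rw [e3]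
    exact conj_mem_of_mem_normalizer (hCn hy₁L) h3
  -- the `2`-group
  have hAp : IsPGroup p A := isPGroup_pCoreOf L
  have hW₀p : IsPGroup p W₀ := hAp.to_le (fixMod_le _ _ _)
  have hzp : IsPGroup p (Subgroup.zpowers y₁) :=
    hc.hYp.to_le (Subgroup.zpowers_le.mpr hy₁)
  have hzn : Subgroup.zpowers y₁ ≤ normalizer (W₀ : Set G) := Subgroup.zpowers_le.mpr hy₁W₀
  set P : Subgroup G := W₀ ⊔ Subgroup.zpowers y₁ with hPdef
  have hPp : IsPGroup p P := IsPGroup.to_sup_of_normal_left' hW₀p hzp hzn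
  have hPW₀ : P ≤ normalizer (W₀ : Set G) := sup_le Subgroup.le_normalizer hzn
  have hPL : P ≤ L := sup_le ((fixMod_le _ _ _).trans hAL) (Subgroup.zpowers_le.mpr hy₁L)
  obtain ⟨a', ha', ha'C, hfix'⟩ := exists_fixed_elt hPp le_sup_left hCltW₀ hPW₀ (hPL.trans hCn)
  apply ha'C
  have ha'A : a' ∈ A := ha'.1
  have hy₁s : y₁ ∈ stabMod ({a'} : Set G) C := by
    refine ⟨hCn hy₁L, ?_⟩
    rintro _ rfl
    exact hfix' y₁ (le_sup_right (a := W₀) (Subgroup.mem_zpowers y₁))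
  have hts : t ∈ stabMod ({a'} : Set G) C := by
    refine ⟨hCn htL, ?_⟩
    rintro _ rfl
    exact ha'.2.2 t (Subgroup.npow_mem_zpowers h k)
  have hy₂s : y₂ ∈ stabMod ({a'} : Set G) C :=
    Subgroup.mul_mem _ (Subgroup.mul_mem _ hts hy₁s) (Subgroup.inv_mem _ hts)
  have h5 : ⁅y₁, a'⁆ ∈ C := by
    have := C.inv_mem (hy₁s.2 a' rfl)
    rwa [commutatorElement_inv] at this
  have h6 : ⁅y₂, a'⁆ ∈ C := by
    have := C.inv_mem (hy₂s.2 a' rfl)
    rwa [commutatorElement_inv] at this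
  exact Pair.far2 hP hy₁ hy₂Y hn₁ hn₂ ha'A h5 h6

end core

end Cfsg.Agent.Lib.LocalStruct.FrakLFix1
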