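/-
Fixed points of non-`p`-elements on `O_p(L) / C_Y(L)` for `L ∈ 𝔏_G(Y)`: the case `L / O_p(L) ≅ SL₂`.
-/
import Cfsg.Agent.Lib.LocalStruct.FrakLFix1
import Cfsg.Agent.Lib.Classical.SL2Sylow
import Cfsg.Agent.Lib.SL2Faithful.Basic

set_option autoImplicit false
set_option linter.style.haveILetI false
set_option linter.unusedSectionVars false

namespace Cfsg.Agent.Lib.LocalStruct.FrakLFix2

open Subgroup Cfsg Cfsg.Agent.Lib.LocalStruct.Basic Cfsg.Agent.Lib.LocalStruct.Comm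
  Cfsg.Agent.Lib.LocalStruct.PCoreOf Cfsg.Agent.Lib.LocalStruct.WeakClosed
  Cfsg.Agent.Lib.LocalStruct.AsymL1 Cfsg.Agent.Lib.LocalStruct.FrakLFix1
  Cfsg.Agent.Lib.LocalStruct.FrakLFix1.LConf
  Cfsg.Agent.Lib.Classical.SL2Sylow
open scoped commutatorElement MatrixGroups

universe u v

variable {G : Type u} [Group G] [Finite G] {p : ℕ} [Fact p.Prime]

/-- The fixed point property of an element. -/
def FixProp (p : ℕ) [Fact p.Prime] (Y L : Subgroup G) (g : G) : Prop :=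
  ∀ a ∈ pCoreOf p L, ⁅g, a⁆ ∈ Y ⊓ centralizer (L : Set G) → a ∈ Y ⊓ centralizer (L : Set G)

/-- Conjugation invariance of the fixed point property. -/
theorem FixProp.of_conj {Y L : Subgroup G} {g l : G} (hl : l ∈ L)
    (h : FixProp p Y L (l * g * l⁻¹)) : FixProp p Y L g := by
  intro a ha hfix
  have hCn : L ≤ normalizer ((Y ⊓ centralizer (L : Set G) : Subgroup G) : Set G) := cc_normal
  have h1 : l * a * l⁻¹ ∈ pCoreOf p L := mem_A_conj hl ha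
  have h2 : ⁅l * g * l⁻¹, l * a * l⁻¹⁆ ∈ Y ⊓ centralizer (L : Set G) := by
    rw [← conj_commutatorElement]
    exact conj_mem_of_mem_normalizer (hCn hl) hfix
  have h3 := h _ h1 h2
  have h4 := conj_inv_mem_of_mem_normalizer (hCn hl) h3
  have e : l⁻¹ * (l * a * l⁻¹) * l = a := by group
  rwa [e] at h4

namespace Pair

variable {Y₁ Y₂ L : Subgroup G}

/-- The key computation: `y_r ȳ y_s` has no fixed points on `O_p(L) / C`, if `y_r y_s` and `ȳ` are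
off the normalizers. -/
theorem three (hP : LConf.Pair p Y₁ Y₂ L) {yr ys yb a : G} (hyr : yr ∈ Y₁) (hys : ys ∈ Y₁)
    (hyb : yb ∈ Y₂) (hnb : yb ∉ normalizer (Y₁ : Set G))
    (hn : yr * ys ∉ normalizer (Y₂ : Set G)) (ha : a ∈ pCoreOf p L)
    (hfix : ⁅yr * yb * ys, a⁆ ∈ Y₁ ⊓ centralizer (L : Set G)) :
    a ∈ Y₁ ⊓ centralizer (L : Set G) := by
  set A : Subgroup G := pCoreOf p L with hA
  set C : Subgroup G := Y₁ ⊓ centralizer (L : Set G) with hC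
  have hCn : L ≤ normalizer (C : Set G) := cc_normal
  have hAL : A ≤ L := pCoreOf_le L
  have hyrL : yr ∈ L := hP.h1.hYL hyr
  have hysL : ys ∈ L := hP.h1.hYL hys
  have hybL : yb ∈ L := hP.h2.hYL hyb
  obtain ⟨b₁, hb₁, b₂, hb₂, rfl⟩ := Pair.decomp hP ha
  have comm₁ : ∀ {x y : G}, x ∈ Y₁ → y ∈ Y₁ → x * y = y * x := fun hx hy =>
    (Subgroup.mem_centralizer_iff.mp (hP.h1.hYY hy)) _ hx
  have comm₂ : ∀ {x y : G}, x ∈ Y₂ → y ∈ Y₂ → x * y = y * x := fun hx hy =>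
    (Subgroup.mem_centralizer_iff.mp (hP.h2.hYY hy)) _ hx
  set fs : G := ⁅ys, b₂⁆ with hfs
  have hfsA : fs ∈ Y₁ ⊓ A := hP.h1.comm_mem_inf hys hb₂.2
  set c₁ : G := b₁ * fs with hc₁
  have hc₁A : c₁ ∈ Y₁ ⊓ A := Subgroup.mul_mem _ hb₁ hfsA
  set f' : G := ⁅yb, c₁⁆ with hf'
  have hf'A : f' ∈ Y₂ ⊓ A := hP.h2.comm_mem_inf hyb hc₁A.2
  set fr : G := ⁅yr, b₂⁆ with hfr
  have hfrA : fr ∈ Y₁ ⊓ A := hP.h1.comm_mem_inf hyr hb₂.2
  set f'' : G := ⁅yr, f'⁆ with hf''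
  have hf''A : f'' ∈ Y₁ ⊓ A := hP.h1.comm_mem_inf hyr hf'A.2
  -- the value of the conjugate
  have e1 : ys * (b₁ * b₂) * ys⁻¹ = c₁ * b₂ := by
    have h1 : ys * b₁ = b₁ * ys := comm₁ hys hb₁.1
    rw [hc₁, hfs]
    simp only [commutatorElement_def]
    calc ys * (b₁ * b₂) * ys⁻¹ = (ys * b₁) * b₂ * ys⁻¹ := by group
      _ = (b₁ * ys) * b₂ * ys⁻¹ := by rw [h1]
      _ = _ := by group
  have e2 : yb * (c₁ * b₂) * yb⁻¹ = f' * c₁ * b₂ := by
    have h1 : yb * b₂ = b₂ * yb := comm₂ hyb hb₂.1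
    rw [hf']
    simp only [commutatorElement_def]
    calc yb * (c₁ * b₂) * yb⁻¹ = yb * c₁ * yb⁻¹ * (yb * b₂) * yb⁻¹ := by group
      _ = yb * c₁ * yb⁻¹ * (b₂ * yb) * yb⁻¹ := by rw [h1]
      _ = _ := by group
  have e3 : yr * (f' * c₁ * b₂) * yr⁻¹ = f'' * f' * c₁ * fr * b₂ := by
    have h1 : yr * c₁ = c₁ * yr := comm₁ hyr hc₁A.1
    have x1 : f'' * f' = yr * f' * yr⁻¹ := by
      rw [hf'']; simp only [commutatorElement_def]; group
    have x2 : fr * b₂ = yr * b₂ * yr⁻¹ := by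
      rw [hfr]; simp only [commutatorElement_def]; group
    have x3 : yr * c₁ * yr⁻¹ = c₁ := by
      rw [h1]; group
    calc yr * (f' * c₁ * b₂) * yr⁻¹ = (yr * f' * yr⁻¹) * (yr * c₁ * yr⁻¹) * (yr * b₂ * yr⁻¹) := by group
      _ = (f'' * f') * c₁ * (fr * b₂) := by rw [x1, x2, x3]
      _ = _ := by group
  set z : G := c₁ * fr * b₁⁻¹ with hz
  have hzA : z ∈ Y₁ ⊓ A :=
    Subgroup.mul_mem _ (Subgroup.mul_mem _ hc₁A hfrA) (Subgroup.inv_mem _ hb₁)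
  set d₁ : G := f'' * (f' * z * f'⁻¹) with hd₁
  have hd₁Y : d₁ ∈ Y₁ :=
    Y₁.mul_mem hf''A.1 (conj_mem_of_mem_normalizer (hP.h1.hAY hf'A.2) hzA.1)
  have hprod : d₁ * f' ∈ C := by
    have e4 : ⁅yr * yb * ys, b₁ * b₂⁆ = d₁ * f' := by
      have e5 : yr * yb * ys * (b₁ * b₂) * (yr * yb * ys)⁻¹ =
          yr * (yb * (ys * (b₁ * b₂) * ys⁻¹) * yb⁻¹) * yr⁻¹ := by group
      rw [commutatorElement_def, e5, e1, e2, e3, hd₁, hz]
      group
    rw [← e4]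
    exact hfix
  obtain ⟨hd₁C, hf'C⟩ := Pair.uniq hP hd₁Y hf'A.1 hprod
  have hc₁C : c₁ ∈ C := fix_of_comm hP.h1 hybL hnb hc₁A.1 hf'C
  have hf''1 : f'' = 1 := by
    rw [hf'', commutatorElement_eq_one_iff_mul_comm]
    exact cc_comm hf'C hyrL
  have hzC : z ∈ C := by
    have e4 : d₁ = z := by
      rw [hd₁, hf''1, one_mul]
      exact cc_comm hf'C (hAL hzA.2) ▸ (by group)
    rwa [e4] at hd₁C
  have h5 : fr * b₁⁻¹ ∈ C := by
    have e4 : fr * b₁⁻¹ = c₁⁻¹ * z := by rw [hz]; group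
    rw [e4]
    exact C.mul_mem (C.inv_mem hc₁C) hzC
  have h6 : ⁅yr * ys, b₂⁆ ∈ C := by
    have e4 : ⁅yr * ys, b₂⁆ = (fr * b₁⁻¹) * c₁ := by
      have h7 : fs * fr = fr * fs := comm₁ hfsA.1 hfrA.1
      have h8 : yr * fs = fs * yr := comm₁ hyr hfsA.1
      have x2 : fr * b₂ = yr * b₂ * yr⁻¹ := by
        rw [hfr]; simp only [commutatorElement_def]; group
      have x3 : fs * b₂ = ys * b₂ * ys⁻¹ := by
        rw [hfs]; simp only [commutatorElement_def]; group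
      calc ⁅yr * ys, b₂⁆ = yr * (ys * b₂ * ys⁻¹) * yr⁻¹ * b₂⁻¹ := by
            simp only [commutatorElement_def]; group
        _ = (yr * fs) * b₂ * yr⁻¹ * b₂⁻¹ := by rw [← x3]; group
        _ = fs * (yr * b₂ * yr⁻¹) * b₂⁻¹ := by rw [h8]; group
        _ = fs * (fr * b₂) * b₂⁻¹ := by rw [x2]
        _ = fs * fr := by group
        _ = fr * fs := h7
        _ = (fr * b₁⁻¹) * c₁ := by rw [hc₁]; group
    rw [e4]
    exact C.mul_mem h5 hc₁C
  have hb₂C : b₂ ∈ C := by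
    have h7 := fix_of_comm hP.h2 (L.mul_mem hyrL hysL) hn hb₂.1 (by rw [hP.hC]; exact h6)
    rwa [hP.hC] at h7
  have hfs1 : fs = 1 := by
    rw [hfs, commutatorElement_eq_one_iff_mul_comm]
    exact (cc_comm hb₂C hysL)
  have hb₁C : b₁ ∈ C := by
    have e4 : c₁ = b₁ := by rw [hc₁, hfs1, mul_one]
    rwa [e4] at hc₁C
  exact C.mul_mem hb₁C hb₂C

end Pair

/-! ### The `SL₂` configuration -/

section SL2

variable {F : Type v} [Field F]

/-- The Weyl element. -/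
def wS : SL(2, F) := ⟨!![0, 1; -1, 0], by simp [Matrix.det_fin_two]⟩

@[simp] lemma wS_coe : ((wS : SL(2, F)) : Matrix (Fin 2) (Fin 2) F) = !![0, 1; -1, 0] := rfl

lemma wS_conj_entries (M : SL(2, F)) :
    ((wS * M * wS⁻¹ : SL(2, F)) : Matrix (Fin 2) (Fin 2) F) 1 0 = -(M : Matrix (Fin 2) (Fin 2) F) 0 1 ∧
    ((wS * M * wS⁻¹ : SL(2, F)) : Matrix (Fin 2) (Fin 2) F) 0 0 = (M : Matrix (Fin 2) (Fin 2) F) 1 1 ∧
    ((wS * M * wS⁻¹ : SL(2, F)) : Matrix (Fin 2) (Fin 2) F) 1 1 = (M : Matrix (Fin 2) (Fin 2) F) 0 0 := by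
  simp [Matrix.SpecialLinearGroup.coe_inv, Matrix.adjugate_fin_two, Matrix.mul_apply,
    Fin.sum_univ_two, Matrix.vecMul, dotProduct]

lemma wS_inv_conj_entry (M : SL(2, F)) :
    ((wS⁻¹ * M * wS : SL(2, F)) : Matrix (Fin 2) (Fin 2) F) 1 0 = -(M : Matrix (Fin 2) (Fin 2) F) 0 1 := by
  simp [Matrix.SpecialLinearGroup.coe_inv, Matrix.adjugate_fin_two, Matrix.mul_apply,
    Fin.sum_univ_two, Matrix.vecMul, dotProduct]

lemma loS_conj_entries (M : SL(2, F)) (h1 : (M : Matrix (Fin 2) (Fin 2) F) 0 1 = 0)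
    (h2 : (M : Matrix (Fin 2) (Fin 2) F) 1 0 = 0) :
    ((loS 1 * M * (loS 1)⁻¹ : SL(2, F)) : Matrix (Fin 2) (Fin 2) F) 1 0 =
      (M : Matrix (Fin 2) (Fin 2) F) 0 0 - (M : Matrix (Fin 2) (Fin 2) F) 1 1 ∧
    ((loS 1 * M * (loS 1)⁻¹ : SL(2, F)) : Matrix (Fin 2) (Fin 2) F) 0 0 = (M : Matrix (Fin 2) (Fin 2) F) 0 0 ∧
    ((loS 1 * M * (loS 1)⁻¹ : SL(2, F)) : Matrix (Fin 2) (Fin 2) F) 1 1 = (M : Matrix (Fin 2) (Fin 2) F) 1 1 := by
  simp [Matrix.SpecialLinearGroup.coe_inv, Matrix.adjugate_fin_two, Matrix.mul_apply,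
    Fin.sum_univ_two, Matrix.vecMul, dotProduct, h1, h2]
  ring

lemma wS_conj_upS (t : F) : wS * upS t * wS⁻¹ = loS (-t) := by
  apply Subtype.ext
  ext i j
  fin_cases i <;> fin_cases j <;>
    simp [Matrix.SpecialLinearGroup.coe_inv, Matrix.adjugate_fin_two, Matrix.mul_apply,
      Fin.sum_univ_two]

/-- The `SL₂`-configuration: `L / O_p(L) ≅ SL₂(F)` with `Y` mapped onto the unitriangular group. -/
structure SLConf (p : ℕ) [Fact p.Prime] (Y L : Subgroup G) (τ : ↥L →* SL(2, F)) : Prop where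
  hc : LConf p Y L
  hs : Function.Surjective τ
  hker : ∀ x : ↥L, τ x = 1 ↔ (x : G) ∈ pCoreOf p L
  hY : ∀ x : ↥L, (x : G) ∈ Y → τ x ∈ US F
  hYs : ∀ t : F, ∃ x : ↥L, (x : G) ∈ Y ∧ τ x = upS t

namespace SLConf

variable {Y L : Subgroup G} {τ : ↥L →* SL(2, F)}

theorem mem_norm_of_BS (h : SLConf p Y L τ) (x : ↥L) (hx : τ x ∈ BS F) :
    (x : G) ∈ normalizer (Y : Set G) := by
  set X : Subgroup G := ((BS F).comap τ).map L.subtype with hX
  have hXL : X ≤ L := by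
    rintro _ ⟨z, -, rfl⟩
    exact z.2
  have hYX : Y ≤ X := by
    intro y hy
    refine ⟨⟨y, h.hc.hYL hy⟩, ?_, rfl⟩
    obtain ⟨t, ht⟩ := mem_US_iff.mp (h.hY ⟨y, h.hc.hYL hy⟩ hy)
    show τ _ ∈ BS F
    rw [← ht, mem_BS_iff]
    simp
  have hlt : X < L := by
    refine lt_of_le_of_ne hXL ?_
    intro hE
    obtain ⟨z, hz⟩ := h.hs (loS 1)
    have hzX : (z : G) ∈ X := by rw [hE]; exact z.2
    obtain ⟨z', hz', hzz'⟩ := hzX
    have e : z' = z := Subtype.ext hzz'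
    rw [e] at hz'
    have h1 : τ z ∈ BS F := hz'
    rw [hz, mem_BS_iff] at h1
    simp at h1
  exact h.hc.hmax X hYX hlt ⟨x, hx, rfl⟩

theorem BS_of_mem_norm (h : SLConf p Y L τ) (x : ↥L) (hx : (x : G) ∈ normalizer (Y : Set G)) :
    τ x ∈ BS F := by
  obtain ⟨y, hy, hτ⟩ := h.hYs 1
  have h1 : (x : G) * y * (x : G)⁻¹ ∈ Y := conj_mem_of_mem_normalizer hx hy
  obtain ⟨s, hs⟩ := mem_US_iff.mp (h.hY (x * y * x⁻¹) h1)
  rw [mem_BS_iff]
  apply entry_eq_zero_of_conj (s := s) (t := 1) one_ne_zero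
  rw [← hτ, hs]
  simp

/-- the second conjugate -/
abbrev Y2 (Y : Subgroup G) {L : Subgroup G} (w : ↥L) : Subgroup G :=
  Y.map (MulAut.conj (w : G)).toMonoidHom

theorem lo_mem (h : SLConf p Y L τ) {w : ↥L} (hw : τ w = wS) (c : F) :
    ∃ x : ↥L, (x : G) ∈ Y2 Y w ∧ τ x = loS c := by
  obtain ⟨y, hy, hτ⟩ := h.hYs (-c)
  refine ⟨w * y * w⁻¹, ⟨y, hy, rfl⟩, ?_⟩
  rw [map_mul, map_mul, map_inv, hw, hτ, wS_conj_upS, neg_neg]

theorem lo_not_norm (h : SLConf p Y L τ) (x : ↥L) {c : F} (hc : c ≠ 0) (hx : τ x = loS c) :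
    (x : G) ∉ normalizer (Y : Set G) := by
  intro hn
  have h1 := h.BS_of_mem_norm x hn
  rw [hx, mem_BS_iff] at h1
  exact hc (by simpa using h1)

theorem up_not_norm (h : SLConf p Y L τ) {w : ↥L} (hw : τ w = wS) (x : ↥L) {t : F} (ht : t ≠ 0)
    (hx : τ x = upS t) : (x : G) ∉ normalizer (Y2 Y w : Set G) := by
  intro hn
  rw [normalizer_map_conj] at hn
  obtain ⟨n, hn, hnx⟩ := hn
  simp only [MulEquiv.coe_toMonoidHom, MulAut.conj_apply] at hnx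
  have e : n = ((w⁻¹ * x * w : ↥L) : G) := by
    show n = (w : G)⁻¹ * (x : G) * (w : G)
    rw [← hnx]; group
  rw [e] at hn
  have h1 := h.BS_of_mem_norm _ hn
  rw [map_mul, map_mul, map_inv, hw, hx, mem_BS_iff, wS_inv_conj_entry] at h1
  exact ht (by simpa using h1)

theorem mem_norm₂ (h : SLConf p Y L τ) {w : ↥L} (hw : τ w = wS) (x : ↥L)
    (hx : (τ x : Matrix (Fin 2) (Fin 2) F) 0 1 = 0) : (x : G) ∈ normalizer (Y2 Y w : Set G) := by
  rw [normalizer_map_conj]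
  refine ⟨((w⁻¹ * x * w : ↥L) : G), h.mem_norm_of_BS _ ?_, ?_⟩
  · rw [map_mul, map_mul, map_inv, hw, mem_BS_iff, wS_inv_conj_entry, hx, neg_zero]
  · simp only [MulEquiv.coe_toMonoidHom, MulAut.conj_apply]
    show (w : G) * ((w : G)⁻¹ * (x : G) * (w : G)) * (w : G)⁻¹ = x
    group

theorem pair (h : SLConf p Y L τ) {w : ↥L} (hw : τ w = wS) : LConf.Pair p Y (Y2 Y w) L := by
  obtain ⟨x, hx, hτ⟩ := h.lo_mem hw (1 : F)
  exact Pair.of_not_norm h.hc (h.hc.conj w.2) (cc_conj w.2) hx (h.lo_not_norm x one_ne_zero hτ)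

/-- The main case of the fixed point lemma. -/
theorem main_gamma (h : SLConf p Y L τ) (g : ↥L)
    (hγ : (τ g : Matrix (Fin 2) (Fin 2) F) 1 0 ≠ 0)
    (htr : (τ g : Matrix (Fin 2) (Fin 2) F) 0 0 + (τ g : Matrix (Fin 2) (Fin 2) F) 1 1 ≠ 2) :
    FixProp p Y L (g : G) := by
  intro a ha hfix
  obtain ⟨w, hw⟩ := h.hs wS
  have hP := h.pair hw
  have hdec := eq_up_lo_up (τ g) hγ
  set γ : F := (τ g : Matrix (Fin 2) (Fin 2) F) 1 0 with hγdef
  set r : F := ((τ g : Matrix (Fin 2) (Fin 2) F) 0 0 - 1) / γ with hr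
  set s : F := ((τ g : Matrix (Fin 2) (Fin 2) F) 1 1 - 1) / γ with hs
  obtain ⟨yr, hyrY, hyr⟩ := h.hYs r
  obtain ⟨ys, hysY, hys⟩ := h.hYs s
  obtain ⟨yb, hybY, hyb⟩ := h.lo_mem hw γ
  set X : ↥L := yr * yb * ys with hX
  have hτX : τ X = τ g := by
    rw [hX, map_mul, map_mul, hyr, hyb, hys]
    exact hdec.symm
  set e : ↥L := X⁻¹ * g with he
  have heA : (e : G) ∈ pCoreOf p L := (h.hker e).mp (by rw [he, map_mul, map_inv, hτX]; group)
  have hgX : (g : G) = (X : G) * (e : G) := by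
    show (g : G) = (X : G) * ((X : G)⁻¹ * (g : G))
    group
  have hCn : L ≤ normalizer ((Y ⊓ centralizer (L : Set G) : Subgroup G) : Set G) := cc_normal
  have h1 : ⁅(X : G), a⁆ ∈ Y ⊓ centralizer (L : Set G) := by
    have e1 : ⁅(X : G), a⁆ = ((X : G) * ⁅(e : G), a⁆ * (X : G)⁻¹)⁻¹ * ⁅(g : G), a⁆ := by
      rw [hgX]
      simp only [commutatorElement_def]
      group
    rw [e1]
    exact Subgroup.mul_mem _ (Subgroup.inv_mem _
      (conj_mem_of_mem_normalizer (hCn X.2) (Pair.comm_A hP heA ha))) hfix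
  have hrs : r + s ≠ 0 := by
    rw [hr, hs, ← add_div]
    apply div_ne_zero _ hγ
    intro h2
    apply htr
    linear_combination h2
  apply Pair.three hP hyrY hysY hybY (h.lo_not_norm yb hγ hyb) ?_ ha h1
  exact h.up_not_norm hw (yr * ys) hrs (by rw [map_mul, hyr, hys, upS_add])

/-- The non-scalar case. -/
theorem main_nonscalar (h : SLConf p Y L τ) (g : ↥L)
    (hns : (τ g : Matrix (Fin 2) (Fin 2) F) 1 0 ≠ 0 ∨ (τ g : Matrix (Fin 2) (Fin 2) F) 0 1 ≠ 0 ∨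
      (τ g : Matrix (Fin 2) (Fin 2) F) 0 0 ≠ (τ g : Matrix (Fin 2) (Fin 2) F) 1 1)
    (htr : (τ g : Matrix (Fin 2) (Fin 2) F) 0 0 + (τ g : Matrix (Fin 2) (Fin 2) F) 1 1 ≠ 2) :
    FixProp p Y L (g : G) := by
  by_cases h1 : (τ g : Matrix (Fin 2) (Fin 2) F) 1 0 = 0
  · by_cases h2 : (τ g : Matrix (Fin 2) (Fin 2) F) 0 1 = 0
    · have h3 : (τ g : Matrix (Fin 2) (Fin 2) F) 0 0 ≠ (τ g : Matrix (Fin 2) (Fin 2) F) 1 1 := by
        rcases hns with h3 | h3 | h3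
        · exact absurd h1 h3
        · exact absurd h2 h3
        · exact h3
      obtain ⟨l, hl⟩ := h.hs (loS 1)
      apply FixProp.of_conj l.2
      have h4 : τ (l * g * l⁻¹) = loS 1 * τ g * (loS 1)⁻¹ := by
        rw [map_mul, map_mul, map_inv, hl]
      obtain ⟨h5, h6, h7⟩ := loS_conj_entries (τ g) h2 h1
      rw [← h4] at h5 h6 h7
      apply h.main_gamma (l * g * l⁻¹)
      · rw [h5]; exact sub_ne_zero.mpr h3
      · rw [h6, h7]; exact htr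
    · obtain ⟨l, hl⟩ := h.hs wS
      apply FixProp.of_conj l.2
      have h4 : τ (l * g * l⁻¹) = wS * τ g * wS⁻¹ := by
        rw [map_mul, map_mul, map_inv, hl]
      obtain ⟨h5, h6, h7⟩ := wS_conj_entries (τ g)
      rw [← h4] at h5 h6 h7
      apply h.main_gamma (l * g * l⁻¹)
      · rw [h5]; exact neg_ne_zero.mpr h2
      · rw [h6, h7, add_comm]; exact htr
  · exact h.main_gamma g h1 htr

/-- The scalar case. -/
theorem main_scalar (h : SLConf p Y L τ) (g : ↥L)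
    (h01 : (τ g : Matrix (Fin 2) (Fin 2) F) 0 1 = 0) (h10 : (τ g : Matrix (Fin 2) (Fin 2) F) 1 0 = 0)
    (htr : (τ g : Matrix (Fin 2) (Fin 2) F) 0 0 + (τ g : Matrix (Fin 2) (Fin 2) F) 1 1 ≠ 2) :
    FixProp p Y L (g : G) := by
  intro a ha hfix
  obtain ⟨w, hw⟩ := h.hs wS
  have hP := h.pair hw
  set A : Subgroup G := pCoreOf p L with hA
  set C : Subgroup G := Y ⊓ centralizer (L : Set G) with hC
  have hCn : L ≤ normalizer (C : Set G) := cc_normal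
  have hAL : A ≤ L := pCoreOf_le L
  have hd := det_eq (τ g)
  rw [h01, h10] at hd
  simp only [mul_zero, sub_zero] at hd
  have h00 : (τ g : Matrix (Fin 2) (Fin 2) F) 0 0 ≠ 0 := left_ne_zero_of_mul_eq_one hd
  have h11 : (τ g : Matrix (Fin 2) (Fin 2) F) 1 1 ≠ 0 := right_ne_zero_of_mul_eq_one hd
  have hn₁ : (g : G) ∈ normalizer (Y : Set G) := h.mem_norm_of_BS g h10
  have hn₂ : (g : G) ∈ normalizer (Y2 Y w : Set G) := h.mem_norm₂ hw g h01
  obtain ⟨b₁, hb₁, b₂, hb₂, rfl⟩ := Pair.decomp hP ha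
  set d₁ : G := ⁅(g : G), b₁⁆ with hd₁
  set d₂ : G := ⁅(g : G), b₂⁆ with hd₂
  have hd₁Y : d₁ ∈ Y := by
    rw [hd₁, commutatorElement_def]
    exact Y.mul_mem (conj_mem_of_mem_normalizer hn₁ hb₁.1) (Y.inv_mem hb₁.1)
  have hd₂Y : d₂ ∈ Y2 Y w := by
    rw [hd₂, commutatorElement_def]
    exact Subgroup.mul_mem _ (conj_mem_of_mem_normalizer hn₂ hb₂.1) (Subgroup.inv_mem _ hb₂.1)
  have hd₂A : d₂ ∈ A := by
    rw [hd₂, commutatorElement_def]
    exact A.mul_mem (mem_A_conj g.2 hb₂.2) (A.inv_mem hb₂.2)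
  have hcc : ⁅b₁, d₂⁆ ∈ C := Pair.comm_A hP hb₁.2 hd₂A
  have hprod : (d₁ * ⁅b₁, d₂⁆) * d₂ ∈ C := by
    have e : (d₁ * ⁅b₁, d₂⁆) * d₂ = ⁅(g : G), b₁ * b₂⁆ := by
      rw [hd₁, hd₂]
      simp only [commutatorElement_def]
      group
    rw [e]
    exact hfix
  obtain ⟨h1, h2⟩ := Pair.uniq hP (Y.mul_mem hd₁Y hcc.1) hd₂Y hprod
  have hd₁C : d₁ ∈ C := by
    have e : d₁ = (d₁ * ⁅b₁, d₂⁆) * (⁅b₁, d₂⁆)⁻¹ := by group
    rw [e]
    exact C.mul_mem h1 (C.inv_mem hcc)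
  -- `b₂`
  have hb₂C : b₂ ∈ C := by
    obtain ⟨yb, hybY, hyb⟩ := h.lo_mem hw (1 : F)
    have hcomm : yb * b₂ = b₂ * yb :=
      (Subgroup.mem_centralizer_iff.mp ((h.hc.conj w.2).hYY hb₂.1)) yb hybY
    have hF : FixProp p Y L ((g * yb : ↥L) : G) := by
      apply h.main_nonscalar (g * yb)
      · left
        rw [map_mul, hyb]
        simp [Matrix.mul_apply, Fin.sum_univ_two, h10, h11]
      · rw [map_mul, hyb]
        simpa [Matrix.mul_apply, Fin.sum_univ_two, h01] using htr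
    apply hF _ hb₂.2
    have e : ⁅((g * yb : ↥L) : G), b₂⁆ = d₂ := by
      rw [hd₂]
      show ⁅(g : G) * (yb : G), b₂⁆ = _
      simp only [commutatorElement_def]
      calc (g : G) * yb * b₂ * ((g : G) * yb)⁻¹ * b₂⁻¹ = g * (yb * b₂) * (yb : G)⁻¹ * (g : G)⁻¹ * b₂⁻¹ := by
            group
        _ = g * (b₂ * yb) * (yb : G)⁻¹ * (g : G)⁻¹ * b₂⁻¹ := by rw [hcomm]
        _ = _ := by group
    rw [e]
    exact h2
  -- `b₁`
  have hb₁C : b₁ ∈ C := by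
    obtain ⟨y, hyY, hy⟩ := h.hYs (1 : F)
    have hcomm : (y : G) * b₁ = b₁ * y :=
      (Subgroup.mem_centralizer_iff.mp (h.hc.hYY hb₁.1)) y hyY
    have hF : FixProp p Y L ((g * y : ↥L) : G) := by
      apply h.main_nonscalar (g * y)
      · right; left
        rw [map_mul, hy]
        simp [Matrix.mul_apply, Fin.sum_univ_two, h00, h01]
      · rw [map_mul, hy]
        simpa [Matrix.mul_apply, Fin.sum_univ_two, h10] using htr
    apply hF _ hb₁.2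
    have e : ⁅((g * y : ↥L) : G), b₁⁆ = d₁ := by
      rw [hd₁]
      show ⁅(g : G) * (y : G), b₁⁆ = _
      simp only [commutatorElement_def]
      calc (g : G) * y * b₁ * ((g : G) * y)⁻¹ * b₁⁻¹ = g * (y * b₁) * (y : G)⁻¹ * (g : G)⁻¹ * b₁⁻¹ := by
            group
        _ = g * (b₁ * y) * (y : G)⁻¹ * (g : G)⁻¹ * b₁⁻¹ := by rw [hcomm]
        _ = _ := by group
    rw [e]
    exact hd₁C
  exact C.mul_mem hb₁C hb₂C

/-- An element of trace `2` has order dividing `p`. -/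
theorem pow_p_of_trace [CharP F p] (M : SL(2, F))
    (htr : (M : Matrix (Fin 2) (Fin 2) F) 0 0 + (M : Matrix (Fin 2) (Fin 2) F) 1 1 = 2) : M ^ p = 1 := by
  have h1 := Cfsg.Agent.Lib.SL2Faithful.Basic.cayley_hamilton (M := (M : Matrix (Fin 2) (Fin 2) F)) M.2
  rw [htr] at h1
  set A : Matrix (Fin 2) (Fin 2) F := (M : Matrix (Fin 2) (Fin 2) F) with hA
  have h2 : (A - 1) * (A - 1) = 0 := by
    have e : (A - 1) * (A - 1) = A * A - (A + A) + 1 := by noncomm_ring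
    rw [e, h1, two_smul]
    abel
  have h3 : ∀ n : ℕ, A ^ n = 1 + (n : F) • (A - 1) := by
    intro n
    induction n with
    | zero => simp
    | succ n ih =>
      rw [pow_succ, ih]
      have e : A = 1 + (A - 1) := by abel
      calc (1 + (n : F) • (A - 1)) * A = (1 + (n : F) • (A - 1)) * (1 + (A - 1)) := by rw [← e]
        _ = 1 + (n : F) • (A - 1) + (A - 1) + (n : F) • ((A - 1) * (A - 1)) := by
            rw [mul_add, add_mul, add_mul, mul_one, mul_one, one_mul, smul_mul_assoc]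
            abel
        _ = 1 + ((n + 1 : ℕ) : F) • (A - 1) := by
            rw [h2, smul_zero, add_zero, Nat.cast_add, Nat.cast_one, add_smul, one_smul]
            abel
  apply Subtype.ext
  rw [Matrix.SpecialLinearGroup.coe_pow, Matrix.SpecialLinearGroup.coe_one, ← hA, h3 p,
    CharP.cast_eq_zero, zero_smul, add_zero]

/-- The final form: in the `SL₂`-configuration, an element which is not a `p`-element has the
fixed point property. -/
theorem final [CharP F p] (h : SLConf p Y L τ) (g : ↥L) (hnp : ¬ ∃ k, orderOf (g : G) = p ^ k) :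
    FixProp p Y L (g : G) := by
  have hp : p.Prime := Fact.out
  by_cases htr : (τ g : Matrix (Fin 2) (Fin 2) F) 0 0 + (τ g : Matrix (Fin 2) (Fin 2) F) 1 1 = 2
  · exfalso
    apply hnp
    have h1 : τ (g ^ p) = 1 := by rw [map_pow]; exact pow_p_of_trace _ htr
    have h2 : ((g ^ p : ↥L) : G) ∈ pCoreOf p L := (h.hker _).mp h1
    obtain ⟨k, hk⟩ := (isPGroup_pCoreOf (p := p) L) ⟨_, h2⟩
    have h3 : (g : G) ^ (p ^ (k + 1)) = 1 := by
      have h4 := congrArg Subtype.val hk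
      simp only [Subgroup.coe_pow, Subgroup.coe_one] at h4
      rw [← h4, pow_succ', pow_mul]
    obtain ⟨j, -, hj⟩ := (Nat.dvd_prime_pow hp).mp (orderOf_dvd_of_pow_eq_one h3)
    exact ⟨j, hj⟩
  · by_cases hsc : (τ g : Matrix (Fin 2) (Fin 2) F) 0 1 = 0 ∧ (τ g : Matrix (Fin 2) (Fin 2) F) 1 0 = 0 ∧
      (τ g : Matrix (Fin 2) (Fin 2) F) 0 0 = (τ g : Matrix (Fin 2) (Fin 2) F) 1 1
    · exact h.main_scalar g hsc.1 hsc.2.1 htr
    · apply h.main_nonscalar g _ htr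
      by_contra hcon
      push Not at hcon
      exact hsc ⟨hcon.2.1, hcon.1, hcon.2.2⟩

end SLConf

end SL2

end Cfsg.Agent.Lib.LocalStruct.FrakLFix2
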