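/-
Fixed points of non-`p`-elements on `O_p(L) / C_Y(L)` for `L ∈ 𝔏_G(Y)`: the reduction for `p = 2` to
involutions inverting elements of odd order, and the dihedral quotients.
-/
import Cfsg.Agent.Lib.LocalStruct.FrakLFix2

set_option autoImplicit false
set_option linter.style.haveILetI false
set_option linter.unusedSectionVars false

namespace Cfsg.Agent.Lib.LocalStruct.FrakLFix3

open Subgroup Cfsg Cfsg.Agent.Lib.LocalStruct.Basic Cfsg.Agent.Lib.LocalStruct.Comm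
  Cfsg.Agent.Lib.LocalStruct.PCoreOf Cfsg.Agent.Lib.LocalStruct.WeakClosed
  Cfsg.Agent.Lib.LocalStruct.AsymL1 Cfsg.Agent.Lib.LocalStruct.FrakLFix1
  Cfsg.Agent.Lib.LocalStruct.FrakLFix1.LConf Cfsg.Agent.Lib.LocalStruct.FrakLFix2
open scoped commutatorElement

universe u v

variable {G : Type u} [Group G] [Finite G] {p : ℕ} [Fact p.Prime]

theorem exists_elt_not_core {Y L : Subgroup G} (hc : LConf p Y L) : ∃ y ∈ Y, y ∉ pCoreOf p L := by
  by_contra hcon
  push Not at hcon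
  have h1 : L ≤ pCoreOf p L := hc.hgen _ (le_normalizer_pCoreOf L) hcon
  exact hc.hlt (h1.trans hc.hAY)

/-- The reduction for `p = 2`. -/
theorem inv_reduction [Fact (Nat.Prime 2)] {Y L : Subgroup G} (hc : LConf 2 Y L) {X : Type v} [Group X]
    (τ : ↥L →* X) (hs : Function.Surjective τ) (hker : ∀ x : ↥L, τ x = 1 ↔ (x : G) ∈ pCoreOf 2 L)
    (hR : ∀ d j : X, Odd (orderOf d) → d ≠ 1 → j ≠ 1 → j * j = 1 →
      ∃ g : X, (g * j * g⁻¹) * d * (g * j * g⁻¹) = d⁻¹)
    (h : ↥L) (hnp : ¬ ∃ k, orderOf (h : G) = 2 ^ k) : FixProp 2 Y L (h : G) := by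
  intro a ha hfix
  have hCn : L ≤ normalizer ((Y ⊓ centralizer (L : Set G) : Subgroup G) : Set G) := cc_normal
  have h2 : Nat.Prime 2 := Nat.prime_two
  -- the odd part
  have hpos : orderOf (h : G) ≠ 0 := (orderOf_pos _).ne'
  obtain ⟨k, m, hm, hk⟩ := Nat.exists_eq_two_pow_mul_odd hpos
  set h' : ↥L := h ^ (2 ^ k) with hh'
  have hord : orderOf (h' : G) = m := by
    have e : (h' : G) = (h : G) ^ (2 ^ k) := rfl
    rw [e, orderOf_pow_of_dvd (by positivity) (Dvd.intro _ hk.symm), hk,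
      Nat.mul_div_cancel_left _ (by positivity)]
  have hm1 : m ≠ 1 := by
    rintro rfl
    exact hnp ⟨k, by rw [hk, mul_one]⟩
  have hh'A : (h' : G) ∉ pCoreOf 2 L := by
    intro hmem
    obtain ⟨n, hn⟩ := (isPGroup_pCoreOf (p := 2) L) ⟨_, hmem⟩
    have h3 : (h' : G) ^ (2 ^ n) = 1 := by
      have := congrArg Subtype.val hn
      simpa using this
    have h4 : m ∣ 2 ^ n := by
      rw [← hord]; exact orderOf_dvd_of_pow_eq_one h3
    obtain ⟨j, -, hj⟩ := (Nat.dvd_prime_pow h2).mp h4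
    rcases j with _ | j
    · exact hm1 (by simpa using hj)
    · rw [hj, pow_succ] at hm
      exact absurd hm (by simp [Nat.not_odd_iff_even])
  have hh'odd : Odd (orderOf (h' : G)) := by rwa [hord]
  set d : X := τ h' with hd
  have hdodd : Odd (orderOf d) := by
    have h3 : orderOf d ∣ orderOf h' := orderOf_map_dvd τ _
    have h4 : orderOf h' = orderOf (h' : G) := (Subgroup.orderOf_coe h').symm
    rw [h4] at h3
    exact Odd.of_dvd_nat hh'odd h3
  have hd1 : d ≠ 1 := fun h3 => hh'A ((hker h').mp h3)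
  -- the involution
  obtain ⟨y₀, hy₀, hy₀A⟩ := exists_elt_not_core hc
  have hy₀L := hc.hYL hy₀
  set i₀ : X := τ ⟨y₀, hy₀L⟩ with hi₀
  have hi₀1 : i₀ ≠ 1 := fun h3 => hy₀A ((hker _).mp h3)
  obtain ⟨n, hn⟩ := hc.hYp ⟨y₀, hy₀⟩
  have hi₀n : i₀ ^ (2 ^ n) = 1 := by
    have h3 : (⟨y₀, hy₀L⟩ : ↥L) ^ (2 ^ n) = 1 := by
      apply Subtype.ext
      have := congrArg Subtype.val hn
      simpa using this
    rw [hi₀, ← map_pow, h3, map_one]
  obtain ⟨j', -, hj'⟩ := (Nat.dvd_prime_pow h2).mp (orderOf_dvd_of_pow_eq_one hi₀n)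
  have hj'0 : j' ≠ 0 := by
    rintro rfl
    exact hi₀1 (orderOf_eq_one_iff.mp (by simpa using hj'))
  obtain ⟨e, rfl⟩ := Nat.exists_eq_succ_of_ne_zero hj'0
  set y : ↥L := ⟨y₀, hy₀L⟩ ^ (2 ^ e) with hy
  have hyY : (y : G) ∈ Y := Y.pow_mem hy₀ _
  set j : X := τ y with hj
  have hj1 : j ≠ 1 := by
    rw [hj, hy, map_pow, ← hi₀]
    apply pow_ne_one_of_lt_orderOf (by positivity)
    rw [hj']
    exact Nat.pow_lt_pow_right (by norm_num) (Nat.lt_succ_self e)
  have hjj : j * j = 1 := by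
    rw [hj, hy, map_pow, ← hi₀, ← pow_add, ← two_mul, ← pow_succ', ← hj', pow_orderOf_eq_one]
  obtain ⟨g, hg⟩ := hR d j hdodd hd1 hj1 hjj
  obtain ⟨gt, hgt⟩ := hs g
  -- the conjugate of `Y`
  have hc₁ : LConf 2 (Y.map (MulAut.conj (gt : G)).toMonoidHom) L := hc.conj gt.2
  have hCeq := cc_conj (Y := Y) gt.2
  set y₁ : ↥L := gt * y * gt⁻¹ with hy₁
  have hy₁τ : τ y₁ = g * j * g⁻¹ := by
    rw [hy₁, map_mul, map_mul, map_inv, hgt]
  have hy₁Y : (y₁ : G) ∈ Y.map (MulAut.conj (gt : G)).toMonoidHom := ⟨y, hyY, rfl⟩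
  have hfix' : ⁅(h' : G), a⁆ ∈ Y ⊓ centralizer (L : Set G) := by
    have h3 : h ∈ (stabMod ({a} : Set G) (Y ⊓ centralizer (L : Set G))).comap L.subtype := by
      refine ⟨hCn h.2, ?_⟩
      rintro _ rfl
      have := Subgroup.inv_mem _ hfix
      rwa [commutatorElement_inv] at this
    have h4 := (Subgroup.pow_mem _ h3 (2 ^ k) : h' ∈ _)
    have h5 := Subgroup.inv_mem _ (h4.2 a rfl)
    rwa [commutatorElement_inv] at h5
  set i : X := g * j * g⁻¹ with hi
  have hii : i * i = 1 := by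
    calc i * i = g * (j * j) * g⁻¹ := by rw [hi]; group
      _ = 1 := by rw [hjj]; group
  have hi' : i⁻¹ = i := inv_eq_of_mul_eq_one_left hii
  have hy2 : (y₁ : G) * (y₁ : G) ∈ pCoreOf 2 L :=
    (hker (y₁ * y₁)).mp (by rw [map_mul, hy₁τ]; exact hii)
  have hinv : (y₁ : G) * (h' : G) * (y₁ : G)⁻¹ * (h' : G) ∈ pCoreOf 2 L :=
    (hker (y₁ * h' * y₁⁻¹ * h')).mp (by
      rw [map_mul, map_mul, map_mul, map_inv, hy₁τ, ← hd, hi', hg]
      group)
  have hres := inv_case hc₁ hy₁Y h'.2 hh'odd hh'A hy2 hinv ha (by rw [hCeq]; exact hfix')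
  rwa [hCeq] at hres

/-- Reflections invert the elements of odd order in a dihedral group of twice an odd prime order. -/
theorem dihedral_hR {r : ℕ} (hr : r.Prime) (hr2 : r ≠ 2) (d j : DihedralGroup r)
    (hd : Odd (orderOf d)) (hd1 : d ≠ 1) (hj : j ≠ 1) (hjj : j * j = 1) :
    ∃ g : DihedralGroup r, (g * j * g⁻¹) * d * (g * j * g⁻¹) = d⁻¹ := by
  haveI : NeZero r := ⟨hr.ne_zero⟩
  haveI : Fact r.Prime := ⟨hr⟩
  refine ⟨1, ?_⟩
  simp only [one_mul, inv_one, mul_one]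
  cases d with
  | sr k =>
    rw [DihedralGroup.orderOf_sr] at hd
    exact absurd hd (by decide)
  | r l =>
    cases j with
    | r l' =>
      exfalso
      apply hj
      rw [DihedralGroup.r_mul_r] at hjj
      have h1 : l' + l' = 0 := by
        have h2 : (DihedralGroup.r (l' + l') : DihedralGroup r) = DihedralGroup.r 0 := hjj
        exact DihedralGroup.r.inj h2
      have h2 : (2 : ZMod r) * l' = 0 := by rw [two_mul]; exact h1
      have h3 : (2 : ZMod r) ≠ 0 := by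
        intro h4
        have h5 : ((2 : ℕ) : ZMod r) = 0 := by exact_mod_cast h4
        rw [ZMod.natCast_eq_zero_iff] at h5
        exact hr2 ((Nat.prime_dvd_prime_iff_eq hr Nat.prime_two).mp h5)
      have h4 : l' = 0 := (mul_eq_zero.mp h2).resolve_left h3
      rw [h4]
      rfl
    | sr k =>
      rw [DihedralGroup.sr_mul_r, DihedralGroup.sr_mul_sr, DihedralGroup.inv_r]
      congr 1
      ring

end Cfsg.Agent.Lib.LocalStruct.FrakLFix3
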