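/-
The unique elementary abelian normal subgroup of `N(Y)`, in `SL₂(F)` and dihedral groups.
-/
import Cfsg.Agent.Lib.LocalStruct.PReducedOf
import Cfsg.Agent.Lib.Classical.SL2Sylow
import Cfsg.Agent.Lib.QuadAct.Stable

set_option autoImplicit false

namespace Cfsg.Agent.Lib.LocalStruct.NormUniq

open Subgroup Cfsg Cfsg.Agent.Lib.Core.Basic
  Cfsg.Agent.Lib.LocalStruct.Basic Cfsg.Agent.Lib.LocalStruct.Comm
open Cfsg.Agent.Lib.Classical.SL2Sylow
open scoped commutatorElement MatrixGroups Pointwise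

universe u v

/-- `Y` is the unique nontrivial elementary abelian normal subgroup of `N(Y)`. -/
def NormUnique (p : ℕ) {X : Type u} [Group X] (Y : Subgroup X) : Prop :=
  ∀ V : Subgroup X, V ≤ normalizer (Y : Set X) → normalizer (Y : Set X) ≤ normalizer (V : Set X) →
    IsElementaryAbelian p V → V ≠ ⊥ → V = Y

theorem isElementaryAbelian_map_hom {p : ℕ} {X : Type u} {X' : Type v} [Group X] [Group X']
    (f : X →* X') {V : Subgroup X} (h : IsElementaryAbelian p V) :
    IsElementaryAbelian p (V.map f) := by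
  refine ⟨⟨⟨?_⟩⟩, ?_⟩
  · rintro ⟨_, a, ha, rfl⟩ ⟨_, b, hb, rfl⟩
    apply Subtype.ext
    have := h.1.is_comm.comm ⟨a, ha⟩ ⟨b, hb⟩
    show f a * f b = f b * f a
    rw [← map_mul, ← map_mul]
    exact congrArg f (congrArg Subtype.val this)
  · rintro _ ⟨a, ha, rfl⟩
    rw [← map_pow, h.2 a ha, map_one]

/-- transport along an isomorphism. -/
theorem NormUnique.of_equiv {p : ℕ} {X : Type u} {X' : Type v} [Group X] [Group X']
    (e : X ≃* X') {Y : Subgroup X}
    (h : NormUnique p (Y.map e.toMonoidHom)) : NormUnique p Y := by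
  intro V hV hN hel hne
  have hinj : Function.Injective e.toMonoidHom := e.injective
  apply Subgroup.map_injective hinj
  apply h
  · rw [← Subgroup.map_equiv_normalizer_eq]
    exact Subgroup.map_mono hV
  · rw [← Subgroup.map_equiv_normalizer_eq, ← Subgroup.map_equiv_normalizer_eq]
    exact Subgroup.map_mono hN
  · exact isElementaryAbelian_map_hom _ hel
  · intro hb
    exact hne ((Subgroup.map_eq_bot_iff_of_injective _ hinj).mp hb)

theorem NormUnique.conj {p : ℕ} {X : Type u} [Group X] {Y : Subgroup X} (g : X)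
    (h : NormUnique p Y) : NormUnique p (Y.map (MulAut.conj g).toMonoidHom) := by
  apply NormUnique.of_equiv (MulAut.conj g⁻¹)
  rw [map_conj_inv_map_conj]
  exact h

/-! ### `SL₂(F)` -/

section SL2

variable {F : Type*} [Field F] [Fintype F] {p : ℕ} [Fact p.Prime]

omit [Fact p.Prime] in
/-- every element is a difference of two squares. -/
theorem exists_sq_sub_sq (c : F) : ∃ x y : F, c = x ^ 2 - y ^ 2 := by
  by_cases h2 : (2 : F) = 0
  · have hch : ringChar F = 2 :=
      CharP.ringChar_of_prime_eq_zero Nat.prime_two (by exact_mod_cast h2)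
    obtain ⟨x, hx⟩ := FiniteField.isSquare_of_char_two hch c
    exact ⟨x, 0, by rw [hx]; ring⟩
  · refine ⟨(c + 1) / 2, (c - 1) / 2, ?_⟩
    field_simp
    ring

/-- the torus element -/
def dg (t : F) (ht : t ≠ 0) : SL(2, F) :=
  ⟨!![t, 0; 0, t⁻¹], by simp [Matrix.det_fin_two, ht]⟩

omit [Fintype F] in
theorem dg_mem (t : F) (ht : t ≠ 0) : dg t ht ∈ BS F := by
  rw [mem_BS_iff]; simp [dg]

omit [Fintype F] in
theorem dg_conj (t : F) (ht : t ≠ 0) (a : F) : dg t ht * upS a * (dg t ht)⁻¹ = upS (t ^ 2 * a) := by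
  rw [conj_upS_of_entry (dg_mem t ht)]
  congr 1
  simp [dg]
  field_simp

omit [Fintype F] in
theorem upS_inv (a : F) : (upS a)⁻¹ = upS (-a) := by
  apply inv_eq_of_mul_eq_one_right
  rw [← upS_add, add_neg_cancel, upS_zero]

theorem normUnique_US [CharP F p] : NormUnique p (US F) := by
  intro V hV hN hel hne
  have hVp : IsPGroup p V := Cfsg.Agent.Lib.PReduced.Basic.isPGroup_of_elementary hel
  have hUp : IsPGroup p (US F) := (sylowUS (F := F) p).isPGroup'
  have hUV : US F ≤ normalizer (V : Set (SL(2, F))) := Subgroup.le_normalizer.trans hN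
  have hVU : V ≤ US F := by
    have h1 : IsPGroup p ↥(V ⊔ US F) := IsPGroup.to_sup_of_normal_left' hVp hUp hUV
    have h2 := (sylowUS (F := F) p).is_maximal' h1 le_sup_right
    rw [coe_sylowUS] at h2
    rw [← h2]; exact le_sup_left
  obtain ⟨x, hx, hx1⟩ := (Subgroup.ne_bot_iff_exists_ne_one ..).mp hne |> fun ⟨x, hx⟩ =>
    (⟨x.1, x.2, fun h => hx (Subtype.ext h)⟩ : ∃ x ∈ V, x ≠ 1)
  obtain ⟨s, rfl⟩ := mem_US_iff.mp (hVU hx)
  have hs : s ≠ 0 := by
    rintro rfl
    exact hx1 upS_zero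
  have hsq : ∀ t : F, upS (t ^ 2 * s) ∈ V := by
    intro t
    by_cases ht : t = 0
    · subst ht
      simp [upS_zero, V.one_mem]
    · rw [← dg_conj t ht]
      exact conj_mem_of_mem_normalizer
        (hN (BS_le_normalizer (dg_mem t ht))) hx
  have hall : ∀ a : F, upS a ∈ V := by
    intro a
    obtain ⟨x', y', h⟩ := exists_sq_sub_sq (a / s)
    have e : a = x' ^ 2 * s + -(y' ^ 2 * s) := by
      have : a = (a / s) * s := by field_simp
      rw [this, h]; ring
    rw [e, upS_add, ← upS_inv]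
    exact V.mul_mem (hsq x') (V.inv_mem (hsq y'))
  apply le_antisymm hVU
  intro g hg
  obtain ⟨t, rfl⟩ := mem_US_iff.mp hg
  exact hall t

/-- a `p`-subgroup of `SL₂(F)` of order `|F|` -/
theorem normUnique_SL2 (Y : Subgroup (SL(2, F))) (hYp : IsPGroup p Y)
    (hcard : Nat.card Y = Fintype.card F) : NormUnique p Y := by
  have hp : p.Prime := Fact.out
  obtain ⟨k, hk⟩ := IsPGroup.iff_card.mp hYp
  obtain ⟨l, hl⟩ := CharP.exists F
  haveI := hl
  haveI hlp : Fact l.Prime := ⟨CharP.char_is_prime F l⟩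
  obtain ⟨n, -, hn⟩ := FiniteField.card F l
  have hlk : l ^ (n : ℕ) = p ^ k := by rw [← hn, ← hcard, hk]
  have hldvd : l ∣ p ^ k := by
    rw [← hlk]; exact dvd_pow_self l n.ne_zero
  have hle : l = p := (Nat.prime_dvd_prime_iff_eq hlp.out hp).mp (hlp.out.dvd_of_dvd_pow hldvd)
  subst hle
  obtain ⟨P, hP⟩ := hYp.exists_le_sylow
  obtain ⟨h, rfl⟩ := exists_conj_US l P
  have hcP : Nat.card ↥((h • sylowUS (F := F) l : Sylow l (SL(2, F))) : Subgroup (SL(2, F))) =
      Nat.card Y := by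
    rw [Sylow.card_eq_multiplicity, ← Sylow.card_eq_multiplicity (sylowUS l), coe_sylowUS, card_US,
      hcard, Nat.card_eq_fintype_card]
  have hEq : Y = ((h • sylowUS (F := F) l : Sylow l (SL(2, F))) : Subgroup (SL(2, F))) :=
    Subgroup.eq_of_le_of_card_ge hP hcP.le
  rw [hEq]
  have e : ((h • sylowUS (F := F) l : Sylow l (SL(2, F))) : Subgroup (SL(2, F))) =
      (US F).map (MulAut.conj h).toMonoidHom := by
    ext x
    show x ∈ h • sylowUS (F := F) l ↔ _
    rw [Cfsg.Agent.Lib.Classical.SL2Sylow.mem_smul_sylowUS_iff, mem_conj_iff, mem_US_iff]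
    constructor
    · rintro ⟨t, rfl⟩
      exact ⟨t, by group⟩
    · rintro ⟨t, ht⟩
      exact ⟨t, by rw [ht]; group⟩
  rw [e]
  exact (normUnique_US).conj h

end SL2

/-! ### Groups with Sylow `2`-subgroups of order two -/

section Dih

/-- If the order of `X` is `2 r` with `r` odd, every nontrivial `2`-subgroup is `N`-unique. -/
theorem normUnique_of_card {X : Type u} [Group X] [Finite X] {r : ℕ} (hr : Odd r)
    (hX : Nat.card X = 2 * r) [Fact (Nat.Prime 2)] {Y : Subgroup X} (hYp : IsPGroup 2 Y) (hY1 : Y ≠ ⊥) :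
    NormUnique 2 Y := by
  intro V hV hN hel hne
  have hVp : IsPGroup 2 V := Cfsg.Agent.Lib.PReduced.Basic.isPGroup_of_elementary hel
  have hP : IsPGroup 2 ↥(V ⊔ Y) := IsPGroup.to_sup_of_normal_right' hVp hYp hV
  have h2 : Nat.card ↥(V ⊔ Y) ∣ 2 := by
    obtain ⟨k, hk⟩ := IsPGroup.iff_card.mp hP
    have h3 : Nat.card ↥(V ⊔ Y) ∣ 2 * r := by
      rw [← hX]; exact Subgroup.card_subgroup_dvd_card _
    have h4 : Nat.Coprime (Nat.card ↥(V ⊔ Y)) r := by
      rw [hk]
      exact Nat.Coprime.pow_left _ ((Nat.coprime_two_left).mpr hr)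
    exact h4.dvd_of_dvd_mul_right h3
  have h3 : ∀ Z : Subgroup X, Z ≤ V ⊔ Y → Z ≠ ⊥ → Z = V ⊔ Y := by
    intro Z hZ hZ1
    apply Subgroup.eq_of_le_of_card_ge hZ
    have h4 : 1 < Nat.card Z := by
      rw [Finite.one_lt_card_iff_nontrivial, Subgroup.nontrivial_iff_ne_bot]
      exact hZ1
    have h5 := Nat.le_of_dvd (by norm_num) h2
    omega
  rw [h3 V le_sup_left hne, ← h3 Y le_sup_right hY1]

end Dih

end Cfsg.Agent.Lib.LocalStruct.NormUniq
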