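/-
The group `Sz(2)`: no two distinct commuting involutions.
-/
import Cfsg.Agent.Lib.LocalStruct.NormUniq
import Cfsg.Agent.Lib.PrimeGraph.Suzuki

set_option autoImplicit false

namespace Cfsg.Agent.Lib.LocalStruct.NormUniqSz2

open Subgroup Cfsg Cfsg.Lie Cfsg.Agent.Lib.LocalStruct.NormUniq

theorem conj_mem_of_mem_normalizer' {X : Type*} [Group X] {A : Subgroup X} {g x : X}
    (hg : g ∈ normalizer (A : Set X)) (hx : x ∈ A) : g * x * g⁻¹ ∈ A :=
  (Subgroup.mem_normalizer_iff.mp hg x).mp hx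

/-! ### A Boolean search -/

/-- quantifier over `Bool`. -/
def allB (f : Bool → Bool) : Bool := f false && f true

theorem allB_iff (f : Bool → Bool) : allB f = true ↔ ∀ b, f b = true := by
  constructor
  · intro h b
    simp only [allB, Bool.and_eq_true] at h
    cases b
    · exact h.1
    · exact h.2
  · intro h
    simp [allB, h]

/-- quantifier over `Fin 4`. -/
def allF (f : Fin 4 → Bool) : Bool := f 0 && f 1 && f 2 && f 3

/-- Boolean `4 × 4` matrices. -/
abbrev BM := Fin 4 → Fin 4 → Bool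

/-- product of Boolean matrices over the field with two elements -/
def mulE (g h : BM) (i j : Fin 4) : Bool :=
  xor (g i 0 && h 0 j) (xor (g i 1 && h 1 j) (xor (g i 2 && h 2 j) (g i 3 && h 3 j)))

/-- equality test -/
def eqE (g h : BM) : Bool := allF fun i => allF fun j => g i j == h i j

/-- the identity -/
def oneE : BM := ![![true, false, false, false], ![false, true, false, false],
  ![false, false, true, false], ![false, false, false, true]]

/-- the five involutions -/
def invE : List BM := [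
  ![![false, false, false, true], ![false, false, true, false], ![false, true, false, false], ![true, false, false, false]],
  ![![true, false, false, false], ![false, true, false, false], ![true, false, true, false], ![true, true, false, true]],
  ![![true, false, true, true], ![false, true, false, true], ![false, false, true, false], ![false, false, false, true]],
  ![![true, true, false, true], ![true, false, true, false], ![true, false, false, true], ![true, true, true, true]],
  ![![true, true, true, true], ![true, false, false, true], ![false, true, false, true], ![true, false, true, true]]]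

/-- commuting test -/
def commE (g h : BM) : Bool := allF fun i => allF fun j => mulE g h i j == mulE h g i j

theorem invE_comm : (invE.all fun x => invE.all fun y => !(commE x y) || eqE x y) = true := by
  decide +kernel

/-- star equation -/
def steq (x a b c d : Bool) : Bool := x == xor (a && b) (c && d)

/-- the matrix with given entries -/
def mkE (a0 a1 a2 a3 b0 b1 b2 b3 c0 c1 c2 c3 d0 d1 d2 d3 : Bool) : BM :=
  ![![a0, a1, a2, a3], ![b0, b1, b2, b3], ![c0, c1, c2, c3], ![d0, d1, d2, d3]]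

/-- the search. -/
def chk : Bool :=
  allB fun a0 => allB fun a1 => allB fun a2 => allB fun a3 =>
  allB fun b0 => allB fun b1 => allB fun b2 => allB fun b3 =>
  !(steq a0 a0 b1 b0 a1 && steq a1 a0 b2 b0 a2 && steq a2 a1 b3 b1 a3 && steq a3 a2 b3 b2 a3) ||
  allB fun c0 => allB fun c1 => allB fun c2 => allB fun c3 =>
  !(steq b0 a0 c1 c0 a1 && steq b1 a0 c2 c0 a2 && steq b2 a1 c3 c1 a3 && steq b3 a2 c3 c2 a3) ||
  allB fun d0 => allB fun d1 => allB fun d2 => allB fun d3 =>
  !(steq c0 b0 d1 d0 b1 && steq c1 b0 d2 d0 b2 && steq c2 b1 d3 d1 b3 && steq c3 b2 d3 d2 b3 &&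
    steq d0 c0 d1 d0 c1 && steq d1 c0 d2 d0 c2 && steq d2 c1 d3 d1 c3 && steq d3 c2 d3 d2 c3) ||
  !(eqE (mulE (mkE a0 a1 a2 a3 b0 b1 b2 b3 c0 c1 c2 c3 d0 d1 d2 d3)
      (mkE a0 a1 a2 a3 b0 b1 b2 b3 c0 c1 c2 c3 d0 d1 d2 d3)) oneE) ||
  eqE (mkE a0 a1 a2 a3 b0 b1 b2 b3 c0 c1 c2 c3 d0 d1 d2 d3) oneE ||
  invE.any (eqE (mkE a0 a1 a2 a3 b0 b1 b2 b3 c0 c1 c2 c3 d0 d1 d2 d3))

theorem chk_true : chk = true := by decide +kernel

theorem eqE_eq {g h : BM} (H : eqE g h = true) : g = h := by
  funext i j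
  simp only [eqE, allF, Bool.and_eq_true, beq_iff_eq] at H
  obtain ⟨⟨⟨h0, h1⟩, h2⟩, h3⟩ := H
  fin_cases i
  · obtain ⟨⟨⟨h00, h01⟩, h02⟩, h03⟩ := h0
    fin_cases j <;> assumption
  · obtain ⟨⟨⟨h00, h01⟩, h02⟩, h03⟩ := h1
    fin_cases j <;> assumption
  · obtain ⟨⟨⟨h00, h01⟩, h02⟩, h03⟩ := h2
    fin_cases j <;> assumption
  · obtain ⟨⟨⟨h00, h01⟩, h02⟩, h03⟩ := h3
    fin_cases j <;> assumption

theorem eqE_of_eq {g h : BM} (H : g = h) : eqE g h = true := by
  subst H
  simp [eqE, allF]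

theorem chk_elim (a0 a1 a2 a3 b0 b1 b2 b3 c0 c1 c2 c3 d0 d1 d2 d3 : Bool)
    (h1 : (steq a0 a0 b1 b0 a1 && steq a1 a0 b2 b0 a2 && steq a2 a1 b3 b1 a3 && steq a3 a2 b3 b2 a3) = true)
    (h2 : (steq b0 a0 c1 c0 a1 && steq b1 a0 c2 c0 a2 && steq b2 a1 c3 c1 a3 && steq b3 a2 c3 c2 a3) = true)
    (h3 : (steq c0 b0 d1 d0 b1 && steq c1 b0 d2 d0 b2 && steq c2 b1 d3 d1 b3 && steq c3 b2 d3 d2 b3 &&
      steq d0 c0 d1 d0 c1 && steq d1 c0 d2 d0 c2 && steq d2 c1 d3 d1 c3 && steq d3 c2 d3 d2 c3) = true)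
    (h4 : mulE (mkE a0 a1 a2 a3 b0 b1 b2 b3 c0 c1 c2 c3 d0 d1 d2 d3)
      (mkE a0 a1 a2 a3 b0 b1 b2 b3 c0 c1 c2 c3 d0 d1 d2 d3) = oneE) :
    mkE a0 a1 a2 a3 b0 b1 b2 b3 c0 c1 c2 c3 d0 d1 d2 d3 = oneE ∨
      ∃ x ∈ invE, mkE a0 a1 a2 a3 b0 b1 b2 b3 c0 c1 c2 c3 d0 d1 d2 d3 = x := by
  have h := chk_true
  simp only [chk, allB_iff, Bool.or_eq_true] at h
  rcases h a0 a1 a2 a3 b0 b1 b2 b3 with h | h
  · simp [h1] at h
  rcases h c0 c1 c2 c3 with h | h
  · simp [h2] at h
  rcases h d0 d1 d2 d3 with (((h | h) | h) | h)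
  · simp [h3] at h
  · simp [eqE_of_eq h4] at h
  · exact Or.inl (eqE_eq h)
  · rw [List.any_eq_true] at h
    obtain ⟨x, hx, hx2⟩ := h
    exact Or.inr ⟨x, hx, eqE_eq hx2⟩

/-! ### The field with two elements -/

section Field

variable {F : Type*} [Field F] [Fintype F]

/-- the bijection of the field with two elements with `Bool`. -/
noncomputable def be (x : F) : Bool := @decide (x ≠ 0) (_root_.Classical.propDecidable _)

theorem F01 (hF : Fintype.card F = 2) (x : F) : x = 0 ∨ x = 1 := by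
  classical
  by_contra hc
  push Not at hc
  have h1 : ({0, 1, x} : Finset F).card = 3 := by
    rw [Finset.card_eq_three]
    exact ⟨0, 1, x, zero_ne_one, hc.1.symm, hc.2.symm, rfl⟩
  have h2 := Finset.card_le_univ ({0, 1, x} : Finset F)
  omega

theorem F_two (hF : Fintype.card F = 2) : (1 : F) + 1 = 0 := by
  rcases F01 hF ((1 : F) + 1) with h | h
  · exact h
  · exfalso
    have h2 : (1 : F) + 1 = 1 + 0 := by rw [h, add_zero]
    exact one_ne_zero (add_left_cancel h2)

theorem be_zero : be (0 : F) = false := by simp [be]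

theorem be_one : be (1 : F) = true := by simp [be]

theorem be_add (hF : Fintype.card F = 2) (x y : F) : be (x + y) = xor (be x) (be y) := by
  rcases F01 hF x with rfl | rfl <;> rcases F01 hF y with rfl | rfl <;>
    simp [be_zero, be_one, F_two hF]

theorem be_mul (hF : Fintype.card F = 2) (x y : F) : be (x * y) = (be x && be y) := by
  rcases F01 hF x with rfl | rfl <;> rcases F01 hF y with rfl | rfl <;>
    simp [be_zero, be_one]

theorem be_neg (hF : Fintype.card F = 2) (x : F) : be (-x) = be x := by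
  rcases F01 hF x with rfl | rfl
  · simp
  · have : -(1 : F) = 1 := by
      rw [neg_eq_iff_add_eq_zero]; exact F_two hF
    rw [this]

theorem be_inj (hF : Fintype.card F = 2) {x y : F} (h : be x = be y) : x = y := by
  rcases F01 hF x with rfl | rfl <;> rcases F01 hF y with rfl | rfl <;>
    simp_all [be_zero, be_one]

/-- the pattern of a matrix. -/
noncomputable def pat (G : Matrix (Fin 4) (Fin 4) F) : BM := fun i j => be (G i j)

theorem pat_mul (hF : Fintype.card F = 2) (G H : Matrix (Fin 4) (Fin 4) F) :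
    pat (G * H) = mulE (pat G) (pat H) := by
  funext i j
  simp only [pat, mulE, Matrix.mul_apply, Fin.sum_univ_four, be_add hF, be_mul hF, Bool.xor_assoc]

theorem pat_one : pat (1 : Matrix (Fin 4) (Fin 4) F) = oneE := by
  funext i j
  fin_cases i <;> fin_cases j <;> simp [pat, be_zero, be_one, oneE, Matrix.one_apply]

theorem pat_inj (hF : Fintype.card F = 2) {G H : Matrix (Fin 4) (Fin 4) F} (h : pat G = pat H) :
    G = H := by
  ext i j
  exact be_inj hF (congrFun (congrFun h i) j)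

theorem steq_of (hF : Fintype.card F = 2) {x a b c d : F} (h : a * b - c * d = x) :
    steq (be x) (be a) (be b) (be c) (be d) = true := by
  rw [← h, sub_eq_add_neg, be_add hF, be_neg hF, be_mul hF, be_mul hF]
  simp [steq]

theorem pat_eq (G : Matrix (Fin 4) (Fin 4) F) :
    pat G = mkE (be (G 0 0)) (be (G 0 1)) (be (G 0 2)) (be (G 0 3))
      (be (G 1 0)) (be (G 1 1)) (be (G 1 2)) (be (G 1 3))
      (be (G 2 0)) (be (G 2 1)) (be (G 2 2)) (be (G 2 3))
      (be (G 3 0)) (be (G 3 1)) (be (G 3 2)) (be (G 3 3)) := by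
  funext i j
  fin_cases i <;> fin_cases j <;> rfl

/-- the involutions of `Sz(2)` -/
theorem involution_cases (hF : Fintype.card F = 2) {G : Matrix (Fin 4) (Fin 4) F}
    (hst : star4 G = G) (hsq : G * G = 1) : pat G = oneE ∨ ∃ x ∈ invE, pat G = x := by
  have e : ∀ p r : Fin 4, star4 G p r = G p r := fun p r => congrFun (congrFun hst p) r
  have hs : ∀ p r : Fin 4, steq (be (G p r)) (be (G (pairOf p).1 (pairOf r).1))
      (be (G (pairOf p).2 (pairOf r).2)) (be (G (pairOf p).2 (pairOf r).1))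
      (be (G (pairOf p).1 (pairOf r).2)) = true := fun p r => steq_of hF (e p r)
  have hsq2 : mulE (pat G) (pat G) = oneE := by
    rw [← pat_mul hF, hsq, pat_one]
  rw [pat_eq] at hsq2 ⊢
  have hS : ∀ p r : Fin 4, _ := hs
  apply chk_elim _ _ _ _ _ _ _ _ _ _ _ _ _ _ _ _ _ _ _ hsq2
  · simp only [Bool.and_eq_true]
    exact ⟨⟨⟨hs 0 0, hs 0 1⟩, hs 0 2⟩, hs 0 3⟩
  · simp only [Bool.and_eq_true]
    exact ⟨⟨⟨hs 1 0, hs 1 1⟩, hs 1 2⟩, hs 1 3⟩
  · simp only [Bool.and_eq_true]
    exact ⟨⟨⟨⟨⟨⟨⟨hs 2 0, hs 2 1⟩, hs 2 2⟩, hs 2 3⟩, hs 3 0⟩, hs 3 1⟩, hs 3 2⟩, hs 3 3⟩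

/-- two commuting involutions of `Sz(2)` coincide. -/
theorem eq_of_commute (hF : Fintype.card F = 2) {G H : Matrix (Fin 4) (Fin 4) F}
    (hG : star4 G = G) (hH : star4 H = H) (hG2 : G * G = 1) (hH2 : H * H = 1)
    (hGH : G * H = H * G) : G = 1 ∨ H = 1 ∨ G = H := by
  rcases involution_cases hF hG hG2 with h1 | ⟨x, hx, h1⟩
  · left
    exact pat_inj hF (h1.trans pat_one.symm)
  rcases involution_cases hF hH hH2 with h2 | ⟨y, hy, h2⟩
  · right; left
    exact pat_inj hF (h2.trans pat_one.symm)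
  right; right
  apply pat_inj hF
  rw [h1, h2]
  have h3 := invE_comm
  rw [List.all_eq_true] at h3
  have h4 := h3 x hx
  rw [List.all_eq_true] at h4
  have h5 := h4 y hy
  simp only [Bool.or_eq_true, Bool.not_eq_true'] at h5
  rcases h5 with h5 | h5
  · exfalso
    have h7 : mulE x y = mulE y x := by
      rw [← h1, ← h2, ← pat_mul hF, ← pat_mul hF, hGH]
    have h6 : commE x y = true := by
      simp [commE, h7, allF]
    rw [h6] at h5
    exact Bool.noConfusion h5
  · exact eqE_eq h5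

end Field

/-- `Sz(2)` has no two distinct commuting involutions -/
theorem noKlein {F : Type*} [Field F] [Fintype F] (hF : Fintype.card F = 2) {e : ℕ}
    (he : ∀ x : F, x ^ e = x) {a b : GL (Fin 4) F} (ha : a ∈ Lie.Sz F e) (hb : b ∈ Lie.Sz F e)
    (ha2 : a * a = 1) (hb2 : b * b = 1) (hab : a * b = b * a) : a = 1 ∨ b = 1 ∨ a = b := by
  have h2 : (2 : F) = 0 := by
    rw [← one_add_one_eq_two]; exact F_two hF
  have hf : ∀ x : F, (RingHom.id F) x = x ^ e := fun x => (he x).symm
  have hst : ∀ {g : GL (Fin 4) F}, g ∈ Lie.Sz F e →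
      star4 (g : Matrix (Fin 4) (Fin 4) F) = (g : Matrix (Fin 4) (Fin 4) F) := by
    intro g hg
    have h1 := (Cfsg.Agent.Lib.PrimeGraph.Suzuki.mem_good h2 e (RingHom.id F) hf hg).2
    rw [h1]
    ext i j
    simp [he]
  have hval : ∀ {x y : GL (Fin 4) F}, x * y = 1 →
      (x : Matrix (Fin 4) (Fin 4) F) * (y : Matrix (Fin 4) (Fin 4) F) = 1 := by
    intro x y h
    have := congrArg (fun g : GL (Fin 4) F => (g : Matrix (Fin 4) (Fin 4) F)) h
    simpa using this
  have h3 : (a : Matrix (Fin 4) (Fin 4) F) * (b : Matrix (Fin 4) (Fin 4) F) =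
      (b : Matrix (Fin 4) (Fin 4) F) * (a : Matrix (Fin 4) (Fin 4) F) := by
    have := congrArg (fun g : GL (Fin 4) F => (g : Matrix (Fin 4) (Fin 4) F)) hab
    simpa using this
  rcases eq_of_commute hF (hst ha) (hst hb) (hval ha2) (hval hb2) h3 with h | h | h
  · left; exact Units.ext h
  · right; left; exact Units.ext h
  · right; right; exact Units.ext h

/-- a group without two distinct commuting involutions -/
theorem normUnique_of_noKlein {X : Type*} [Group X]
    (hK : ∀ a b : X, a * a = 1 → b * b = 1 → a * b = b * a → a = 1 ∨ b = 1 ∨ a = b)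
    {Y : Subgroup X} (hY : IsElementaryAbelian 2 Y) (hY1 : Y ≠ ⊥) : NormUnique 2 Y := by
  intro V hV _ hel hne
  obtain ⟨⟨y, hy⟩, hy1⟩ := (Subgroup.ne_bot_iff_exists_ne_one ..).mp hY1
  obtain ⟨⟨v, hv⟩, hv1⟩ := (Subgroup.ne_bot_iff_exists_ne_one ..).mp hne
  have hy1' : y ≠ 1 := fun h => hy1 (Subtype.ext h)
  have hv1' : v ≠ 1 := fun h => hv1 (Subtype.ext h)
  have hsq : ∀ {Z : Subgroup X}, IsElementaryAbelian 2 Z → ∀ z ∈ Z, z * z = 1 := by
    intro Z hZ z hz
    rw [← pow_two]; exact hZ.2 z hz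
  have hcomm : ∀ {Z : Subgroup X}, IsElementaryAbelian 2 Z → ∀ z ∈ Z, ∀ w ∈ Z, z * w = w * z := by
    intro Z hZ z hz w hw
    exact congrArg Subtype.val (hZ.1.is_comm.comm ⟨z, hz⟩ ⟨w, hw⟩)
  have hYmem : ∀ a ∈ Y, a = 1 ∨ a = y := by
    intro a ha
    rcases hK a y (hsq hY a ha) (hsq hY y hy) (hcomm hY a ha y hy) with h | h | h
    · exact Or.inl h
    · exact absurd h hy1'
    · exact Or.inr h
  have hVmem : ∀ a ∈ V, a = 1 ∨ a = v := by
    intro a ha
    rcases hK a v (hsq hel a ha) (hsq hel v hv) (hcomm hel a ha v hv) with h | h | h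
    · exact Or.inl h
    · exact absurd h hv1'
    · exact Or.inr h
  have hvy : v * y = y * v := by
    have h1 : v * y * v⁻¹ ∈ Y := conj_mem_of_mem_normalizer' (hV hv) hy
    rcases hYmem _ h1 with h | h
    · exfalso
      apply hy1'
      have : y = v⁻¹ * (v * y * v⁻¹) * v := by group
      rw [this, h]; simp
    · rw [mul_inv_eq_iff_eq_mul] at h
      exact h
  have hvyeq : v = y := by
    rcases hK v y (hsq hel v hv) (hsq hY y hy) hvy with h | h | h
    · exact absurd h hv1'
    · exact absurd h hy1'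
    · exact h
  subst hvyeq
  ext a
  constructor
  · intro ha
    rcases hVmem a ha with rfl | rfl
    · exact Y.one_mem
    · exact hy
  · intro ha
    rcases hYmem a ha with rfl | rfl
    · exact V.one_mem
    · exact hv

end Cfsg.Agent.Lib.LocalStruct.NormUniqSz2
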