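/-
The group `Sz(2)`: involutions invert the elements of order `5`.
-/
import Cfsg.Agent.Lib.LocalStruct.NormUniqSz2

set_option autoImplicit false

namespace Cfsg.Agent.Lib.LocalStruct.FrakLFix3S2

open Subgroup Cfsg Cfsg.Lie Cfsg.Agent.Lib.LocalStruct.NormUniqSz2

/-- the solutions of the star equations over the field with two elements -/
def solE : List BM := [
  ![![false, false, false, false], ![false, false, false, false], ![false, false, false, false], ![false, false, false, false]],
  ![![false, false, false, true], ![false, false, true, false], ![false, true, false, false], ![true, false, false, false]],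
  ![![false, false, false, true], ![false, false, true, false], ![false, true, false, true], ![true, false, true, true]],
  ![![false, false, false, true], ![false, false, true, true], ![false, true, true, false], ![true, true, false, false]],
  ![![false, false, false, true], ![false, false, true, true], ![false, true, true, false], ![true, true, true, true]],
  ![![false, false, false, true], ![false, false, true, true], ![false, true, true, true], ![true, true, false, true]],
  ![![false, false, true, true], ![false, true, false, true], ![true, false, false, true], ![true, true, true, true]],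
  ![![false, false, true, true], ![false, true, false, true], ![true, false, true, false], ![true, true, false, false]],
  ![![false, false, true, true], ![false, true, true, false], ![true, true, false, false], ![true, false, false, false]],
  ![![true, false, false, false], ![false, true, false, false], ![false, false, true, false], ![false, false, false, true]],
  ![![true, false, false, false], ![false, true, false, false], ![true, false, true, false], ![true, true, false, true]],
  ![![true, false, false, false], ![true, true, false, false], ![false, true, true, false], ![false, false, true, true]],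
  ![![true, false, false, false], ![true, true, false, false], ![false, true, true, false], ![true, true, true, true]],
  ![![true, false, false, false], ![true, true, false, false], ![true, true, true, false], ![true, false, true, true]],
  ![![true, false, true, true], ![false, true, false, true], ![false, false, true, false], ![false, false, false, true]],
  ![![true, false, true, true], ![false, true, false, true], ![true, false, false, true], ![true, true, true, true]],
  ![![true, false, true, true], ![true, true, true, false], ![false, true, true, true], ![true, true, false, true]],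
  ![![true, false, true, true], ![true, true, true, false], ![true, true, false, false], ![true, false, false, false]],
  ![![true, true, false, false], ![false, true, true, false], ![false, false, true, true], ![false, false, false, true]],
  ![![true, true, false, false], ![true, false, true, false], ![false, true, false, true], ![false, false, true, true]],
  ![![true, true, false, false], ![true, false, true, false], ![true, false, false, true], ![true, true, true, true]],
  ![![true, true, false, true], ![false, true, true, true], ![false, false, true, true], ![false, false, false, true]],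
  ![![true, true, false, true], ![false, true, true, true], ![true, true, true, false], ![true, false, true, true]],
  ![![true, true, false, true], ![true, false, true, false], ![false, true, false, false], ![true, false, false, false]],
  ![![true, true, false, true], ![true, false, true, false], ![true, false, false, true], ![true, true, true, true]],
  ![![true, true, true, true], ![false, true, true, false], ![false, false, true, true], ![false, false, false, true]],
  ![![true, true, true, true], ![false, true, true, false], ![true, true, false, false], ![true, false, false, false]],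
  ![![true, true, true, true], ![true, false, false, true], ![false, true, false, true], ![false, false, true, true]],
  ![![true, true, true, true], ![true, false, false, true], ![false, true, false, true], ![true, false, true, true]],
  ![![true, true, true, true], ![true, false, false, true], ![true, false, true, false], ![true, true, false, false]],
  ![![true, true, true, true], ![true, false, false, true], ![true, false, true, false], ![true, true, false, true]]]

/-- the search: each solution of the star equations is in the list. -/
def chkS : Bool :=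
  allB fun a0 => allB fun a1 => allB fun a2 => allB fun a3 =>
  allB fun b0 => allB fun b1 => allB fun b2 => allB fun b3 =>
  !(steq a0 a0 b1 b0 a1 && steq a1 a0 b2 b0 a2 && steq a2 a1 b3 b1 a3 && steq a3 a2 b3 b2 a3) ||
  allB fun c0 => allB fun c1 => allB fun c2 => allB fun c3 =>
  !(steq b0 a0 c1 c0 a1 && steq b1 a0 c2 c0 a2 && steq b2 a1 c3 c1 a3 && steq b3 a2 c3 c2 a3) ||
  allB fun d0 => allB fun d1 => allB fun d2 => allB fun d3 =>
  !(steq c0 b0 d1 d0 b1 && steq c1 b0 d2 d0 b2 && steq c2 b1 d3 d1 b3 && steq c3 b2 d3 d2 b3 &&
    steq d0 c0 d1 d0 c1 && steq d1 c0 d2 d0 c2 && steq d2 c1 d3 d1 c3 && steq d3 c2 d3 d2 c3) ||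
  solE.any (eqE (mkE a0 a1 a2 a3 b0 b1 b2 b3 c0 c1 c2 c3 d0 d1 d2 d3))

theorem chkS_true : chkS = true := by decide +kernel

/-- the fourth power -/
def pow4E (g : BM) : BM := mulE (mulE g g) (mulE g g)

/-- the inversion check -/
def chkI : Bool :=
  solE.all fun D =>
    eqE (pow4E D) oneE || !(solE.any fun X => eqE (mulE D X) oneE) ||
    solE.all fun J => !(eqE (mulE J J) oneE) || eqE J oneE || eqE (mulE (mulE J D) (mulE J D)) oneE

theorem chkI_true : chkI = true := by decide +kernel

theorem chkS_elim (a0 a1 a2 a3 b0 b1 b2 b3 c0 c1 c2 c3 d0 d1 d2 d3 : Bool)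
    (h1 : (steq a0 a0 b1 b0 a1 && steq a1 a0 b2 b0 a2 && steq a2 a1 b3 b1 a3 && steq a3 a2 b3 b2 a3) = true)
    (h2 : (steq b0 a0 c1 c0 a1 && steq b1 a0 c2 c0 a2 && steq b2 a1 c3 c1 a3 && steq b3 a2 c3 c2 a3) = true)
    (h3 : (steq c0 b0 d1 d0 b1 && steq c1 b0 d2 d0 b2 && steq c2 b1 d3 d1 b3 && steq c3 b2 d3 d2 b3 &&
      steq d0 c0 d1 d0 c1 && steq d1 c0 d2 d0 c2 && steq d2 c1 d3 d1 c3 && steq d3 c2 d3 d2 c3) = true) :
    ∃ x ∈ solE, mkE a0 a1 a2 a3 b0 b1 b2 b3 c0 c1 c2 c3 d0 d1 d2 d3 = x := by
  have h := chkS_true
  simp only [chkS, allB_iff, Bool.or_eq_true] at h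
  rcases h a0 a1 a2 a3 b0 b1 b2 b3 with h | h
  · simp [h1] at h
  rcases h c0 c1 c2 c3 with h | h
  · simp [h2] at h
  rcases h d0 d1 d2 d3 with h | h
  · simp [h3] at h
  · rw [List.any_eq_true] at h
    obtain ⟨x, hx, hx2⟩ := h
    exact ⟨x, hx, eqE_eq hx2⟩

section Field

variable {F : Type*} [Field F] [Fintype F]

theorem star_cases (hF : Fintype.card F = 2) {G : Matrix (Fin 4) (Fin 4) F}
    (hst : star4 G = G) : ∃ x ∈ solE, pat G = x := by
  have e : ∀ p r : Fin 4, star4 G p r = G p r := fun p r => congrFun (congrFun hst p) r
  have hs : ∀ p r : Fin 4, steq (be (G p r)) (be (G (pairOf p).1 (pairOf r).1))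
      (be (G (pairOf p).2 (pairOf r).2)) (be (G (pairOf p).2 (pairOf r).1))
      (be (G (pairOf p).1 (pairOf r).2)) = true := fun p r => steq_of hF (e p r)
  rw [pat_eq]
  apply chkS_elim
  · simp only [Bool.and_eq_true]
    exact ⟨⟨⟨hs 0 0, hs 0 1⟩, hs 0 2⟩, hs 0 3⟩
  · simp only [Bool.and_eq_true]
    exact ⟨⟨⟨hs 1 0, hs 1 1⟩, hs 1 2⟩, hs 1 3⟩
  · simp only [Bool.and_eq_true]
    exact ⟨⟨⟨⟨⟨⟨⟨hs 2 0, hs 2 1⟩, hs 2 2⟩, hs 2 3⟩, hs 3 0⟩, hs 3 1⟩, hs 3 2⟩, hs 3 3⟩

/-- The matrix form. -/
theorem inverts_matrix (hF : Fintype.card F = 2) {D X J : Matrix (Fin 4) (Fin 4) F}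
    (hD : star4 D = D) (hX : star4 X = X) (hJ : star4 J = J) (hDX : D * X = 1)
    (hD4 : (D * D) * (D * D) ≠ 1) (hJ1 : J ≠ 1) (hJJ : J * J = 1) :
    (J * D) * (J * D) = 1 := by
  obtain ⟨x, hx, hDx⟩ := star_cases hF hD
  obtain ⟨y, hy, hXy⟩ := star_cases hF hX
  obtain ⟨z, hz, hJz⟩ := star_cases hF hJ
  have h := chkI_true
  rw [chkI, List.all_eq_true] at h
  have h1 := h x hx
  simp only [Bool.or_eq_true] at h1
  rcases h1 with (h1 | h1) | h1
  · exfalso
    apply hD4
    apply pat_inj hF
    rw [pat_mul hF, pat_mul hF, pat_one, hDx]
    exact eqE_eq h1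
  · exfalso
    have h2 : mulE x y = oneE := by
      rw [← hDx, ← hXy, ← pat_mul hF, hDX, pat_one]
    have h3 : (solE.any fun X => eqE (mulE x X) oneE) = true := by
      rw [List.any_eq_true]
      exact ⟨y, hy, by rw [h2]; exact eqE_of_eq rfl⟩
    rw [h3] at h1
    exact Bool.noConfusion h1
  · rw [List.all_eq_true] at h1
    have h2 := h1 z hz
    simp only [Bool.or_eq_true, Bool.not_eq_true'] at h2
    rcases h2 with (h2 | h2) | h2
    · exfalso
      have h3 : mulE z z = oneE := by
        rw [← hJz, ← pat_mul hF, hJJ, pat_one]
      rw [h3, eqE_of_eq rfl] at h2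
      exact Bool.noConfusion h2
    · exfalso
      apply hJ1
      apply pat_inj hF
      rw [pat_one, hJz]
      exact eqE_eq h2
    · apply pat_inj hF
      rw [pat_mul hF, pat_mul hF, pat_one, hDx, hJz]
      exact eqE_eq h2

end Field

/-- Involutions of `Sz(2)` invert the elements of odd order. -/
theorem hR_of_card_two {F : Type*} [Field F] [Fintype F] (hF : Fintype.card F = 2) {e : ℕ}
    (he : ∀ x : F, x ^ e = x) (d j : Lie.Sz F e) (hd : Odd (orderOf d)) (hd1 : d ≠ 1) (hj : j ≠ 1)
    (hjj : j * j = 1) : j * d * j = d⁻¹ := by
  have h2 : (2 : F) = 0 := by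
    rw [← one_add_one_eq_two]; exact F_two hF
  have hf : ∀ x : F, (RingHom.id F) x = x ^ e := fun x => (he x).symm
  have hst : ∀ {g : GL (Fin 4) F}, g ∈ Lie.Sz F e →
      star4 (g : Matrix (Fin 4) (Fin 4) F) = (g : Matrix (Fin 4) (Fin 4) F) := by
    intro g hg
    have h1 := (Cfsg.Agent.Lib.PrimeGraph.Suzuki.mem_good h2 e (RingHom.id F) hf hg).2
    rw [h1]
    ext i j
    simp [he]
  have hval : ∀ x y : Lie.Sz F e,
      ((x * y : Lie.Sz F e) : GL (Fin 4) F).val =
      ((x : GL (Fin 4) F) : Matrix (Fin 4) (Fin 4) F) * ((y : GL (Fin 4) F) : Matrix (Fin 4) (Fin 4) F) :=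
    fun _ _ => rfl
  have hinj : ∀ x y : Lie.Sz F e, ((x : GL (Fin 4) F) : Matrix (Fin 4) (Fin 4) F) =
      ((y : GL (Fin 4) F) : Matrix (Fin 4) (Fin 4) F) → x = y :=
    fun x y h => Subtype.ext (Units.ext h)
  have hd4 : (d * d) * (d * d) ≠ 1 := by
    intro h4
    apply hd1
    have h5 : d ^ 4 = 1 := by
      rw [← h4]; simp only [pow_succ, pow_zero, one_mul, mul_assoc]
    have h6 : orderOf d ∣ 2 ^ 2 := orderOf_dvd_of_pow_eq_one (by simpa using h5)
    obtain ⟨k, -, hk⟩ := (Nat.dvd_prime_pow Nat.prime_two).mp h6
    rcases k with _ | k
    · exact orderOf_eq_one_iff.mp (by simpa using hk)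
    · rw [hk, pow_succ] at hd
      exact absurd hd (by simp [Nat.not_odd_iff_even])
  have key : ((j * d) * (j * d) : Lie.Sz F e) = 1 := by
    apply hinj
    rw [hval, hval]
    refine inverts_matrix hF (D := ((d : GL (Fin 4) F) : Matrix (Fin 4) (Fin 4) F))
      (X := ((d⁻¹ : Lie.Sz F e) : GL (Fin 4) F).val) (hst d.2) (hst (d⁻¹).2) (hst j.2) ?_ ?_ ?_ ?_
    · rw [← hval, mul_inv_cancel]
      rfl
    · intro h3
      apply hd4
      apply hinj
      rw [hval, hval]
      exact h3
    · intro h3
      apply hj
      apply hinj
      exact h3
    · rw [← hval, hjj]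
      rfl
  calc j * d * j = (j * d * j * d) * d⁻¹ := by group
    _ = ((j * d) * (j * d)) * d⁻¹ := by group
    _ = d⁻¹ := by rw [key, one_mul]

end Cfsg.Agent.Lib.LocalStruct.FrakLFix3S2
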