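/-
Every non-trivial element of odd order of a Suzuki group is inverted by an involution.
-/
import Cfsg.Agent.Lib.SzFaithful.Sz

set_option autoImplicit false
set_option linter.style.haveILetI false
set_option linter.unusedSectionVars false

namespace Cfsg.Agent.Lib.LocalStruct.FrakLFix3Sz

open Cfsg Cfsg.Agent.Lib.Suzuki.Core Cfsg.Agent.Lib.Suzuki.Elements
  Cfsg.Agent.Lib.Suzuki.Stab Cfsg.Agent.Lib.Suzuki.Group Cfsg.Agent.Lib.Suzuki.Simple
  Cfsg.Agent.Lib.Suzuki.Sylow2 Cfsg.Agent.Lib.Suzuki.Count Cfsg.Agent.Lib.SzIso.OutSz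
  Cfsg.Agent.Lib.SzIso.SubSz Cfsg.Agent.Lib.Suzuki.Cyc Cfsg.Agent.Lib.Suzuki.CN
  Cfsg.Agent.Lib.SuzukiX.Partition Cfsg.Agent.Lib.SuzukiX.Central Cfsg.Agent.Lib.Suzuki.TI
  Cfsg.Agent.Lib.Suzuki.Exc Cfsg.Agent.Lib.SzIso.MaxSz
open scoped Matrix Pointwise

variable {F : Type*} [Field F] [Fintype F] [CharP F 2] {m : ℕ} (hc : Ctx F m)

include hc

/-- An element with two fixed points is inverted by an involution. -/
theorem case_fix {d : Sz F m} (hd1 : d ≠ 1) {p p' : OO F m} (hne : p ≠ p') (hp : d • p = p)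
    (hp' : d • p' = p') : ∃ i : Sz F m, IsInv i ∧ i * d * i⁻¹ = d⁻¹ := by
  obtain ⟨t, ht1, ht2⟩ := exists_smul_inf_zero hc hne
  have hw1 : wS hc • (ptO 0 0 : OO F m) = infO := Subtype.ext (wS_smul_zero hc)
  have hw2 : wS hc • (infO : OO F m) = ptO 0 0 := Subtype.ext (wS_smul_inf hc)
  have hwI : IsInv (wS hc) := by
    refine ⟨?_, wS_mul_self hc⟩
    intro h
    rw [h, one_smul] at hw2
    exact infO_ne_zero hw2
  set i : Sz F m := t⁻¹ * wS hc * t with hi
  have hiI : IsInv i := by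
    have := hwI.conj t⁻¹
    rwa [inv_inv] at this
  have hi1 : i • p = p' := by
    rw [hi, mul_smul, mul_smul, ht1, hw2, ← ht2, inv_smul_smul]
  have hi2 : i • p' = p := by
    rw [hi, mul_smul, mul_smul, ht2, hw1, ← ht1, inv_smul_smul]
  have hinv := Cfsg.Agent.Lib.LocalStruct.SCNOdd.inverts_of_fpf (W := Tpp p p') hiI.2 ?_ ?_
  · exact ⟨i, hiI, hinv d ⟨hp, hp'⟩⟩
  · rintro w ⟨hw, hw'⟩
    rw [hiI.inv_eq]
    constructor
    · show (i * w * i) • p = p
      rw [mul_smul, mul_smul, hi1, show w • p' = p' from hw', hi2]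
    · show (i * w * i) • p' = p'
      rw [mul_smul, mul_smul, hi2, show w • p = p from hw, hi1]
  · rintro w ⟨hw, hw'⟩ hcomm
    obtain ⟨x, hx⟩ := exists_fix_of_inv hc hiI
    have hwx : w • x = x := by
      apply fix_unique hc hiI _ hx
      rw [← mul_smul, hcomm, mul_smul, hx]
    have hxp : x ≠ p := by
      rintro rfl
      exact hne (hx.symm.trans hi1)
    have hxp' : x ≠ p' := by
      rintro rfl
      exact hne (hi2.symm.trans hx)
    exact no_three hc w p p' x hne hxp'.symm hxp.symm hw hw' hwx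

/-- A fixed-point-free element is inverted by an involution, given the right normalizer. -/
theorem case_class {g : Sz F m} (hg : IsFPF g)
    (hN : Nat.card (Subgroup.normalizer ((Cz g : Subgroup (Sz F m)) : Set (Sz F m))) = 4 * Nat.card (Cz g))
    {d : Sz F m} (hd : d ∈ Xg g) : ∃ i : Sz F m, IsInv i ∧ i * d * i⁻¹ = d⁻¹ := by
  classical
  obtain ⟨t, a, ha, ha1, rfl⟩ := hd
  haveI : Fact (Nat.Prime 2) := ⟨Nat.prime_two⟩
  have hdN : 2 ∣ Nat.card (Subgroup.normalizer ((Cz g : Subgroup (Sz F m)) : Set (Sz F m))) := by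
    rw [hN]
    exact Dvd.intro_left (2 * Nat.card (Cz g)) (by ring)
  obtain ⟨t', ht'⟩ := exists_prime_orderOf_dvd_card' 2 hdN
  set s : Sz F m := (t' : Sz F m) with hs
  have hso : orderOf s = 2 := by
    rw [hs, Subgroup.orderOf_coe]
    exact ht'
  have hss : s * s = 1 := by
    rw [← pow_two, ← hso, pow_orderOf_eq_one]
  have hs1 : s ≠ 1 := by
    intro h
    rw [h, orderOf_one] at hso
    omega
  have hsI : IsInv s := ⟨hs1, hss⟩
  have hodd : Odd (Nat.card (Cz g)) := (good_of_fpf hc hg).odd hc.hm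
  have hsU : s ∉ Cz g := by
    intro h
    have h3 : orderOf s ∣ Nat.card (Cz g) := by
      rw [← Subgroup.orderOf_mk s h]
      exact orderOf_dvd_natCard _
    rw [hso] at h3
    exact (Nat.not_even_iff_odd.2 hodd) (even_iff_two_dvd.2 h3)
  have hn : ∀ w ∈ Cz g, s * w * s⁻¹ ∈ Cz g := fun w hw =>
    (Subgroup.mem_normalizer_iff.1 t'.2 w).1 hw
  have hinv := Cfsg.Agent.Lib.LocalStruct.SCNOdd.inverts_of_fpf hss hn ?_
  · refine ⟨t * s * t⁻¹, hsI.conj t, ?_⟩
    have h1 := hinv a ha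
    calc t * s * t⁻¹ * (t * a * t⁻¹) * (t * s * t⁻¹)⁻¹ = t * (s * a * s⁻¹) * t⁻¹ := by group
      _ = t * a⁻¹ * t⁻¹ := by rw [h1]
      _ = (t * a * t⁻¹)⁻¹ := by group
  · intro w hw hcomm
    by_contra hw1
    apply hsU
    rw [← Cz_eq hc hg hw hw1]
    exact mem_Cz.2 hcomm.symm

/-- Every non-trivial element of odd order is inverted by an involution. -/
theorem exists_inverting {d : Sz F m} (hd1 : d ≠ 1) (hodd : Odd (orderOf d)) :
    ∃ i : Sz F m, IsInv i ∧ i * d * i⁻¹ = d⁻¹ := by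
  by_cases h : ∃ p : OO F m, d • p = p
  · obtain ⟨p, hp⟩ := h
    obtain ⟨p', hne, hp'⟩ := exists_second_fix hc hd1 hodd hp
    exact case_fix hc hd1 hne hp hp'
  · push Not at h
    obtain ⟨g₁, g₂, hg₁, hg₂, -, hXs, hN₁, hN₂⟩ := exists_two_classes hc hc.hm
    have hd : d ∈ Xs F m := ⟨hd1, h⟩
    rw [hXs] at hd
    rcases hd with hd | hd
    · exact case_class hc hg₁ hN₁ hd
    · exact case_class hc hg₂ hN₂ hd

omit hc

/-- The statement for `Lie.Sz`, `m ≥ 1`. -/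
theorem hR_of_one_le {F : Type*} [Field F] [Fintype F] {m : ℕ} (hm : 1 ≤ m)
    (hF : Fintype.card F = 2 ^ (2 * m + 1)) (d j : Lie.Sz F (2 ^ (m + 1)))
    (hd : Odd (orderOf d)) (hd1 : d ≠ 1) (hj : j ≠ 1) (hjj : j * j = 1) :
    ∃ g : Lie.Sz F (2 ^ (m + 1)), (g * j * g⁻¹) * d * (g * j * g⁻¹) = d⁻¹ := by
  haveI := Cfsg.Agent.Lib.Suzuki.Elements.charP_two_of_card hF
  have hc := Cfsg.Agent.Lib.Suzuki.Stab.ctx_of_card hm hF
  set E := Cfsg.Agent.Lib.SzIso.Basic.equivSz hc with hE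
  have h1 : E.symm d ≠ 1 := by
    intro h
    apply hd1
    have := congrArg E h
    simpa using this
  have h2 : Odd (orderOf (E.symm d)) := by rwa [MulEquiv.orderOf_eq]
  obtain ⟨i, hi, hid⟩ := exists_inverting hc h1 h2
  have hjo : orderOf j = 2 := orderOf_eq_prime (by rw [pow_two]; exact hjj) hj
  have hio : orderOf (E i) = 2 := by
    rw [MulEquiv.orderOf_eq]
    exact orderOf_eq_prime (by rw [pow_two]; exact hi.2) hi.1
  obtain ⟨g, hg⟩ := Cfsg.Agent.Lib.SzFaithful.Sz.involutions_conj hm hF j (E i) hjo hio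
  refine ⟨g, ?_⟩
  rw [hg]
  have h3 := congrArg E hid
  rw [hi.inv_eq] at h3
  simpa using h3

end Cfsg.Agent.Lib.LocalStruct.FrakLFix3Sz
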