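/-
The unique elementary abelian normal subgroup of `N(Y)`, in `Sz(q)`, `q > 2`.
-/
import Cfsg.Agent.Lib.LocalStruct.NormUniq
import Cfsg.Agent.Lib.LocalStruct.WeakClosed
import Cfsg.Agent.Lib.Suzuki.Sylow2
import Cfsg.Agent.Lib.SzIso.Basic

set_option autoImplicit false

namespace Cfsg.Agent.Lib.LocalStruct.NormUniqSz

open Subgroup Cfsg Cfsg.Agent.Lib.LocalStruct.Basic Cfsg.Agent.Lib.LocalStruct.Comm
  Cfsg.Agent.Lib.LocalStruct.NormUniq
open Cfsg.Agent.Lib.Suzuki.Core Cfsg.Agent.Lib.Suzuki.Elements Cfsg.Agent.Lib.Suzuki.Stab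
  Cfsg.Agent.Lib.Suzuki.Group Cfsg.Agent.Lib.Suzuki.Simple Cfsg.Agent.Lib.Suzuki.Sylow2
open scoped commutatorElement

variable {F : Type*} [Field F] [Fintype F] [CharP F 2] {m : ℕ} (hc : Ctx F m)

/-- the center of the Sylow subgroup `U` -/
def ZZ : Subgroup (Sz F m) where
  carrier := {g | ∃ b : F, g = uS hc 0 b}
  mul_mem' := by
    rintro _ _ ⟨b, rfl⟩ ⟨b', rfl⟩
    exact ⟨b + b', by rw [uS_mul]; simp [th_zero]⟩
  one_mem' := ⟨0, (uS_zero hc).symm⟩
  inv_mem' := by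
    rintro _ ⟨b, rfl⟩
    exact ⟨b, by rw [uS_inv]; simp [th_zero]⟩

theorem mem_ZZ {g : Sz F m} : g ∈ ZZ hc ↔ ∃ b : F, g = uS hc 0 b := Iff.rfl

theorem card_ZZ : Nat.card (ZZ hc) = Fintype.card F := by
  let φ : F → ZZ hc := fun b => ⟨uS hc 0 b, b, rfl⟩
  have hφ : Function.Bijective φ := by
    constructor
    · intro b b' h
      exact (uS_injective hc (congrArg Subtype.val h)).2
    · rintro ⟨_, b, rfl⟩
      exact ⟨b, rfl⟩
  rw [← Nat.card_congr (Equiv.ofBijective φ hφ), Nat.card_eq_fintype_card]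

include hc in
theorem eq_zero_of_uS_sq {a b : F} (h : uS hc a b * uS hc a b = 1) : a = 0 := by
  rw [uS_sq, ← uS_zero hc] at h
  have h2 := (uS_injective hc h).2
  rcases mul_eq_zero.mp h2 with h3 | h3
  · exact th_eq_zero.mp h3
  · exact h3

theorem mem_ZZ_of_sq {x : Sz F m} (hx : x ∈ Usub hc) (h : x * x = 1) : x ∈ ZZ hc := by
  obtain ⟨a, b, rfl⟩ := hx
  have := eq_zero_of_uS_sq hc h
  subst this
  exact ⟨b, rfl⟩

theorem Usub_le_normalizer : Usub hc ≤ normalizer ((ZZ hc : Subgroup (Sz F m)) : Set (Sz F m)) := by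
  rintro _ ⟨a, b, rfl⟩
  apply mem_normalizer_of_conj_mem
  rintro _ ⟨c, rfl⟩
  refine ⟨c, ?_⟩
  have h2 : ∀ z : F, z + z = 0 := fun z => CharTwo.add_self_eq_zero z
  rw [uS_inv, uS_mul, uS_mul]
  simp only [add_zero, mul_zero, h2]
  congr 1
  have e : b + c + (b + th m a * a) + th m a * a = (b + b) + c + (th m a * a + th m a * a) := by ring
  rw [e, h2, h2]
  simp

theorem hS_le_normalizer (l : Fˣ) : hS hc l ∈ normalizer ((ZZ hc : Subgroup (Sz F m)) : Set (Sz F m)) := by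
  apply mem_normalizer_of_conj_mem
  rintro _ ⟨c, rfl⟩
  exact ⟨_, by rw [hS_conj_uS, mul_zero]⟩

theorem normUnique_ZZ : NormUnique 2 (ZZ hc) := by
  intro V hV hN hel hne
  have hVp : IsPGroup 2 V := Cfsg.Agent.Lib.PReduced.Basic.isPGroup_of_elementary hel
  have hUp := (UU hc).isPGroup'
  rw [coe_UU] at hUp
  have hUV : Usub hc ≤ normalizer (V : Set (Sz F m)) := (Usub_le_normalizer hc).trans hN
  have hVU : V ≤ Usub hc := by
    have h1 : IsPGroup 2 ↥(V ⊔ Usub hc) := IsPGroup.to_sup_of_normal_left' hVp hUp hUV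
    have h2 := (UU hc).is_maximal' (Q := V ⊔ Usub hc) h1 (by rw [coe_UU]; exact le_sup_right)
    rw [coe_UU] at h2
    rw [← h2]; exact le_sup_left
  have hVZ : V ≤ ZZ hc := by
    intro x hx
    apply mem_ZZ_of_sq hc (hVU hx)
    rw [← pow_two]; exact hel.2 x hx
  apply le_antisymm hVZ
  obtain ⟨⟨x, hx⟩, hx1⟩ := (Subgroup.ne_bot_iff_exists_ne_one ..).mp hne
  obtain ⟨b, rfl⟩ := hVZ hx
  have hb : b ≠ 0 := by
    rintro rfl
    exact hx1 (Subtype.ext (uS_zero hc))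
  rintro _ ⟨d, rfl⟩
  by_cases hd : d = 0
  · subst hd
    rw [uS_zero]; exact V.one_mem
  set c : F := d / b with hcdef
  have hc0 : c ≠ 0 := div_ne_zero hd hb
  have hth : th m c ≠ 0 := th_ne_zero m hc0
  set l : Fˣ := Units.mk0 (th m c / c) (div_ne_zero hth hc0) with hl
  have h1 := conj_mem_of_mem_normalizer (hN (hS_le_normalizer hc l)) hx
  rw [hS_conj_uS, mul_zero] at h1
  have e : ((l : F) * th m (l : F) * b) = d := by
    have e1 : (l : F) = th m c / c := rfl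
    have e2 : th m (l : F) = c ^ 2 / th m c := by
      rw [e1, div_eq_mul_inv, th_mul, th_inv, hc.hth, div_eq_mul_inv]
    rw [e2, e1]
    field_simp
    rw [hcdef]; field_simp
  rwa [e] at h1

include hc in
/-- an elementary abelian `2`-subgroup of order `|F|` in `Sz(F)`. -/
theorem normUnique_Sz (Y : Subgroup (Sz F m)) (hY : IsElementaryAbelian 2 Y)
    (hcard : Nat.card Y = Fintype.card F) : NormUnique 2 Y := by
  have hYp : IsPGroup 2 Y := Cfsg.Agent.Lib.PReduced.Basic.isPGroup_of_elementary hY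
  obtain ⟨P, hP⟩ := hYp.exists_le_sylow
  obtain ⟨h, rfl⟩ := MulAction.exists_smul_eq (Sz F m) (UU hc) P
  rw [Cfsg.Agent.Lib.LocalStruct.WeakClosed.coe_smul_sylow, coe_UU] at hP
  have hY2 : Y.map (MulAut.conj h⁻¹).toMonoidHom ≤ ZZ hc := by
    rintro _ ⟨y, hy, rfl⟩
    have h1 : (MulAut.conj h⁻¹).toMonoidHom y ∈ Usub hc := by
      have := hP hy
      rw [mem_conj_iff] at this
      simpa using this
    apply mem_ZZ_of_sq hc h1
    rw [← pow_two, ← map_pow, hY.2 y hy, map_one]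
  have hY3 : Y.map (MulAut.conj h⁻¹).toMonoidHom = ZZ hc := by
    apply Subgroup.eq_of_le_of_card_ge hY2
    rw [card_map_conj, hcard, card_ZZ]
  have hY4 : Y = (ZZ hc).map (MulAut.conj h).toMonoidHom := by
    rw [← hY3, ← map_conj_mul, mul_inv_cancel, map_conj_one]
  rw [hY4]
  exact (normUnique_ZZ hc).conj h

end Cfsg.Agent.Lib.LocalStruct.NormUniqSz
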