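/-
The quotient `N_L(Y) / O_p(L)` for `L ∈ 𝔏(Y)`.
-/
import Cfsg.Agent.Lib.LocalStruct.NormUniqSz
import Cfsg.Agent.Lib.LocalStruct.NormUniqSz2
import Cfsg.Agent.Lib.LocalStruct.FrakH

set_option autoImplicit false

namespace Cfsg.Agent.Lib.LocalStruct.FrakLQuot

open Subgroup Cfsg Cfsg.Agent.Lib.Core.Basic Cfsg.Agent.Lib.LocalStruct.Basic
  Cfsg.Agent.Lib.LocalStruct.Comm Cfsg.Agent.Lib.LocalStruct.PCoreOf
  Cfsg.Agent.Lib.LocalStruct.NormUniq

universe u

theorem isElementaryAbelian_subgroupOf {G : Type u} [Group G] {p : ℕ} {Y : Subgroup G}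
    (hY : IsElementaryAbelian p Y) (K : Subgroup G) : IsElementaryAbelian p (Y.subgroupOf K) := by
  refine ⟨⟨⟨?_⟩⟩, ?_⟩
  · rintro ⟨a, ha⟩ ⟨b, hb⟩
    apply Subtype.ext
    apply Subtype.ext
    have ha' : (a : G) ∈ Y := Subgroup.mem_subgroupOf.mp ha
    have hb' : (b : G) ∈ Y := Subgroup.mem_subgroupOf.mp hb
    have h := hY.1.is_comm.comm ⟨(a : G), ha'⟩ ⟨(b : G), hb'⟩
    show (a : G) * (b : G) = (b : G) * (a : G)
    exact congrArg Subtype.val h
  · intro a ha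
    apply Subtype.ext
    have ha' : (a : G) ∈ Y := Subgroup.mem_subgroupOf.mp ha
    simpa using hY.2 a ha'

variable {G : Type u} [Group G] [Finite G] {p : ℕ} [Fact p.Prime]

theorem card_image {L Y : Subgroup G} (hYL : Y ≤ L) :
    Nat.card ↥((Y.subgroupOf L).map (QuotientGroup.mk' (pCore p ↥L))) =
      (Y ⊓ pCoreOf p L).relIndex Y := by
  rw [← Subgroup.relIndex_ker, QuotientGroup.ker_mk', Subgroup.inf_relIndex_left, pCoreOf_eq_map]
  conv_rhs => rw [← Subgroup.map_subgroupOf_eq_of_le hYL]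
  rw [Subgroup.relIndex_map_map_of_injective _ _ L.subtype_injective]

theorem main_transfer {L Y NL : Subgroup G} (hYL : Y ≤ L) (hYel : IsElementaryAbelian p Y)
    (hNL : NL = L ⊓ normalizer (Y : Set G)) (hAN : pCoreOf p L ≤ normalizer (Y : Set G))
    (hmin : normalClosure ((Y.subgroupOf L : Subgroup ↥L) : Set ↥L) = ⊤) (hlt : NL < L)
    (hmax : ∀ X : Subgroup G, Y ≤ X → X < L → X ≤ NL)
    [hn : ((pCoreOf p L).subgroupOf NL).Normal]
    (hU : NormUnique p ((Y.subgroupOf L).map (QuotientGroup.mk' (pCore p ↥L)))) :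
    let Ybar : Subgroup (↥NL ⧸ (pCoreOf p L).subgroupOf NL) :=
      (Y.subgroupOf NL).map (QuotientGroup.mk' ((pCoreOf p L).subgroupOf NL))
    Ybar ≠ ⊥ ∧ Ybar.Normal ∧ IsElementaryAbelian p Ybar ∧
      ∀ V : Subgroup (↥NL ⧸ (pCoreOf p L).subgroupOf NL), V.Normal → IsElementaryAbelian p V →
        V ≠ ⊥ → V = Ybar := by
  intro Ybar
  haveI hOn : (pCore p ↥L).Normal := Cfsg.pCore_normal p _
  have hNLL : NL ≤ L := hlt.le
  have hNLN : NL ≤ normalizer (Y : Set G) := by rw [hNL]; exact inf_le_right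
  have hYN : Y ≤ normalizer (Y : Set G) := Subgroup.le_normalizer
  have hYNL : Y ≤ NL := by rw [hNL]; exact le_inf hYL hYN
  have hAL : pCoreOf p L ≤ L := pCoreOf_le L
  have hANL : pCoreOf p L ≤ NL := by rw [hNL]; exact le_inf hAL hAN
  have hnotN : ¬ L ≤ normalizer (Y : Set G) := by
    intro h
    apply hlt.ne
    rw [hNL]
    exact inf_eq_left.mpr h
  set π := QuotientGroup.mk' (pCore p ↥L) with hπ
  have hπsurj : Function.Surjective π := QuotientGroup.mk'_surjective _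
  have hπ1 : ∀ x : ↥L, π x = 1 ↔ x ∈ pCore p ↥L := fun x => by
    rw [hπ, QuotientGroup.mk'_apply, QuotientGroup.eq_one_iff]
  set Yt : Subgroup (↥L ⧸ pCore p ↥L) := (Y.subgroupOf L).map π with hYt
  set ι : ↥NL →* ↥L := Subgroup.inclusion hNLL with hι
  have hι_val : ∀ x : ↥NL, ((ι x : ↥L) : G) = x := fun x => rfl
  have hA' : ∀ x : ↥NL, x ∈ (pCoreOf p L).subgroupOf NL ↔ ι x ∈ pCore p ↥L := by
    intro x
    rw [Subgroup.mem_subgroupOf, pCoreOf_eq_map]
    constructor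
    · rintro ⟨y, hy, hyx⟩
      have : ι x = y := Subtype.ext hyx.symm
      rwa [this]
    · intro h
      exact ⟨_, h, rfl⟩
  let ψ : (↥NL ⧸ (pCoreOf p L).subgroupOf NL) →* (↥L ⧸ pCore p ↥L) :=
    QuotientGroup.lift _ (π.comp ι) (by
      intro x hx
      rw [MonoidHom.mem_ker, MonoidHom.comp_apply, hπ1]
      exact (hA' x).mp hx)
  have hψ : ∀ x : ↥NL, ψ (QuotientGroup.mk x) = π (ι x) := fun x => rfl
  have hψinj : Function.Injective ψ := by
    rw [injective_iff_map_eq_one]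
    intro z hz
    obtain ⟨x, rfl⟩ := QuotientGroup.mk'_surjective _ z
    have h1 : π (ι x) = 1 := hz
    rw [hπ1] at h1
    rw [QuotientGroup.mk'_apply, QuotientGroup.eq_one_iff]
    exact (hA' x).mpr h1
  have hmapY : Ybar.map ψ = Yt := by
    ext z
    constructor
    · rintro ⟨_, ⟨y, hy, rfl⟩, rfl⟩
      exact ⟨ι y, Subgroup.mem_subgroupOf.mpr (Subgroup.mem_subgroupOf.mp hy), rfl⟩
    · rintro ⟨y, hy, rfl⟩
      have hy' : (y : G) ∈ Y := Subgroup.mem_subgroupOf.mp hy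
      exact ⟨_, ⟨⟨y, hYNL hy'⟩, Subgroup.mem_subgroupOf.mpr hy', rfl⟩, rfl⟩
  have hrange : ∀ z, ψ z ∈ normalizer ((Yt : Subgroup _) : Set (↥L ⧸ pCore p ↥L)) := by
    intro z
    obtain ⟨x, rfl⟩ := QuotientGroup.mk'_surjective _ z
    apply mem_normalizer_of_conj_mem
    rintro _ ⟨y, hy, rfl⟩
    refine ⟨ι x * y * (ι x)⁻¹, ?_, ?_⟩
    · show ι x * y * (ι x)⁻¹ ∈ Y.subgroupOf L
      rw [Subgroup.mem_subgroupOf]
      have h1 : (y : G) ∈ Y := Subgroup.mem_subgroupOf.mp hy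
      exact conj_mem_of_mem_normalizer (hNLN x.2) h1
    · rw [map_mul, map_mul, map_inv]
      rfl
  have hnorm_le : ∀ g ∈ normalizer ((Yt : Subgroup _) : Set (↥L ⧸ pCore p ↥L)), ∃ z, ψ z = g := by
    intro g hg
    obtain ⟨x, rfl⟩ := hπsurj g
    set P : Subgroup G := ((normalizer ((Yt : Subgroup _) : Set (↥L ⧸ pCore p ↥L))).comap π).map L.subtype
      with hP
    have hPL : P ≤ L := by
      rintro _ ⟨y, -, rfl⟩
      exact y.2
    have hYP : Y ≤ P := by
      intro y hy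
      refine ⟨⟨y, hYL hy⟩, ?_, rfl⟩
      show π ⟨y, hYL hy⟩ ∈ normalizer ((Yt : Subgroup _) : Set (↥L ⧸ pCore p ↥L))
      exact Subgroup.le_normalizer ⟨⟨y, hYL hy⟩, Subgroup.mem_subgroupOf.mpr hy, rfl⟩
    have hxP : (x : G) ∈ P := ⟨x, hg, rfl⟩
    have hPne : P ≠ L := by
      intro hPe
      apply hnotN
      have hall : ∀ l : ↥L, π l ∈ normalizer ((Yt : Subgroup _) : Set (↥L ⧸ pCore p ↥L)) := by
        intro l
        have h1 : (l : G) ∈ P := by rw [hPe]; exact l.2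
        obtain ⟨l', hl', hll⟩ := h1
        have : l' = l := Subtype.ext hll
        rw [← this]
        exact hl'
      have hYtn : Yt.Normal := by
        apply Subgroup.normalizer_eq_top_iff.mp
        rw [eq_top_iff]
        intro z _
        obtain ⟨l, rfl⟩ := hπsurj z
        exact hall l
      have hTn : (Yt.comap π).Normal := Subgroup.Normal.comap hYtn π
      have h1 : normalClosure ((Y.subgroupOf L : Subgroup ↥L) : Set ↥L) ≤ Yt.comap π := by
        apply Subgroup.normalClosure_le_normal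
        intro y hy
        exact ⟨y, hy, rfl⟩
      rw [hmin] at h1
      intro l hl
      obtain ⟨y, hy, hyl⟩ := h1 (Subgroup.mem_top (⟨l, hl⟩ : ↥L))
      have h2 : y⁻¹ * ⟨l, hl⟩ ∈ pCore p ↥L := by
        rw [← hπ1, map_mul, map_inv, hyl]
        simp
      have h3 : ((y⁻¹ * ⟨l, hl⟩ : ↥L) : G) ∈ pCoreOf p L := ⟨_, h2, rfl⟩
      have h4 := (normalizer (Y : Set G)).mul_mem (hYN (Subgroup.mem_subgroupOf.mp hy)) (hAN h3)
      simpa using h4
    have hPlt : P < L := lt_of_le_of_ne hPL hPne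
    have hxNL : (x : G) ∈ NL := hmax P hYP hPlt hxP
    exact ⟨QuotientGroup.mk ⟨x, hxNL⟩, rfl⟩
  have hYt1 : Yt ≠ ⊥ := by
    intro hb
    rw [hYt, Subgroup.map_eq_bot_iff, hπ, QuotientGroup.ker_mk'] at hb
    have h1 : normalClosure ((Y.subgroupOf L : Subgroup ↥L) : Set ↥L) ≤ pCore p ↥L :=
      Subgroup.normalClosure_le_normal hb
    rw [hmin] at h1
    apply hnotN
    intro l hl
    have h2 : (l : G) ∈ pCoreOf p L := ⟨⟨l, hl⟩, h1 (Subgroup.mem_top _), rfl⟩
    exact hAN h2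
  refine ⟨?_, ?_, ?_, ?_⟩
  · intro hb
    apply hYt1
    rw [← hmapY, hb, Subgroup.map_bot]
  · have h1 : (Y.subgroupOf NL).Normal := (FrakH.normal_subgroupOf_iff hYNL).mpr hNLN
    exact h1.map _ (QuotientGroup.mk'_surjective _)
  · exact isElementaryAbelian_map_hom _ (isElementaryAbelian_subgroupOf hYel NL)
  · intro V hVn hVel hV1
    apply Subgroup.map_injective hψinj
    rw [hmapY]
    apply hU
    · rintro _ ⟨v, -, rfl⟩
      exact hrange v
    · intro g hg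
      obtain ⟨z, rfl⟩ := hnorm_le g hg
      apply mem_normalizer_of_conj_mem
      rintro _ ⟨v, hv, rfl⟩
      exact ⟨z * v * z⁻¹, hVn.conj_mem v hv z, by simp⟩
    · exact isElementaryAbelian_map_hom _ hVel
    · intro hb
      exact hV1 ((Subgroup.map_eq_bot_iff_of_injective _ hψinj).mp hb)

end Cfsg.Agent.Lib.LocalStruct.FrakLQuot
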