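/-
Fixed points of non-`p`-elements on `O_p(L) / C_Y(L)` for `L ∈ 𝔏_G(Y)`: the assembly.
-/
import Cfsg.Agent.Lib.LocalStruct.FrakLFix3
import Cfsg.Agent.Lib.LocalStruct.FrakLFix3Sz
import Cfsg.Agent.Lib.LocalStruct.FrakLFix3S2
import Cfsg.Agent.Lib.LocalStruct.FrakLQuot
import Cfsg.Agent.Lib.LocalStruct.PReducedOf

set_option autoImplicit false
set_option linter.style.haveILetI false
set_option linter.unusedSectionVars false

namespace Cfsg.Agent.Lib.LocalStruct.FrakLFix4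

open Subgroup Cfsg Cfsg.Agent.Lib.LocalStruct.Basic Cfsg.Agent.Lib.LocalStruct.Comm
  Cfsg.Agent.Lib.LocalStruct.PCoreOf Cfsg.Agent.Lib.LocalStruct.WeakClosed
  Cfsg.Agent.Lib.LocalStruct.AsymL1 Cfsg.Agent.Lib.LocalStruct.FrakLFix1
  Cfsg.Agent.Lib.LocalStruct.FrakLFix1.LConf Cfsg.Agent.Lib.LocalStruct.FrakLFix2
  Cfsg.Agent.Lib.LocalStruct.FrakLFix3
  Cfsg.Agent.Lib.Classical.SL2Sylow
open scoped commutatorElement MatrixGroups

universe u v

variable {G : Type u} [Group G] [Finite G] {p : ℕ} [Fact p.Prime]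

/-- `N ∩ L` is normal in `L` if `L` normalizes `N`. -/
theorem normal_subgroupOf' {N L : Subgroup G} (h : L ≤ normalizer (N : Set G)) :
    (N.subgroupOf L).Normal := by
  constructor
  intro n hn g
  rw [Subgroup.mem_subgroupOf] at hn ⊢
  exact conj_mem_of_mem_normalizer (h g.2) hn

/-- The configuration from `L ∈ 𝔏(Y_M)`. -/
theorem lconf {M L : Subgroup G} (hL : IsInFrakL p M L) : LConf p (largestPReducedOf p M) L := by
  obtain ⟨h1, h2, h3, h4, h5, ⟨h6a, h6b⟩, h7⟩ := hL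
  refine
    { hYY := ?_
      hYp := PReducedOf.isPGroup_largestPReducedOf M
      hYL := h1
      hcl := ?_
      hAY := h3
      hgen := ?_
      hlt := ?_
      hmax := ?_ }
  · exact (PReducedOf.largestPReducedOf_le_pCoreOf M).trans (PReducedOf.pCoreOf_le_centralizer M)
  · intro N hN hle x hx
    have hx' := (Subgroup.ext_iff.mp h2 x).mp hx
    obtain ⟨z, hz, rfl⟩ := hx'
    haveI := normal_subgroupOf' hN
    have h8 : normalClosure (((largestPReducedOf p M ⊓ pCoreOf p L).subgroupOf L : Subgroup ↥L) : Set ↥L) ≤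
        N.subgroupOf L := by
      apply Subgroup.normalClosure_le_normal
      intro w hw
      exact Subgroup.mem_subgroupOf.mpr (hle (Subgroup.mem_subgroupOf.mp hw))
    exact Subgroup.mem_subgroupOf.mp (h8 hz)
  · intro N hN hle x hx
    haveI := normal_subgroupOf' hN
    have h8 : normalClosure (((largestPReducedOf p M).subgroupOf L : Subgroup ↥L) : Set ↥L) ≤
        N.subgroupOf L := by
      apply Subgroup.normalClosure_le_normal
      intro w hw
      exact Subgroup.mem_subgroupOf.mpr (hle (Subgroup.mem_subgroupOf.mp hw))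
    rw [h4.1] at h8
    exact Subgroup.mem_subgroupOf.mp (h8 (Subgroup.mem_top (⟨x, hx⟩ : ↥L)))
  · intro h
    apply h6a.not_ge
    exact le_inf le_rfl h
  · intro X hYX hXL
    exact (h6b X hYX hXL).trans inf_le_right

section tau

variable {L : Subgroup G} {X : Type v} [Group X]

/-- The map to the model. -/
noncomputable def tauOf (p : ℕ) [Fact p.Prime] (e : ↥L ⧸ pCore p ↥L ≃* X) : ↥L →* X :=
  e.toMonoidHom.comp (QuotientGroup.mk' (pCore p ↥L))

theorem tauOf_surj (e : ↥L ⧸ pCore p ↥L ≃* X) : Function.Surjective (tauOf p e) :=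
  e.surjective.comp (QuotientGroup.mk'_surjective _)

theorem tauOf_ker (e : ↥L ⧸ pCore p ↥L ≃* X) (x : ↥L) :
    tauOf p e x = 1 ↔ (x : G) ∈ pCoreOf p L := by
  have e1 : tauOf p e x = 1 ↔ (QuotientGroup.mk' (pCore p ↥L)) x = 1 := by
    show e ((QuotientGroup.mk' (pCore p ↥L)) x) = 1 ↔ _
    rw [map_eq_one_iff e e.injective]
  rw [e1, QuotientGroup.mk'_apply, QuotientGroup.eq_one_iff, mem_pCoreOf]
  exact ⟨fun h => ⟨x.2, h⟩, fun ⟨_, h⟩ => h⟩

theorem card_map_tauOf {Y : Subgroup G} (hYL : Y ≤ L) (e : ↥L ⧸ pCore p ↥L ≃* X) :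
    Nat.card ↥((Y.subgroupOf L).map (tauOf p e)) = (Y ⊓ pCoreOf p L).relIndex Y := by
  rw [← Cfsg.Agent.Lib.LocalStruct.FrakLQuot.card_image (p := p) hYL]
  have e1 : (Y.subgroupOf L).map (tauOf p e) =
      ((Y.subgroupOf L).map (QuotientGroup.mk' (pCore p ↥L))).map e.toMonoidHom := by
    rw [Subgroup.map_map]
    rfl
  rw [e1]
  exact Subgroup.card_map_of_injective e.injective

end tau

section SL2

variable {F : Type v} [Field F] [Fintype F]

/-- A `p`-subgroup of `SL₂(F)` of order `|F|` is conjugate to the unitriangular group. -/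
theorem exists_conj_eq (Y : Subgroup (SL(2, F))) (hYp : IsPGroup p Y)
    (hcard : Nat.card Y = Fintype.card F) :
    CharP F p ∧ ∃ h : SL(2, F), Y = (US F).map (MulAut.conj h).toMonoidHom := by
  have hp : p.Prime := Fact.out
  obtain ⟨k, hk⟩ := IsPGroup.iff_card.mp hYp
  obtain ⟨l, hl⟩ := CharP.exists F
  haveI := hl
  haveI hlp : Fact l.Prime := ⟨CharP.char_is_prime F l⟩
  obtain ⟨n, -, hn⟩ := FiniteField.card F l
  have hlk : l ^ (n : ℕ) = p ^ k := by rw [← hn, ← hcard, hk]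
  have hldvd : l ∣ p ^ k := by
    rw [← hlk]; exact dvd_pow_self l n.ne_zero
  have hle : l = p := (Nat.prime_dvd_prime_iff_eq hlp.out hp).mp (hlp.out.dvd_of_dvd_pow hldvd)
  subst hle
  refine ⟨hl, ?_⟩
  obtain ⟨P, hP⟩ := hYp.exists_le_sylow
  obtain ⟨h, rfl⟩ := exists_conj_US l P
  have hcP : Nat.card ↥((h • sylowUS (F := F) l : Sylow l (SL(2, F))) : Subgroup (SL(2, F))) =
      Nat.card Y := by
    rw [Sylow.card_eq_multiplicity, ← Sylow.card_eq_multiplicity (sylowUS l), coe_sylowUS, card_US,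
      hcard, Nat.card_eq_fintype_card]
  have hEq : Y = ((h • sylowUS (F := F) l : Sylow l (SL(2, F))) : Subgroup (SL(2, F))) :=
    Subgroup.eq_of_le_of_card_ge hP hcP.le
  refine ⟨h, ?_⟩
  rw [hEq]
  ext x
  show x ∈ h • sylowUS (F := F) l ↔ _
  rw [Cfsg.Agent.Lib.Classical.SL2Sylow.mem_smul_sylowUS_iff, mem_conj_iff, mem_US_iff]
  constructor
  · rintro ⟨t, rfl⟩
    exact ⟨t, by group⟩
  · rintro ⟨t, ht⟩
    exact ⟨t, by rw [ht]; group⟩

/-- The `SL₂` configuration. -/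
theorem slConf {Y L : Subgroup G} (hc : LConf p Y L) (τ₀ : ↥L →* SL(2, F))
    (hs : Function.Surjective τ₀) (hker : ∀ x : ↥L, τ₀ x = 1 ↔ (x : G) ∈ pCoreOf p L)
    (hcard : Nat.card ↥((Y.subgroupOf L).map τ₀) = Fintype.card F) :
    CharP F p ∧ ∃ τ : ↥L →* SL(2, F), SLConf p Y L τ := by
  have hYp : IsPGroup p ↥((Y.subgroupOf L).map τ₀) := by
    apply IsPGroup.map
    exact hc.hYp.of_equiv (Subgroup.subgroupOfEquivOfLe hc.hYL).symm
  obtain ⟨hchar, h, hh⟩ := exists_conj_eq _ hYp hcard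
  refine ⟨hchar, (MulAut.conj h⁻¹).toMonoidHom.comp τ₀, ?_⟩
  have hval : ∀ x : ↥L, ((MulAut.conj h⁻¹).toMonoidHom.comp τ₀) x = h⁻¹ * τ₀ x * h := by
    intro x
    simp
  refine ⟨hc, ?_, ?_, ?_, ?_⟩
  · exact (MulAut.conj h⁻¹).surjective.comp hs
  · intro x
    rw [← hker x]
    constructor
    · intro h1
      have h2 : τ₀ x = h * ((MulAut.conj h⁻¹).toMonoidHom.comp τ₀ x) * h⁻¹ := by
        rw [hval]; group
      rw [h2, h1]; group
    · intro h1
      rw [hval, h1]; group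
  · intro x hx
    have h1 : τ₀ x ∈ (Y.subgroupOf L).map τ₀ := ⟨x, Subgroup.mem_subgroupOf.mpr hx, rfl⟩
    rw [hh] at h1
    obtain ⟨u, hu, hux⟩ := h1
    rw [hval, ← hux]
    have e1 : h⁻¹ * ((MulAut.conj h).toMonoidHom u) * h = u := by
      simp only [MulEquiv.coe_toMonoidHom, MulAut.conj_apply]
      group
    rw [e1]
    exact hu
  · intro t
    have h1 : h * upS t * h⁻¹ ∈ (Y.subgroupOf L).map τ₀ := by
      rw [hh]
      exact ⟨upS t, mem_US_iff.mpr ⟨t, rfl⟩, rfl⟩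
    obtain ⟨x, hx, hxt⟩ := h1
    refine ⟨x, Subgroup.mem_subgroupOf.mp hx, ?_⟩
    rw [hval, hxt]
    group

end SL2

/-- The main theorem. -/
theorem main {M L : Subgroup G} (hL : IsInFrakL p M L) (h : ↥L)
    (hnp : ¬ ∃ k : ℕ, orderOf (h : G) = p ^ k) : FixProp p (largestPReducedOf p M) L (h : G) := by
  have hc := lconf hL
  obtain ⟨h1, h2, h3, h4, h5, ⟨h6a, h6b⟩, h7⟩ := hL
  rcases h7 with ⟨F, _, _, hq, ⟨e⟩⟩ | ⟨rfl, F, _, _, m, hF, hq, ⟨e⟩⟩ | ⟨rfl, r, hr, hr2, ⟨e⟩⟩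
  · obtain ⟨hchar, τ, hτ⟩ := slConf hc (tauOf p e) (tauOf_surj e) (tauOf_ker e)
      (by rw [card_map_tauOf h1 e, hq])
    haveI := hchar
    exact hτ.final h hnp
  · apply inv_reduction hc (tauOf 2 e) (tauOf_surj e) (tauOf_ker e) _ h hnp
    intro d j hd hd1 hj hjj
    by_cases hm : 1 ≤ m
    · exact Cfsg.Agent.Lib.LocalStruct.FrakLFix3Sz.hR_of_one_le hm hF d j hd hd1 hj hjj
    · have hm0 : m = 0 := by omega
      subst hm0
      have hF2 : Fintype.card F = 2 := by simpa using hF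
      have he : ∀ x : F, x ^ (2 ^ (0 + 1)) = x := by
        intro x
        rcases Cfsg.Agent.Lib.LocalStruct.NormUniqSz2.F01 hF2 x with rfl | rfl <;> simp
      refine ⟨1, ?_⟩
      simp only [one_mul, inv_one, mul_one]
      exact Cfsg.Agent.Lib.LocalStruct.FrakLFix3S2.hR_of_card_two hF2 he d j hd hd1 hj hjj
  · apply inv_reduction hc (tauOf 2 e) (tauOf_surj e) (tauOf_ker e) _ h hnp
    intro d j hd hd1 hj hjj
    exact dihedral_hR hr hr2 d j hd hd1 hj hjj

end Cfsg.Agent.Lib.LocalStruct.FrakLFix4
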