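/-
Acting on the preimage of `F*(D / C)` when `O_p(D / C) = 1`.
-/
import Cfsg.Agent.Lib.LocalStruct.PReducedOf
import Cfsg.Agent.Lib.Components.GenFitting
import Cfsg.Agent.Lib.Components.Basic

set_option autoImplicit false

namespace Cfsg.Agent.Lib.LocalStruct.FstarQuot

open Subgroup Cfsg Cfsg.Agent.Lib.Core.Basic Cfsg.Agent.Lib.LocalStruct.Basic
  Cfsg.Agent.Lib.LocalStruct.Comm Cfsg.Agent.Lib.LocalStruct.PCoreOf
  Cfsg.Agent.Lib.LocalStruct.PReducedOf Cfsg.Agent.Lib.LocalStruct.PClosed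
open scoped commutatorElement

universe u

variable {p : ℕ} [Fact p.Prime]

/-- a `p`-element centralizing `F*(Γ)` lies in `O_p(Γ)` -/
theorem eq_one_of_mem_centralizer_gFit {Γ : Type u} [Group Γ] [Finite Γ] (h0 : pCore p Γ = ⊥) {x : Γ}
    (hxp : IsPElt p x) (hx : x ∈ centralizer (generalizedFittingSubgroup Γ : Set Γ)) : x = 1 := by
  set E := generalizedFittingSubgroup Γ with hE
  have hEn : E.Normal := Cfsg.Agent.Lib.Components.Basic.generalizedFitting_normal
  have hxE : x ∈ E := Cfsg.Agent.Lib.Components.GenFitting.centralizer_generalizedFitting_le hx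
  set A : Subgroup Γ := E ⊓ centralizer (E : Set Γ) with hA
  have hAn : A.Normal := by
    haveI := hEn
    exact Subgroup.normal_inf_normal _ _
  have hc : ∀ a b : A, a * b = b * a := by
    intro a b
    apply Subtype.ext
    exact (Subgroup.mem_centralizer_iff.mp a.2.2) b b.2.1 |>.symm
  have hcl : IsPClosed p A := isPClosed_of_comm hc
  have h1 : (⟨x, hxE, hx⟩ : A) ∈ pCore p A :=
    isPClosed_iff.mp hcl _ (IsPElt.of_injective A.subtype A.subtype_injective hxp)
  have h2 := map_pCore_le_of_isSubnormal (p := p) hAn.isSubnormal (Subgroup.mem_map_of_mem _ h1)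
  rw [h0, Subgroup.mem_bot] at h2
  exact h2

/-- a Sylow subgroup and a normal subgroup with `p`-group quotient generate -/
theorem sup_sylow_eq_top {K : Type u} [Group K] [Finite K] (N : Subgroup K) [hN : N.Normal]
    (h : ∀ x : K, ∃ k : ℕ, x ^ (p ^ k) ∈ N) (P : Sylow p K) : N ⊔ (P : Subgroup K) = ⊤ := by
  have hq : IsPGroup p (K ⧸ N) := by
    intro q
    obtain ⟨x, rfl⟩ := QuotientGroup.mk_surjective q
    obtain ⟨k, hk⟩ := h x
    exact ⟨k, by rw [← QuotientGroup.mk_pow]; exact (QuotientGroup.eq_one_iff _).mpr hk⟩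
  obtain ⟨n, hn⟩ := IsPGroup.iff_card.mp hq
  set X : Subgroup K := N ⊔ (P : Subgroup K) with hX
  have h1 : X.index ∣ N.index := Subgroup.index_dvd_of_le le_sup_left
  have h2 : X.index ∣ (P : Subgroup K).index := Subgroup.index_dvd_of_le le_sup_right
  have h3 : N.index = p ^ n := hn
  have h4 : ¬ p ∣ (P : Subgroup K).index := Sylow.not_dvd_index _
  rw [h3] at h1
  obtain ⟨m, -, hm⟩ := (Nat.dvd_prime_pow (Fact.out : p.Prime)).mp h1
  have hm0 : m = 0 := by
    by_contra hne
    apply h4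
    refine dvd_trans ?_ h2
    rw [hm]
    exact dvd_pow_self p hne
  rw [hm0, pow_zero] at hm
  exact Subgroup.index_eq_one.mp hm

section

variable {G : Type u} [Group G] [Finite G]

/-- the main lemma -/
theorem mem_of_isPElt {D C : Subgroup G} {V : Subgroup D} (hV : IsPReducedNormal p V)
    (hCV : centralizer (V : Set D) = C.subgroupOf D) [hn : (C.subgroupOf D).Normal]
    {F A : Subgroup G}
    (hF : F = ((generalizedFittingSubgroup (D ⧸ C.subgroupOf D)).comap
      (QuotientGroup.mk' (C.subgroupOf D))).map D.subtype)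
    (hA : F ≤ normalizer (A : Set G)) (h1 : ∀ a ∈ A ⊓ F, ∃ k : ℕ, a ^ (p ^ k) ∈ C)
    {x : G} (hxA : x ∈ A) (hxD : x ∈ D) (hxp : IsPElt p x) : x ∈ C := by
  classical
  subst hF
  set π := QuotientGroup.mk' (C.subgroupOf D) with hπ
  set E' : Subgroup D := (generalizedFittingSubgroup (D ⧸ C.subgroupOf D)).comap π with hE'
  haveI hEnΓ : (generalizedFittingSubgroup (D ⧸ C.subgroupOf D)).Normal :=
    Cfsg.Agent.Lib.Components.Basic.generalizedFitting_normal
  haveI hE'n : E'.Normal := Subgroup.Normal.comap hEnΓ _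
  have hΓ : pCore p (D ⧸ C.subgroupOf D) = ⊥ := by
    apply Cfsg.Agent.Lib.PReduced.Basic.pCore_quotient_eq_bot_of_forall
    intro D₁ hD₁ h
    have := Cfsg.Agent.Lib.PReduced.Basic.IsPReducedNormal_le_centralizer hV D₁ hD₁.isSubnormal
      (by rwa [hCV])
    rwa [hCV] at this
  set A' : Subgroup D := A.subgroupOf D ⊓ E' with hA'
  have hE'F : ∀ e : E', ((e : D) : G) ∈ E'.map D.subtype := fun e =>
    Subgroup.mem_map_of_mem _ e.2
  have hBn : (A'.subgroupOf E').Normal := by
    constructor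
    intro b hb e
    rw [Subgroup.mem_subgroupOf] at hb ⊢
    obtain ⟨hb1, hb2⟩ := hb
    refine ⟨?_, hE'n.conj_mem _ hb2 _⟩
    have hb3 : (((b : E') : D) : G) ∈ A := hb1
    show (((e * b * e⁻¹ : E') : D) : G) ∈ A
    exact conj_mem_of_mem_normalizer (hA (hE'F e)) hb3
  have hsub : A'.IsSubnormal := by
    have := hBn.isSubnormal.trans' hE'n.isSubnormal
    rwa [Subgroup.map_subgroupOf_eq_of_le inf_le_right] at this
  have hA'C : A' ≤ C.subgroupOf D := by
    rw [← hCV]
    apply Cfsg.Agent.Lib.PReduced.Basic.IsPReducedNormal_le_centralizer hV A' hsub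
    intro a ha
    have ha1 : (a : G) ∈ A := Subgroup.mem_subgroupOf.mp ha.1
    obtain ⟨k, hk⟩ := h1 a ⟨ha1, Subgroup.mem_map_of_mem _ ha.2⟩
    refine ⟨k, ?_⟩
    rw [hCV, Subgroup.mem_subgroupOf]
    simpa using hk
  have hcent : π ⟨x, hxD⟩ ∈ centralizer ((generalizedFittingSubgroup (D ⧸ C.subgroupOf D) :
      Subgroup _) : Set (D ⧸ C.subgroupOf D)) := by
    rw [Subgroup.mem_centralizer_iff]
    intro q hq
    obtain ⟨f, rfl⟩ := QuotientGroup.mk'_surjective (C.subgroupOf D) q
    have hfE : f ∈ E' := hq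
    have hc : ⁅(⟨x, hxD⟩ : D), f⁆ ∈ A' := by
      constructor
      · show ((⁅(⟨x, hxD⟩ : D), f⁆ : D) : G) ∈ A
        rw [commutatorElement_def]
        have e : (((⟨x, hxD⟩ : D) * f * (⟨x, hxD⟩ : D)⁻¹ * f⁻¹ : D) : G) =
            x * ((f : G) * x⁻¹ * (f : G)⁻¹) := by
          push_cast
          group
        rw [e]
        exact A.mul_mem hxA (conj_mem_of_mem_normalizer (hA (Subgroup.mem_map_of_mem _ hfE))
          (A.inv_mem hxA))
      · rw [commutatorElement_def]
        exact E'.mul_mem (hE'n.conj_mem f hfE _) (E'.inv_mem hfE)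
    have hc2 : π ⁅(⟨x, hxD⟩ : D), f⁆ = 1 := (QuotientGroup.eq_one_iff _).mpr (hA'C hc)
    rw [map_commutatorElement, commutatorElement_eq_one_iff_mul_comm] at hc2
    exact hc2.symm
  have hxp' : IsPElt p (⟨x, hxD⟩ : D) := IsPElt.of_injective D.subtype D.subtype_injective hxp
  have h3 := eq_one_of_mem_centralizer_gFit hΓ (hxp'.map π) hcent
  exact Subgroup.mem_subgroupOf.mp ((QuotientGroup.eq_one_iff _).mp h3)

end

end Cfsg.Agent.Lib.LocalStruct.FstarQuot
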