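/-
Existence of members of `𝔐_H` above members of `𝓛_H`, in the parabolic characteristic `p` case.
-/
import Cfsg.Agent.Lib.LocalStruct.FrakH2
import Cfsg.Agent.Lib.LocalStruct.FstarQuot
import Cfsg.Agent.S2824

set_option autoImplicit false

namespace Cfsg.Agent.Lib.LocalStruct.FrakMExist

open Subgroup Cfsg Cfsg.Agent.Lib.Core.Basic Cfsg.Agent.Lib.Core.Residual
  Cfsg.Agent.Lib.LocalStruct.Basic Cfsg.Agent.Lib.LocalStruct.Comm
  Cfsg.Agent.Lib.LocalStruct.WeakClosed Cfsg.Agent.Lib.LocalStruct.PCoreOf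
  Cfsg.Agent.Lib.LocalStruct.PClosed Cfsg.Agent.Lib.LocalStruct.Minimal
  Cfsg.Agent.Lib.LocalStruct.PReducedOf
open scoped commutatorElement

universe u

variable {H : Type u} [Group H] [Finite H] {p : ℕ} [Fact p.Prime]

/-- overgroups of a Sylow subgroup with nontrivial `O_p` lie in `𝓛_H` -/
theorem mem_charP_of_sylow_le (hP : IsOfParabolicCharacteristic p H) (T : Sylow p H) {X : Subgroup H}
    (hTX : (T : Subgroup H) ≤ X) (hO : pCore p ↥X ≠ ⊥) : X ∈ charPSubgroups p H := by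
  refine ⟨hO, ?_⟩
  change centralizer ((pCoreOf p X : Subgroup H) : Set H) ≤ pCoreOf p X
  set R : Subgroup H := pCoreOf p X with hR
  have hRp : IsPGroup p R := isPGroup_pCoreOf X
  have hR1 : R ≠ ⊥ := Large2.pCoreOf_ne_bot hO
  have hXN : X ≤ normalizer (R : Set H) := le_normalizer_pCoreOf X
  have h := hP R hRp hR1 ⟨T, hTX.trans hXN⟩
  set N : Subgroup H := normalizer (R : Set H) with hN
  have hR₁T : pCoreOf p N ≤ (T : Subgroup H) := pCoreOf_le_sylow T (hTX.trans hXN)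
  have hR₁ : pCoreOf p N ≤ R :=
    le_pCoreOf (hR₁T.trans hTX) (hXN.trans (le_normalizer_pCoreOf N)) (isPGroup_pCoreOf N)
  intro x hx
  have hxN : x ∈ N := Subgroup.centralizer_le_normalizer _ hx
  have h2 : (⟨x, hxN⟩ : N) ∈ centralizer (pCore p N : Set N) :=
    Large2.mem_centralizer_pCore_iff.mpr (Subgroup.centralizer_le (by exact_mod_cast hR₁) hx)
  exact hR₁ ⟨_, h h2, rfl⟩

/-- `Y_A ≤ Y_B` for `T ≤ A ≤ B`, `B` of characteristic `p`. -/
theorem largestPReducedOf_mono (T : Sylow p H) {A B : Subgroup H} (hTA : (T : Subgroup H) ≤ A)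
    (hAB : A ≤ B) (hB : centralizer (pCore p ↥B : Set ↥B) ≤ pCore p ↥B) :
    largestPReducedOf p A ≤ largestPReducedOf p B := by
  classical
  set V : Subgroup H := largestPReducedOf p A with hV
  set O : Subgroup H := pCoreOf p B with hO
  have hVA : V ≤ A := largestPReducedOf_le A
  have hOT : O ≤ (T : Subgroup H) := pCoreOf_le_sylow T (hTA.trans hAB)
  have hOA : O ≤ A := hOT.trans hTA
  have hBO : B ≤ normalizer (O : Set H) := le_normalizer_pCoreOf B
  have hOOA : O ≤ pCoreOf p A := le_pCoreOf hOA (hAB.trans hBO) (isPGroup_pCoreOf B)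
  have hOV : O ≤ centralizer (V : Set H) := hOOA.trans (pCoreOf_le_centralizer A)
  have hVO' : V ≤ centralizer (O : Set H) := by
    intro v hv
    rw [Subgroup.mem_centralizer_iff]
    intro o ho
    exact ((Subgroup.mem_centralizer_iff.mp (hOV ho)) v hv).symm
  have hBc := CharPOf.charP_iff.mp hB
  have hVO : V ≤ O := fun v hv => hBc ⟨hAB (hVA hv), hVO' hv⟩
  set W : Subgroup H := ⨆ b : ↥B, V.map (MulAut.conj (b : H)).toMonoidHom with hW
  have hWB : W ≤ B := iSup_conj_le (hVA.trans hAB)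
  have hVW : V ≤ W := le_iSup_conj V B
  have hBW : B ≤ normalizer (W : Set H) := le_normalizer_iSup_conj V B
  have hconjO : ∀ b : ↥B, O.map (MulAut.conj (b : H)).toMonoidHom = O := fun b =>
    mem_normalizer_iff_map.mp (hBO b.2)
  have hWO : W ≤ O := iSup_le fun b => by
    have := map_conj_mono (b : H) hVO
    rwa [hconjO b] at this
  have hWC : W ≤ centralizer (O : Set H) := iSup_le fun b => by
    have := map_conj_mono (b : H) hVO'
    rwa [← centralizer_map_conj, hconjO b] at this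
  have hcomm : ∀ x ∈ W, ∀ y ∈ W, x * y = y * x := fun x hx y hy =>
    ((Subgroup.mem_centralizer_iff.mp (hWC hx)) y (hWO hy)).symm
  have hVe := isElementaryAbelian_largestPReducedOf (p := p) A
  have he : IsElementaryAbelian p W := by
    refine ⟨⟨⟨fun a b => Subtype.ext (hcomm a a.2 b b.2)⟩⟩, ?_⟩
    intro x hx
    let Ω : Subgroup H :=
      { carrier := {y | y ∈ W ∧ y ^ p = 1}
        one_mem' := ⟨W.one_mem, one_pow _⟩
        mul_mem' := by
          rintro a b ⟨ha, ha'⟩ ⟨hb, hb'⟩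
          refine ⟨W.mul_mem ha hb, ?_⟩
          have hc : Commute a b := hcomm a ha b hb
          rw [hc.mul_pow, ha', hb', one_mul]
        inv_mem' := by
          rintro a ⟨ha, ha'⟩
          exact ⟨W.inv_mem ha, by rw [inv_pow, ha', inv_one]⟩ }
    have hΩ : W ≤ Ω := by
      apply iSup_le
      rintro b _ ⟨v, hv, rfl⟩
      refine ⟨?_, ?_⟩
      · exact (le_iSup (fun k : ↥B => V.map (MulAut.conj (k : H)).toMonoidHom) b) ⟨v, hv, rfl⟩
      · simp only [MulEquiv.coe_toMonoidHom, MulAut.conj_apply, conj_pow]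
        rw [hVe.2 v hv]
        simp
    exact (hΩ hx).2
  refine hVW.trans (le_largestPReducedOf hWB (isPReducedNormal_subgroupOf_of hWB hBW he ?_))
  intro D hDB hBD hDp
  -- the key step: `D ≤ C(V)`
  set Z₀ : Subgroup H := B ⊓ centralizer (W : Set H) with hZ₀
  have hBCW : B ≤ normalizer ((centralizer (W : Set H) : Subgroup H) : Set H) := by
    intro b hb
    rw [mem_normalizer_iff_map, ← centralizer_map_conj, mem_normalizer_iff_map.mp (hBW hb)]
  have hBZ₀ : B ≤ normalizer (Z₀ : Set H) := fun b hb =>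
    FrakH2.mem_normalizer_inf (Subgroup.le_normalizer hb) (hBCW hb)
  set D₁ : Subgroup H := Z₀ ⊔ D with hD₁
  have hBD₁ : B ≤ normalizer (D₁ : Set H) := fun b hb =>
    FrakH2.mem_normalizer_sup (hBZ₀ hb) (hBD hb)
  have hD₁B : D₁ ≤ B := sup_le inf_le_left hDB
  have hZ₀D₁ : Z₀ ≤ D₁ := le_sup_left
  have hD₁p : ∀ x ∈ D₁, ∃ k : ℕ, x ^ (p ^ k) ∈ Z₀ := by
    intro x hx
    obtain ⟨z, hz, d, hd, rfl⟩ := mem_sup_of_le_normalizer (hDB.trans hBZ₀) hx
    obtain ⟨k, hk⟩ := hDp d hd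
    refine ⟨k, ?_⟩
    -- pass to the quotient of `D₁` by `Z₀`
    have hn : (Z₀.subgroupOf D₁).Normal :=
      (Subgroup.normal_subgroupOf_iff_le_normalizer hZ₀D₁).mpr (hD₁B.trans hBZ₀)
    have hzD : z ∈ D₁ := hZ₀D₁ hz
    have hdD : d ∈ D₁ := (le_sup_right : D ≤ D₁) hd
    have hdpow : d ^ (p ^ k) ∈ Z₀ :=
      ⟨B.pow_mem (hDB hd) _, hk⟩
    have e1 : ((⟨z, hzD⟩ : D₁) : D₁ ⧸ Z₀.subgroupOf D₁) = 1 :=
      (QuotientGroup.eq_one_iff _).mpr (by simpa [Subgroup.mem_subgroupOf] using hz)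
    have e2 : (((⟨d, hdD⟩ : D₁) ^ (p ^ k) : D₁) : D₁ ⧸ Z₀.subgroupOf D₁) = 1 :=
      (QuotientGroup.eq_one_iff _).mpr (by simpa [Subgroup.mem_subgroupOf] using hdpow)
    have e3 : (((⟨z, hzD⟩ * ⟨d, hdD⟩ : D₁) ^ (p ^ k) : D₁) : D₁ ⧸ Z₀.subgroupOf D₁) = 1 := by
      rw [QuotientGroup.mk_pow, QuotientGroup.mk_mul, e1, one_mul, ← QuotientGroup.mk_pow, e2]
    have := (QuotientGroup.eq_one_iff _).mp e3
    simpa [Subgroup.mem_subgroupOf] using this
  have hTD₁ : (T : Subgroup H) ≤ normalizer (D₁ : Set H) := (hTA.trans hAB).trans hBD₁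
  obtain ⟨S₀, hS₀⟩ := exists_sylow_inf T hTD₁
  have hnZ : (Z₀.subgroupOf D₁).Normal :=
    (Subgroup.normal_subgroupOf_iff_le_normalizer hZ₀D₁).mpr (hD₁B.trans hBZ₀)
  have htop := FstarQuot.sup_sylow_eq_top (p := p) (Z₀.subgroupOf D₁)
    (fun x => by
      obtain ⟨k, hk⟩ := hD₁p x x.2
      exact ⟨k, by simpa [Subgroup.mem_subgroupOf] using hk⟩) S₀
  have hD₁eq : D₁ = Z₀ ⊔ ((T : Subgroup H) ⊓ D₁) := by
    have := congrArg (fun X : Subgroup D₁ => X.map D₁.subtype) htop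
    simp only [Subgroup.map_sup, hS₀, Subgroup.map_subgroupOf_eq_of_le hZ₀D₁] at this
    rw [← MonoidHom.range_eq_map, Subgroup.range_subtype] at this
    exact this.symm
  have hZ₀V : Z₀ ≤ centralizer (V : Set H) :=
    inf_le_right.trans (Subgroup.centralizer_le (by exact_mod_cast hVW))
  have hA₁ : A ⊓ D₁ ≤ centralizer (V : Set H) := by
    apply le_centralizer_of_isPReducedNormal hVA (isPReducedNormal_largestPReducedOf A) inf_le_left
    · exact fun a ha => FrakH2.mem_normalizer_inf (Subgroup.le_normalizer ha) (hBD₁ (hAB ha))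
    · intro x hx
      obtain ⟨k, hk⟩ := hD₁p x hx.2
      exact ⟨k, hZ₀V hk⟩
  have hD₁V : D₁ ≤ centralizer (V : Set H) := by
    rw [hD₁eq]
    exact sup_le hZ₀V ((inf_le_inf_right _ hTA).trans hA₁)
  -- conclude for `W`
  have hDV : D ≤ centralizer (V : Set H) := (le_sup_right : D ≤ D₁).trans hD₁V
  intro x hx
  rw [Subgroup.mem_centralizer_iff]
  have hWx : W ≤ centralizer ({x} : Set H) := by
    apply iSup_le
    rintro b _ ⟨v, hv, rfl⟩
    rw [Subgroup.mem_centralizer_singleton_iff]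
    have hbx : (b : H)⁻¹ * x * (b : H) ∈ D := conj_inv_mem_of_mem_normalizer (hBD b.2) hx
    have h1 := (Subgroup.mem_centralizer_iff.mp (hDV hbx)) v hv
    simp only [MulEquiv.coe_toMonoidHom, MulAut.conj_apply]
    have h2 : v * ((b : H)⁻¹ * x * b) = ((b : H)⁻¹ * x * b) * v := h1
    calc (b : H) * v * (b : H)⁻¹ * x
        = (b : H) * (v * ((b : H)⁻¹ * x * b)) * (b : H)⁻¹ := by group
      _ = (b : H) * (((b : H)⁻¹ * x * b) * v) * (b : H)⁻¹ := by rw [h2]
      _ = x * ((b : H) * v * (b : H)⁻¹) := by group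
  intro w hw
  exact (Subgroup.mem_centralizer_singleton_iff.mp (hWx hw))

omit [Finite H] [Fact p.Prime] in
/-- index against a normal supplement -/
theorem index_eq_relIndex_of_sup_eq_top [Finite H] (K N : Subgroup H) [N.Normal] (h : K ⊔ N = ⊤) :
    K.index = K.relIndex N := by
  have h1 : N.relIndex K = N.index := by
    rw [← Subgroup.relIndex_sup_right K N, h, Subgroup.relIndex_top_right]
  have hx1 := Subgroup.relIndex_mul_relIndex (⊥ : Subgroup H) (N ⊓ K) K bot_le inf_le_right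
  have hx2 := Subgroup.relIndex_mul_relIndex (⊥ : Subgroup H) (K ⊓ N) N bot_le inf_le_right
  have hx3 := Subgroup.relIndex_mul_relIndex (⊥ : Subgroup H) K ⊤ bot_le le_top
  have hx4 := Subgroup.relIndex_mul_relIndex (⊥ : Subgroup H) N ⊤ bot_le le_top
  rw [Subgroup.inf_relIndex_right] at hx1 hx2
  rw [inf_comm] at hx2
  rw [Subgroup.relIndex_top_right] at hx3 hx4
  rw [h1] at hx1
  have hpos1 : 0 < (⊥ : Subgroup H).relIndex (N ⊓ K) := by
    rw [Subgroup.relIndex_bot_left]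
    exact Nat.card_pos
  have hpos2 : 0 < N.index := Nat.pos_of_ne_zero Subgroup.index_ne_zero_of_finite
  have e : (⊥ : Subgroup H).relIndex (N ⊓ K) * N.index * K.index =
      (⊥ : Subgroup H).relIndex (N ⊓ K) * K.relIndex N * N.index := by
    rw [hx1, hx2, hx3, hx4]
  have e' : ((⊥ : Subgroup H).relIndex (N ⊓ K) * N.index) * K.index =
      ((⊥ : Subgroup H).relIndex (N ⊓ K) * N.index) * K.relIndex N := by
    rw [e]
    ring
  exact Nat.eq_of_mul_eq_mul_left (Nat.mul_pos hpos1 hpos2) e'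

/-- a subgroup with a normal supplement `N`, containing a `p`-subgroup of `p'`-index in `N`, has a
conjugate containing any given `p`-subgroup -/
theorem exists_conj_ge_of_sup_eq_top {K N : Subgroup H} [N.Normal] (h : K ⊔ N = ⊤)
    {S : Subgroup H} (hSK : S ≤ K) (hSN : S ≤ N) (hS : ¬ p ∣ S.relIndex N)
    {R : Subgroup H} (hR : IsPGroup p R) :
    ∃ m : H, R ≤ K.map (MulAut.conj m).toMonoidHom := by
  have h1 : ¬ p ∣ K.index := by
    rw [index_eq_relIndex_of_sup_eq_top K N h]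
    have h2 : S ⊓ N = S := inf_eq_left.mpr hSN
    have h3 : K.relIndex N ∣ S.relIndex N := Subgroup.relIndex_dvd_of_le_left N hSK
    exact fun hd => hS (hd.trans h3)
  obtain ⟨q, hq⟩ := hR.nonempty_fixed_point_of_prime_not_dvd_card (H ⧸ K) h1
  obtain ⟨m, rfl⟩ := QuotientGroup.mk_surjective q
  refine ⟨m, ?_⟩
  intro r hr
  have h2 := hq ⟨r, hr⟩
  have h3 : ((r * m : H) : H ⧸ K) = (m : H ⧸ K) := h2
  rw [QuotientGroup.eq] at h3
  refine ⟨(m⁻¹ * r⁻¹ * m)⁻¹, K.inv_mem ?_, ?_⟩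
  · simpa [mul_assoc] using h3
  · simp only [MulEquiv.coe_toMonoidHom, MulAut.conj_apply]
    group

/-- `O_p(X) ≠ 1` from a nontrivial normal `p`-subgroup -/
theorem pCore_ne_bot_of {R X : Subgroup H} (hRX : R ≤ X) (hXR : X ≤ normalizer (R : Set H))
    (hRp : IsPGroup p R) (hR1 : R ≠ ⊥) : pCore p ↥X ≠ ⊥ := by
  intro hb
  apply hR1
  have h1 := le_pCoreOf hRX hXR hRp
  rw [pCoreOf_eq_map, hb, Subgroup.map_bot] at h1
  exact le_bot_iff.mp h1

omit [Finite H] [Fact p.Prime] in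
theorem charP_of_mem {X : Subgroup H} (hX : X ∈ charPSubgroups p H) :
    centralizer (pCore p ↥X : Set ↥X) ≤ pCore p ↥X := by
  intro x hx
  have h1 : (x : H) ∈ centralizer ((pCoreOf p X : Subgroup H) : Set H) := by
    rw [Subgroup.mem_centralizer_iff]
    rintro _ ⟨y, hy, rfl⟩
    exact congrArg Subtype.val (Subgroup.mem_centralizer_iff.mp hx y hy)
  obtain ⟨y, hy, hyx⟩ := hX.2 h1
  have : y = x := Subtype.ext hyx
  exact this ▸ hy

/-- the Frattini condition for a minimal supplement -/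
theorem frattini_cond (T : Sylow p H) {Cc M₁ : Subgroup H} (hTM₁ : (T : Subgroup H) ≤ M₁)
    (hM₁Cc : M₁ ≤ normalizer (Cc : Set H))
    (hM₁T₀ : M₁ ≤ normalizer (((T : Subgroup H) ⊓ Cc : Subgroup H) : Set H))
    (hmin : ∀ X : Subgroup H, (T : Subgroup H) ≤ X → X ≤ M₁ → M₁ ≤ X ⊔ Cc → X = M₁) :
    ((M₁ ⊓ Cc).subgroupOf M₁).map (QuotientGroup.mk' (pCore p ↥M₁)) ≤
      frattini (↥M₁ ⧸ pCore p ↥M₁) := by
  unfold frattini Order.radical
  refine le_iInf₂ fun Kb hKb => ?_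
  by_contra hc
  set P : Subgroup ↥M₁ := pCore p ↥M₁ with hP
  set K' : Subgroup ↥M₁ := Kb.comap (QuotientGroup.mk' P) with hK'
  have hKc : IsCoatom K' := isCoatom_comap_mk _ hKb
  set C₁ : Subgroup ↥M₁ := (M₁ ⊓ Cc).subgroupOf M₁ with hC₁
  have hn : C₁.Normal := by
    apply (Subgroup.normal_subgroupOf_iff_le_normalizer inf_le_left).mpr
    exact fun a ha => FrakH2.mem_normalizer_inf (Subgroup.le_normalizer ha) (hM₁Cc ha)
  have hnot : ¬ C₁ ≤ K' := fun h => hc ((Subgroup.map_le_iff_le_comap).mpr h)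
  have hsup : K' ⊔ C₁ = ⊤ := by
    apply hKc.2
    apply lt_of_le_of_ne le_sup_left
    intro h
    exact hnot (by rw [h]; exact le_sup_right)
  set T₁ : Sylow p ↥M₁ := T.subtype hTM₁ with hT₁
  have hT₀O : (T : Subgroup H) ⊓ Cc ≤ pCoreOf p M₁ :=
    le_pCoreOf (inf_le_left.trans hTM₁) hM₁T₀ (T.isPGroup'.to_le inf_le_left)
  have hS'K' : (T₁ : Subgroup ↥M₁) ⊓ C₁ ≤ K' := by
    rintro x ⟨hx1, hx2⟩
    have hx1' : (x : H) ∈ (T : Subgroup H) := by
      have : x ∈ (T : Subgroup H).subgroupOf M₁ := by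
        rwa [hT₁, Sylow.coe_subtype] at hx1
      simpa [Subgroup.mem_subgroupOf] using this
    have hx2' : (x : H) ∈ Cc := by
      have : (x : H) ∈ M₁ ⊓ Cc := by simpa [hC₁, Subgroup.mem_subgroupOf] using hx2
      exact this.2
    obtain ⟨y, hy, hyx⟩ := hT₀O ⟨hx1', hx2'⟩
    have hyx' : y = x := Subtype.ext hyx
    rw [hK', Subgroup.mem_comap]
    have : (QuotientGroup.mk' P) x = 1 := by
      rw [QuotientGroup.mk'_apply, QuotientGroup.eq_one_iff, ← hyx']
      exact hy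
    rw [this]
    exact Kb.one_mem
  have hS : ¬ p ∣ ((T₁ : Subgroup ↥M₁) ⊓ C₁).relIndex C₁ := by
    rw [Subgroup.inf_relIndex_right]
    exact not_dvd_relIndex_of_le_normalizer T₁ (by rw [Subgroup.normalizer_eq_top]; exact le_top)
  obtain ⟨m, hm⟩ := exists_conj_ge_of_sup_eq_top hsup hS'K' inf_le_right hS T₁.isPGroup'
  set K₂ : Subgroup H := (K'.map (MulAut.conj m).toMonoidHom).map M₁.subtype with hK₂
  have hTK₂ : (T : Subgroup H) ≤ K₂ := by
    have := Subgroup.map_mono (f := M₁.subtype) hm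
    rwa [hT₁, Sylow.coe_subtype, Subgroup.map_subgroupOf_eq_of_le hTM₁] at this
  have hK₂M₁ : K₂ ≤ M₁ := by
    rintro _ ⟨x, -, rfl⟩
    exact x.2
  have htop : K'.map (MulAut.conj m).toMonoidHom ⊔ C₁ = ⊤ := by
    have h1 := congrArg (fun X : Subgroup ↥M₁ => X.map (MulAut.conj m).toMonoidHom) hsup
    simp only [Subgroup.map_sup] at h1
    rw [mem_normalizer_iff_map.mp (show m ∈ normalizer ((C₁ : Subgroup ↥M₁) : Set ↥M₁) by
      rw [Subgroup.normalizer_eq_top]; trivial)] at h1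
    rw [h1]
    apply Subgroup.map_top_of_surjective
    exact (MulAut.conj m).surjective
  have hle : M₁ ≤ K₂ ⊔ Cc := by
    have h1 := congrArg (fun X : Subgroup ↥M₁ => X.map M₁.subtype) htop
    simp only [Subgroup.map_sup] at h1
    rw [Subgroup.map_subgroupOf_eq_of_le inf_le_left, ← MonoidHom.range_eq_map,
      Subgroup.range_subtype] at h1
    rw [← h1]
    exact sup_le_sup le_rfl inf_le_right
  have h2 := hmin K₂ hTK₂ hK₂M₁ hle
  apply hKc.1
  rw [eq_top_iff]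
  intro x _
  have hxm : ((m * x * m⁻¹ : ↥M₁) : H) ∈ K₂ := by
    rw [h2]
    exact (m * x * m⁻¹).2
  obtain ⟨y, ⟨z, hz, rfl⟩, hyx⟩ := hxm
  have h3 : (MulAut.conj m).toMonoidHom z = m * x * m⁻¹ := Subtype.ext hyx
  have h4 : z = x := by
    simp only [MulEquiv.coe_toMonoidHom, MulAut.conj_apply] at h3
    exact mul_left_cancel (mul_right_cancel h3)
  exact h4 ▸ hz

/-- A minimal supplement below a member of `𝓜_H`. -/
theorem exists_min_below (hP : IsOfParabolicCharacteristic p H) (T : Sylow p H) {Mt : Subgroup H}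
    (hTM : (T : Subgroup H) ≤ Mt) (hM : Mt ∈ maxCharPSubgroups p H) :
    ∃ M₁ : Subgroup H, (T : Subgroup H) ≤ M₁ ∧ M₁ ≤ Mt ∧ M₁ ∈ charPSubgroups p H ∧
      largestPReducedOf p M₁ = largestPReducedOf p Mt ∧
      M₁ ⊔ centralizer ((largestPReducedOf p Mt : Subgroup H) : Set H) = Mt ∧
      (∀ x ∈ Mt, ∃ m ∈ M₁, ∃ c ∈ centralizer ((largestPReducedOf p Mt : Subgroup H) : Set H), x = m * c) ∧
      IsPClosed p ↥(M₁ ⊓ centralizer ((largestPReducedOf p Mt : Subgroup H) : Set H)) ∧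
      ((M₁ ⊓ centralizer ((largestPReducedOf p Mt : Subgroup H) : Set H)).subgroupOf M₁).map
        (QuotientGroup.mk' (pCore p ↥M₁)) ≤ frattini (↥M₁ ⧸ pCore p ↥M₁) := by
  set Yt : Subgroup H := largestPReducedOf p Mt with hYt
  set Cc : Subgroup H := centralizer (Yt : Set H) with hCc
  set T₀ : Subgroup H := (T : Subgroup H) ⊓ Cc with hT₀
  have hYne : Yt ≠ ⊥ := FrakH2.largestPReducedOf_ne_bot T hTM hM.1
  have hYp : IsPGroup p Yt := isPGroup_largestPReducedOf Mt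
  have hMY : Mt ≤ normalizer (Yt : Set H) := le_normalizer_largestPReducedOf Mt
  have hNY : normalizer (Yt : Set H) ∈ charPSubgroups p H :=
    mem_charP_of_sylow_le hP T (hTM.trans hMY)
      (pCore_ne_bot_of Subgroup.le_normalizer le_rfl hYp hYne)
  have hNeq : normalizer (Yt : Set H) = Mt := hM.2 _ hNY hMY
  have hCM : Cc ≤ Mt := by
    rw [← hNeq]
    exact Subgroup.centralizer_le_normalizer _
  have hMC : Mt ≤ normalizer (Cc : Set H) := le_normalizer_centralizer_largestPReducedOf Mt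
  obtain ⟨S, hS⟩ := exists_sylow_inf T (hTM.trans hMC)
  have hFr : Mt ≤ (Mt ⊓ normalizer (T₀ : Set H)) ⊔ Cc := le_sup_of_frattini S hS hCM hMC
  have hTT₀ : (T : Subgroup H) ≤ normalizer (T₀ : Set H) := le_normalizer_inf (hTM.trans hMC)
  let 𝒮 : Set (Subgroup H) :=
    {X | (T : Subgroup H) ≤ X ∧ X ≤ Mt ∧ X ≤ normalizer (T₀ : Set H) ∧ Mt ≤ X ⊔ Cc}
  have h𝒮 : 𝒮.Nonempty := ⟨Mt ⊓ normalizer (T₀ : Set H), le_inf hTM hTT₀, inf_le_left, inf_le_right, hFr⟩
  obtain ⟨M₁, hM₁⟩ := (Set.toFinite 𝒮).exists_minimal h𝒮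
  obtain ⟨⟨hTM₁, hM₁M, hM₁T₀, hM₁C⟩, hmin⟩ := hM₁
  have hYT₀ : Yt ≤ T₀ := by
    have h1 : Yt ≤ (T : Subgroup H) := (largestPReducedOf_le_pCoreOf Mt).trans (pCoreOf_le_sylow T hTM)
    have h2 : Yt ≤ Cc := (largestPReducedOf_le_pCoreOf Mt).trans (pCoreOf_le_centralizer Mt)
    exact le_inf h1 h2
  have hT₀p : IsPGroup p T₀ := T.isPGroup'.to_le inf_le_left
  have hT₀1 : T₀ ≠ ⊥ := by
    intro hb
    rw [hb] at hYT₀
    exact hYne (le_bot_iff.mp hYT₀)
  have hM₁L : M₁ ∈ charPSubgroups p H :=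
    mem_charP_of_sylow_le hP T hTM₁ (pCore_ne_bot_of (inf_le_left.trans hTM₁) hM₁T₀ hT₀p hT₀1)
  have hsup : M₁ ⊔ Cc = Mt := le_antisymm (sup_le hM₁M hCM) hM₁C
  have h2824 := Cfsg.Agent.S2824.result T Mt M₁ hTM hTM₁ (charP_of_mem hM.1) (charP_of_mem hM₁L)
    T₀ rfl (by rw [hsup, sup_eq_left.mpr hCM]) (M₁ ⊓ normalizer (T₀ : Set H)) rfl
  rw [inf_eq_left.mpr hM₁T₀] at h2824
  have hM₁CN : M₁ ≤ normalizer (Cc : Set H) := hM₁M.trans hMC
  refine ⟨M₁, hTM₁, hM₁M, hM₁L, h2824.1, hsup, ?_, ?_, ?_⟩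
  · intro x hx
    have hx' : x ∈ Cc ⊔ M₁ := by rw [sup_comm, hsup]; exact hx
    exact mem_sup_of_le_normalizer' hM₁CN hx'
  · have hTK : (T : Subgroup H) ≤ normalizer ((M₁ ⊓ Cc : Subgroup H) : Set H) := fun t ht =>
      FrakH2.mem_normalizer_inf (Subgroup.le_normalizer (hTM₁ ht)) (hM₁CN (hTM₁ ht))
    obtain ⟨S₁, hS₁⟩ := exists_sylow_inf T hTK
    have hS₁' : (S₁ : Subgroup ↥(M₁ ⊓ Cc)).map (M₁ ⊓ Cc).subtype = T₀ := by
      rw [hS₁, hT₀, ← inf_assoc, inf_eq_left.mpr hTM₁]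
    refine isPClosed_of_normal_sylow S₁ ⟨?_⟩
    intro n hn g
    have hn' : (n : H) ∈ T₀ := by
      rw [← hS₁']
      exact ⟨n, hn, rfl⟩
    have h3 := conj_mem_of_mem_normalizer (hM₁T₀ g.2.1) hn'
    rw [← hS₁'] at h3
    obtain ⟨y, hy, hyx⟩ := h3
    have : y = g * n * g⁻¹ := Subtype.ext hyx
    exact this ▸ hy
  · apply frattini_cond T hTM₁ hM₁CN hM₁T₀
    intro X hTX hXM₁ hXC
    by_contra hne
    have hlt : X < M₁ := lt_of_le_of_ne hXM₁ hne
    have hX𝒮 : X ∈ 𝒮 := ⟨hTX, hXM₁.trans hM₁M, hXM₁.trans hM₁T₀, by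
      rw [← hsup]
      exact sup_le hXC le_sup_right⟩
    exact absurd (le_antisymm hXM₁ (hmin hX𝒮 hXM₁)) hne

/-- the inductive step towards a member of `𝔐_H` -/
theorem exists_frakM_aux (hP : IsOfParabolicCharacteristic p H) (T : Sylow p H) {Y₀ L : Subgroup H}
    (n : ℕ) : ∀ X : Subgroup H, Nat.card H - Nat.card (largestPReducedOf p X) = n →
      (T : Subgroup H) ≤ X → X ∈ charPSubgroups p H → Y₀ ≤ largestPReducedOf p X →
      (∀ l ∈ L, ∃ m ∈ X, ∃ c ∈ centralizer (Y₀ : Set H), l = m * c) →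
      ∃ M : Subgroup H, (T : Subgroup H) ≤ M ∧ IsInFrakM p M ∧ Y₀ ≤ largestPReducedOf p M ∧
        ∀ l ∈ L, ∃ m ∈ M, ∃ c ∈ centralizer (Y₀ : Set H), l = m * c := by
  induction n using Nat.strong_induction_on with
  | _ n ih =>
  intro X hn hTX hX hYX hLX
  obtain ⟨Mt, hMt, hXMt⟩ := FrakM.exists_max_ge hX
  have hTMt : (T : Subgroup H) ≤ Mt := hTX.trans hXMt
  have hYXMt : largestPReducedOf p X ≤ largestPReducedOf p Mt :=
    largestPReducedOf_mono T hTX hXMt (charP_of_mem hMt.1)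
  have hY₀Mt : Y₀ ≤ largestPReducedOf p Mt := hYX.trans hYXMt
  have hCC : centralizer ((largestPReducedOf p Mt : Subgroup H) : Set H) ≤ centralizer (Y₀ : Set H) :=
    Subgroup.centralizer_le (by exact_mod_cast hY₀Mt)
  obtain ⟨M₁, hTM₁, hM₁M, hM₁L, hM₁Y, hsup, hprod, hclosed, hfr⟩ := exists_min_below hP T hTMt hMt
  have hLM₁ : ∀ l ∈ L, ∃ m ∈ M₁, ∃ c ∈ centralizer (Y₀ : Set H), l = m * c := by
    intro l hl
    obtain ⟨x, hx, c, hc, rfl⟩ := hLX l hl
    obtain ⟨m, hm, c', hc', rfl⟩ := hprod x (hXMt hx)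
    exact ⟨m, hm, c' * c, Subgroup.mul_mem _ (hCC hc') hc, by group⟩
  by_cases huniq : ∀ X' ∈ maxCharPSubgroups p H, M₁ ≤ X' → X' = Mt
  · refine ⟨M₁, hTM₁, ?_, by rw [hM₁Y]; exact hY₀Mt, hLM₁⟩
    have hsup' : M₁ ⊔ centralizer ((largestPReducedOf p M₁ : Subgroup H) : Set H) = Mt := by
      rw [hM₁Y]; exact hsup
    refine ⟨hM₁L, ?_, ?_, ?_, ?_, ?_⟩
    · rw [hsup']; exact hMt
    · rw [hsup']; exact huniq
    · rw [hsup']; exact hM₁Y
    · rw [hM₁Y]; exact hclosed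
    · rw [hM₁Y]; exact hfr
  · push Not at huniq
    obtain ⟨X', hX', hM₁X', hne⟩ := huniq
    have hTX' : (T : Subgroup H) ≤ X' := hTM₁.trans hM₁X'
    have hle : largestPReducedOf p Mt ≤ largestPReducedOf p X' := by
      rw [← hM₁Y]
      exact largestPReducedOf_mono T hTM₁ hM₁X' (charP_of_mem hX'.1)
    have hneY : largestPReducedOf p Mt ≠ largestPReducedOf p X' := by
      intro he
      apply hne
      have h1 : normalizer ((largestPReducedOf p Mt : Subgroup H) : Set H) ∈ charPSubgroups p H :=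
        mem_charP_of_sylow_le hP T (hTMt.trans (le_normalizer_largestPReducedOf Mt))
          (pCore_ne_bot_of Subgroup.le_normalizer le_rfl (isPGroup_largestPReducedOf Mt)
            (FrakH2.largestPReducedOf_ne_bot T hTMt hMt.1))
      have h2 : normalizer ((largestPReducedOf p Mt : Subgroup H) : Set H) = Mt :=
        hMt.2 _ h1 (le_normalizer_largestPReducedOf Mt)
      have h3 : X' ≤ Mt := by
        rw [← h2, he]
        exact le_normalizer_largestPReducedOf X'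
      exact (hX'.2 _ hMt.1 h3).symm
    have hlt : Nat.card (largestPReducedOf p X : Subgroup H) < Nat.card (largestPReducedOf p X' : Subgroup H) := by
      have h1 : Nat.card (largestPReducedOf p X : Subgroup H) ≤ Nat.card (largestPReducedOf p Mt : Subgroup H) :=
        Subgroup.card_le_of_le hYXMt
      have h2 : Nat.card (largestPReducedOf p Mt : Subgroup H) < Nat.card (largestPReducedOf p X' : Subgroup H) := by
        have hlt' : largestPReducedOf p Mt < largestPReducedOf p X' := lt_of_le_of_ne hle hneY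
        have h3 := Set.ncard_lt_ncard (s := ((largestPReducedOf p Mt : Subgroup H) : Set H))
          (t := ((largestPReducedOf p X' : Subgroup H) : Set H))
          hlt' (Set.toFinite _)
        rwa [← Nat.card_coe_set_eq, ← Nat.card_coe_set_eq] at h3
      omega
    have hcard : Nat.card (largestPReducedOf p X' : Subgroup H) ≤ Nat.card H := by
      have := Subgroup.card_le_of_le (le_top : largestPReducedOf p X' ≤ ⊤)
      rwa [Subgroup.card_top] at this
    refine ih (Nat.card H - Nat.card (largestPReducedOf p X')) ?_ X' rfl hTX' hX'.1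
      (hY₀Mt.trans hle) ?_
    · omega
    · intro l hl
      obtain ⟨m, hm, c, hc, rfl⟩ := hLM₁ l hl
      exact ⟨m, hM₁X' hm, c, hc, rfl⟩

/-- the full existence statement -/
theorem exists_frakM (hP : IsOfParabolicCharacteristic p H) (T : Sylow p H) (L : Subgroup H)
    (hTL : (T : Subgroup H) ≤ L) (hL : L ∈ charPSubgroups p H) :
    ∃ M Ls : Subgroup H, (T : Subgroup H) ≤ M ∧ IsInFrakM p M ∧ (T : Subgroup H) ≤ Ls ∧ Ls ≤ M ∧
      Ls ∈ charPSubgroups p H ∧ largestPReducedOf p L = largestPReducedOf p Ls ∧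
      largestPReducedOf p L ≤ largestPReducedOf p M ∧
      L ⊔ centralizer ((largestPReducedOf p L : Subgroup H) : Set H) =
        Ls ⊔ centralizer ((largestPReducedOf p L : Subgroup H) : Set H) := by
  set Y₀ : Subgroup H := largestPReducedOf p L with hY₀
  set C₀ : Subgroup H := centralizer (Y₀ : Set H) with hC₀
  obtain ⟨M, hTM, hM, hY₀M, hprod⟩ := exists_frakM_aux hP T (Y₀ := Y₀) (L := L) _ L rfl hTL hL le_rfl
    (fun l hl => ⟨l, hl, 1, Subgroup.one_mem _, by simp⟩)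
  have hY₀ne : Y₀ ≠ ⊥ := FrakH2.largestPReducedOf_ne_bot T hTL hL
  have hY₀p : IsPGroup p Y₀ := isPGroup_largestPReducedOf L
  have hLY : L ≤ normalizer (Y₀ : Set H) := le_normalizer_largestPReducedOf L
  have hY₀T : Y₀ ≤ (T : Subgroup H) := (largestPReducedOf_le_pCoreOf L).trans (pCoreOf_le_sylow T hTL)
  set L₁ : Subgroup H := L ⊔ C₀ with hL₁
  have hL₁Y : L₁ ≤ normalizer (Y₀ : Set H) := sup_le hLY (Subgroup.centralizer_le_normalizer _)
  set M₂ : Subgroup H := L₁ ⊓ M with hM₂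
  have hTM₂ : (T : Subgroup H) ≤ M₂ := le_inf (hTL.trans le_sup_left) hTM
  have hM₂L₁ : M₂ ≤ L₁ := inf_le_left
  have hM₂L : M₂ ∈ charPSubgroups p H :=
    mem_charP_of_sylow_le hP T hTM₂ (pCore_ne_bot_of (hY₀T.trans hTM₂) (hM₂L₁.trans hL₁Y) hY₀p hY₀ne)
  have hfac : M₂ ⊔ C₀ = L ⊔ C₀ := by
    apply le_antisymm
    · exact sup_le hM₂L₁ le_sup_right
    · refine sup_le ?_ le_sup_right
      intro l hl
      obtain ⟨m, hm, c, hc, rfl⟩ := hprod l hl
      have hmL₁ : m ∈ L₁ := by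
        have : m = (m * c) * c⁻¹ := by group
        rw [this]
        exact L₁.mul_mem ((le_sup_left : L ≤ L₁) hl) ((le_sup_right : C₀ ≤ L₁) (C₀.inv_mem hc))
      exact Subgroup.mul_mem _ ((le_sup_left : M₂ ≤ M₂ ⊔ C₀) ⟨hmL₁, hm⟩)
        ((le_sup_right : C₀ ≤ M₂ ⊔ C₀) hc)
  set T₀ : Subgroup H := (T : Subgroup H) ⊓ C₀ with hT₀
  have h2824 := Cfsg.Agent.S2824.result T L M₂ hTL hTM₂ (charP_of_mem hL) (charP_of_mem hM₂L)
    T₀ rfl hfac (M₂ ⊓ normalizer (T₀ : Set H)) rfl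
  have hTC : (T : Subgroup H) ≤ normalizer (C₀ : Set H) :=
    hTL.trans (le_normalizer_centralizer_largestPReducedOf L)
  have hTLs : (T : Subgroup H) ≤ M₂ ⊓ normalizer (T₀ : Set H) :=
    le_inf hTM₂ (le_normalizer_inf hTC)
  refine ⟨M, M₂ ⊓ normalizer (T₀ : Set H), hTM, hM, hTLs, inf_le_left.trans inf_le_right, ?_,
    h2824.1.symm, hY₀M, h2824.2⟩
  refine mem_charP_of_sylow_le hP T hTLs
    (pCore_ne_bot_of (hY₀T.trans hTLs) (inf_le_left.trans (hM₂L₁.trans hL₁Y)) hY₀p hY₀ne)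

end Cfsg.Agent.Lib.LocalStruct.FrakMExist
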