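/-
Factorisation of the weak closure of a weakly closed subgroup: helper lemmas and the core of
the argument for `G = ⟨Q^G⟩`.
-/
import Cfsg.Agent.Lib.LocalStruct.FrakH2

set_option autoImplicit false

namespace Cfsg.Agent.Lib.LocalStruct.WeakFact

open Subgroup Cfsg Cfsg.Agent.Lib.Core.Basic Cfsg.Agent.Lib.Core.Residual
  Cfsg.Agent.Lib.LocalStruct.Basic Cfsg.Agent.Lib.LocalStruct.Comm
  Cfsg.Agent.Lib.LocalStruct.WeakClosed Cfsg.Agent.Lib.LocalStruct.PCoreOf
  Cfsg.Agent.Lib.LocalStruct.PClosed Cfsg.Agent.Lib.LocalStruct.FrakH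
  Cfsg.Agent.Lib.LocalStruct.Large2
open scoped commutatorElement

universe u v

variable {G : Type u} [Group G] [Finite G] {p : ℕ} [Fact p.Prime]

/-! ### `O^p` of subgroups -/

theorem map_resOf {G' : Type v} [Group G'] (f : G →* G') (A : Subgroup G) :
    (resOf p A).map f = (pResidual p ↥(A.map f)).map (A.map f).subtype := by
  have hsurj : Function.Surjective (f.subgroupMap A) := f.subgroupMap_surjective A
  have : Finite ↥(A.map f) := Finite.of_surjective _ hsurj
  have h := map_pResidual_of_surjective (p := p) (f.subgroupMap A) hsurj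
  rw [← h, Subgroup.map_map, Subgroup.map_map]
  rfl

theorem resOf_resOf (A : Subgroup G) : resOf p (resOf p A) = resOf p A := by
  have h1 : resOf p (pResidual p ↥A) = pResidual p ↥A := by
    show (pResidual p ↥(pResidual p ↥A)).map _ = _
    rw [pResidual_pResidual, ← MonoidHom.range_eq_map, Subgroup.range_subtype]
  have h2 := map_resOf (p := p) A.subtype (pResidual p ↥A)
  rw [h1] at h2
  exact h2.symm

theorem resOf_mono {A B : Subgroup G} (h : A ≤ B) : resOf p A ≤ resOf p B := by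
  rintro _ ⟨x, hx, rfl⟩
  exact ⟨Subgroup.inclusion h x, map_pResidual_le (Subgroup.inclusion h) ⟨x, hx, rfl⟩, rfl⟩

theorem resOf_le_ker_of_isPGroup_map {G' : Type v} [Group G'] (f : G →* G') {A : Subgroup G}
    (h : IsPGroup p ↥(A.map f)) : resOf p A ≤ f.ker := by
  have hsurj : Function.Surjective (f.subgroupMap A) := f.subgroupMap_surjective A
  have : Finite ↥(A.map f) := Finite.of_surjective _ hsurj
  have h1 : (resOf p A).map f = ⊥ := by
    rw [map_resOf]
    have h2 : pResidual p ↥(A.map f) = ⊥ := by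
      have h3 := (isPGroup_quotient_iff (p := p) (⊥ : Subgroup ↥(A.map f))).mp
      apply le_bot_iff.mp
      apply h3
      exact h.of_surjective (QuotientGroup.mk' _) (QuotientGroup.mk'_surjective _)
    rw [h2, Subgroup.map_bot]
  rintro x hx
  rw [MonoidHom.mem_ker]
  have : f x ∈ (resOf p A).map f := ⟨x, hx, rfl⟩
  rw [h1] at this
  simpa using this

theorem le_of_resOf_eq_of_le_sup {N R Y : Subgroup G} (hY : resOf p Y = Y) (hR : IsPGroup p R)
    (hN : R ≤ normalizer (N : Set G)) (h : Y ≤ N ⊔ R) : Y ≤ N := by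
  rw [← hY]
  refine (resOf_mono h).trans (resOf_le_of_sup le_sup_left ?_ hR le_sup_right rfl)
  exact sup_le Subgroup.le_normalizer hN

theorem resOf_conj_eq (g : G) (A : Subgroup G) :
    resOf p (A.map (MulAut.conj g).toMonoidHom) = (resOf p A).map (MulAut.conj g).toMonoidHom :=
  (map_resOf (p := p) (MulAut.conj g).toMonoidHom A).symm

theorem normalizer_le_normalizer_resOf (A : Subgroup G) :
    normalizer (A : Set G) ≤ normalizer ((resOf p A : Subgroup G) : Set G) := by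
  intro g hg
  rw [mem_normalizer_iff_map, ← resOf_conj_eq, mem_normalizer_iff_map.mp hg]

theorem resOf_conj_idem {K : Subgroup G} (hK : resOf p K = K) (g : G) :
    resOf p (K.map (MulAut.conj g).toMonoidHom) = K.map (MulAut.conj g).toMonoidHom := by
  rw [resOf_conj_eq, hK]

/-! ### Weak closures -/

omit [Fact p.Prime] in
theorem le_normalizer_weakClosure (Q L : Subgroup G) :
    L ≤ normalizer ((weakClosure Q L : Subgroup G) : Set G) := by
  intro l hl
  apply mem_normalizer_of_conj_mem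
  have h1 : weakClosure Q L ≤ (weakClosure Q L).comap (MulAut.conj l).toMonoidHom := by
    apply weakClosure_le
    intro g hg y hy
    rw [Subgroup.mem_comap]
    have h2 : Q.map (MulAut.conj (l * g)).toMonoidHom ≤ L := by
      rw [map_conj_mul]
      rintro _ ⟨z, hz, rfl⟩
      exact L.mul_mem (L.mul_mem hl (hg hz)) (L.inv_mem hl)
    apply conj_le_weakClosure h2
    rw [map_conj_mul]
    exact ⟨y, hy, rfl⟩
  exact fun x hx => h1 hx

variable {Q X P : Subgroup G}

/-- conjugates of `Q` by elements of `P` are conjugates by elements of `O^p(P)`. -/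
theorem conj_eq_conj_resOf (hQ : IsPGroup p Q) (hu : UniqueConj p Q) (hQP : Q ≤ P) {k : G}
    (hk : k ∈ P) :
    ∃ a ∈ resOf p P, Q.map (MulAut.conj k).toMonoidHom = Q.map (MulAut.conj a).toMonoidHom := by
  obtain ⟨T, hT⟩ := exists_sylow_of_subgroup_ge hQP hQ
  have h1 := sylow_sup_pResidual T
  have h2 := congrArg (Subgroup.map P.subtype) h1
  rw [Subgroup.map_sup, ← MonoidHom.range_eq_map, Subgroup.range_subtype] at h2
  have hT2 : IsPGroup p ↥((T : Subgroup P).map P.subtype) := T.isPGroup'.map P.subtype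
  have h3 : k ∈ resOf p P ⊔ (T : Subgroup P).map P.subtype := by
    rw [sup_comm]
    show k ∈ (T : Subgroup P).map P.subtype ⊔ (pResidual p ↥P).map P.subtype
    rw [h2]; exact hk
  have h4 : (T : Subgroup P).map P.subtype ≤ normalizer ((resOf p P : Subgroup G) : Set G) := by
    rintro _ ⟨t, -, rfl⟩
    exact le_normalizer_resOf P t.2
  obtain ⟨a, ha, t, ht, rfl⟩ := mem_sup_of_le_normalizer h4 h3
  refine ⟨a, ha, ?_⟩
  rw [map_conj_mul, mem_normalizer_iff_map.mp (hu.le_normalizer_of_le hT2 hT ht)]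

theorem conj_le_sup_resOf (hQ : IsPGroup p Q) (hu : UniqueConj p Q) (hQP : Q ≤ P) {g : G}
    (hg : Q.map (MulAut.conj g).toMonoidHom ≤ P) :
    Q.map (MulAut.conj g).toMonoidHom ≤ resOf p P ⊔ Q := by
  obtain ⟨k, hk, e⟩ := hu.exists_conj_of_le hQ hQP hg
  obtain ⟨a, ha, e2⟩ := conj_eq_conj_resOf hQ hu hQP hk
  rw [e, e2]
  exact conj_le_of_mem le_sup_right (le_sup_left (a := resOf p P) ha)

theorem resOf_sup_weakClosure (hQ : IsPGroup p Q) (hu : UniqueConj p Q) (hQX : Q ≤ X) :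
    resOf p (weakClosure Q X) ⊔ Q = weakClosure Q X := by
  apply le_antisymm
  · exact sup_le (resOf_le _) (le_weakClosure hQX)
  · apply weakClosure_le
    intro g hg
    exact conj_le_sup_resOf hQ hu (le_weakClosure hQX) (conj_le_weakClosure hg)

theorem le_normalizer_resOf_weakClosure {X' : Subgroup G} (hQX : X' ≤ X) :
    X' ≤ normalizer ((resOf p (weakClosure Q X) : Subgroup G) : Set G) :=
  hQX.trans ((le_normalizer_weakClosure Q X).trans (normalizer_le_normalizer_resOf _))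

/-- `O^p(⟨Q^X⟩) = [O^p(⟨Q^X⟩), Q]` -/
theorem commutator_resOf_weakClosure (hQ : IsPGroup p Q) (hu : UniqueConj p Q) (hQX : Q ≤ X) :
    ⁅resOf p (weakClosure Q X), Q⁆ = resOf p (weakClosure Q X) := by
  set P : Subgroup G := weakClosure Q X with hP
  set K : Subgroup G := resOf p P with hK
  have hQP : Q ≤ P := le_weakClosure hQX
  have hQK : Q ≤ normalizer (K : Set G) := le_normalizer_resOf_weakClosure hQX
  set J : Subgroup G := ⁅K, Q⁆ with hJ
  have hJK : J ≤ K := commutator_le_left_of_le_normalizer hQK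
  apply le_antisymm hJK
  have h1 : K ≤ normalizer ((Q ⊔ J : Subgroup G) : Set G) :=
    le_normalizer_sup_of_commutator_le (le_normalizer_commutator_left K Q) le_rfl
  have h2 : P ≤ Q ⊔ J := by
    apply weakClosure_le
    intro g hg
    obtain ⟨k, hk, e⟩ := hu.exists_conj_of_le hQ hQP (conj_le_weakClosure hg)
    obtain ⟨a, ha, e2⟩ := conj_eq_conj_resOf hQ hu hQP hk
    rw [e, e2]
    calc _ ≤ (Q ⊔ J).map (MulAut.conj a).toMonoidHom := map_conj_mono a le_sup_left
      _ = Q ⊔ J := mem_normalizer_iff_map.mp (h1 ha)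
  have h3 : Q ≤ normalizer (J : Set G) := le_normalizer_commutator_right K Q
  have h4 : J ⊔ (K ⊓ Q) = K := by
    apply le_antisymm (sup_le hJK inf_le_left)
    intro x hx
    have hx2 : x ∈ J ⊔ Q := by
      rw [sup_comm]; exact h2 (resOf_le P hx)
    obtain ⟨j, hj, q, hq, rfl⟩ := mem_sup_of_le_normalizer h3 hx2
    have : q ∈ K := by
      have := K.mul_mem (K.inv_mem (hJK hj)) hx
      simpa using this
    exact Subgroup.mul_mem _ (le_sup_left (a := J) hj) (le_sup_right (a := J) ⟨this, hq⟩)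
  have h5 : resOf p K ≤ J :=
    resOf_le_of_sup hJK (le_normalizer_commutator_left K Q)
      (hQ.to_le inf_le_right) inf_le_left h4
  rwa [hK, resOf_resOf] at h5

/-- conjugates of `Q` in `H ⊔ Q`, `H` normalized by `Q`, are `H`-conjugates. -/
theorem exists_conj_of_le_sup (hQ : IsPGroup p Q) (hu : UniqueConj p Q) {H : Subgroup G}
    (hQH : Q ≤ normalizer (H : Set G)) {g : G} (hg : Q.map (MulAut.conj g).toMonoidHom ≤ H ⊔ Q) :
    ∃ h ∈ H, Q.map (MulAut.conj g).toMonoidHom = Q.map (MulAut.conj h).toMonoidHom := by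
  obtain ⟨k, hk, e⟩ := hu.exists_conj_of_le hQ le_sup_right hg
  obtain ⟨h, hh, q, hq, rfl⟩ := mem_sup_of_le_normalizer hQH hk
  refine ⟨h, hh, ?_⟩
  rw [e, map_conj_mul, mem_normalizer_iff_map.mp (Subgroup.le_normalizer hq)]

/-- a normal `p`-subgroup normalizes all conjugates of `Q` -/
theorem conj_mul_eq_of_normal (hQ : IsPGroup p Q) (hu : UniqueConj p Q) {N : Subgroup G}
    (hN : N.Normal) (hNp : IsPGroup p N) {o : G} (ho : o ∈ N) (g : G) :
    Q.map (MulAut.conj (o * g)).toMonoidHom = Q.map (MulAut.conj g).toMonoidHom := by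
  have hR : IsPGroup p ↥(N ⊔ Q.map (MulAut.conj g).toMonoidHom) :=
    IsPGroup.to_sup_of_normal_left hNp (isPGroup_map_conj g hQ)
  apply hu _ hR
  · rw [map_conj_mul]
    exact conj_le_of_mem le_sup_right (le_sup_left (a := N) ho)
  · exact le_sup_right

theorem le_normalizer_weakClosure_of_normal (hQ : IsPGroup p Q) (hu : UniqueConj p Q)
    {N : Subgroup G} (hN : N.Normal) (hNp : IsPGroup p N) :
    N ≤ normalizer ((weakClosure Q X : Subgroup G) : Set G) := by
  intro o ho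
  apply mem_normalizer_of_conj_mem
  have h1 : weakClosure Q X ≤ (weakClosure Q X).comap (MulAut.conj o).toMonoidHom := by
    apply weakClosure_le
    intro g hg y hy
    rw [Subgroup.mem_comap]
    apply conj_le_weakClosure hg
    rw [← conj_mul_eq_of_normal hQ hu hN hNp ho g, map_conj_mul]
    exact ⟨y, hy, rfl⟩
  exact fun x hx => h1 hx

/-! ### Commutators -/

omit [Finite G] [Fact p.Prime] in
theorem comm_pow_of_central {a y : G} (h : ⁅a, y⁆ ∈ center G) (n : ℕ) :
    ⁅a, y ^ n⁆ = ⁅a, y⁆ ^ n := by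
  have hc : ∀ z : G, z * ⁅a, y⁆ = ⁅a, y⁆ * z := fun z => (Subgroup.mem_center_iff.mp h) z
  induction n with
  | zero => simp
  | succ n ih =>
    have h1 : ⁅a, y ^ (n + 1)⁆ = ⁅a, y ^ n⁆ * (y ^ n * ⁅a, y⁆ * (y ^ n)⁻¹) := by
      simp only [commutatorElement_def, pow_succ]; group
    rw [h1, ih, hc, pow_succ]
    simp [mul_assoc]

omit [Finite G] [Fact p.Prime] in
theorem comm_mul_left_of_commute {A B C : G} (hAB : Commute A B) (hAC : Commute A C) :
    ⁅A * B, C⁆ = ⁅B, C⁆ := by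
  have h1 : A * (B * C * B⁻¹) = (B * C * B⁻¹) * A :=
    ((hAB.mul_right hAC).mul_right hAB.inv_right).eq
  rw [commutatorElement_def, commutatorElement_def]
  calc A * B * C * (A * B)⁻¹ * C⁻¹ = (A * (B * C * B⁻¹)) * A⁻¹ * C⁻¹ := by group
    _ = _ := by rw [h1]; group

omit [Finite G] [Fact p.Prime] in
theorem comm_mul_right_of_commute {A B C : G} (hAB : Commute A B) (hAC : Commute A C) :
    ⁅C, A * B⁆ = ⁅C, B⁆ := by
  rw [← commutatorElement_inv, comm_mul_left_of_commute hAB hAC, commutatorElement_inv]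

omit [Finite G] in
theorem mem_pCore_of_central {x : G} (hc : x ∈ center G) (hx : IsPElt p x) : x ∈ pCore p G := by
  have hN : (zpowers x).Normal := by
    refine ⟨fun n hn g => ?_⟩
    have h1 : n ∈ center G := (Subgroup.zpowers_le.mpr hc) hn
    have h2 : g * n * g⁻¹ = n := by
      rw [(Subgroup.mem_center_iff.mp h1) g]; simp
    rwa [h2]
  exact le_pCore hN (isPElt_iff_zpowers.mp hx) (Subgroup.mem_zpowers x)

omit [Finite G] [Fact p.Prime] in
theorem three_mod {N A B C : Subgroup G} [N.Normal] (h1 : ⁅⁅B, C⁆, A⁆ ≤ N) (h2 : ⁅⁅C, A⁆, B⁆ ≤ N) :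
    ⁅⁅A, B⁆, C⁆ ≤ N := by
  have e : ∀ Y : Subgroup G, Y ≤ N ↔ Y.map (QuotientGroup.mk' N) = ⊥ := by
    intro Y
    rw [Subgroup.map_eq_bot_iff, QuotientGroup.ker_mk']
  rw [e] at h1 h2 ⊢
  simp only [Subgroup.map_commutator] at h1 h2 ⊢
  exact Subgroup.commutator_commutator_eq_bot_of_rotate h1 h2

/-! ### The core, for `G = ⟨Q^G⟩` -/

section Core

variable {H₁ H₂ : Subgroup G}

theorem comm_D_le_pCore (hQ : IsPGroup p Q) [hn₁ : H₁.Normal] [hn₂ : H₂.Normal]
    (hD : ⁅H₁, H₂⁆ ≤ normalizer (Q : Set G))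
    (hgen : ∀ N : Subgroup G, N.Normal → Q ≤ N → N = ⊤) :
    ⁅⁅H₁, H₂⁆, (⊤ : Subgroup G)⁆ ≤ pCore p G := by
  set D : Subgroup G := ⁅H₁, H₂⁆ with hDdef
  haveI hDn : D.Normal := Subgroup.commutator_normal H₁ H₂
  haveI hOn : (pCore p G).Normal := Cfsg.pCore_normal p G
  have hDnorm : (⊤ : Subgroup G) ≤ normalizer (D : Set G) := by
    rw [Subgroup.normalizer_eq_top]
  have h1 : D ⊓ Q ≤ pCore p G := by
    apply le_pCore_of_isSubnormal
    · refine Subgroup.IsSubnormal.step (D ⊓ Q) D inf_le_left hDn.isSubnormal ?_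
      rw [Subgroup.normal_subgroupOf_iff_le_normalizer inf_le_left]
      intro d hd
      apply mem_normalizer_of_conj_mem
      rintro x ⟨hx1, hx2⟩
      exact ⟨hDn.conj_mem x hx1 d, conj_mem_of_mem_normalizer (hD hd) hx2⟩
    · exact hQ.to_le inf_le_right
  have h2 : ⁅D, Q⁆ ≤ pCore p G :=
    (commutator_le_inf_of_normalizes (le_top.trans hDnorm) hD).trans h1
  set π := QuotientGroup.mk' (pCore p G) with hπ
  have hsurj : Function.Surjective π := QuotientGroup.mk'_surjective _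
  haveI hDπ : (D.map π).Normal := hDn.map π hsurj
  set C : Subgroup G := (centralizer ((D.map π : Subgroup _) : Set _)).comap π with hC
  have hCn : C.Normal := Subgroup.Normal.comap inferInstance π
  have hcomm : ∀ d x : G, π ⁅d, x⁆ = 1 → π d * π x = π x * π d := by
    intro d x h
    rw [map_commutatorElement, commutatorElement_eq_one_iff_commute] at h
    exact h
  have hQC : Q ≤ C := by
    intro q hq
    rw [hC, Subgroup.mem_comap, Subgroup.mem_centralizer_iff]
    rintro _ ⟨d, hd, rfl⟩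
    apply (hcomm d q _)
    rw [hπ, QuotientGroup.mk'_apply, QuotientGroup.eq_one_iff]
    exact h2 (Subgroup.commutator_mem_commutator hd hq)
  have hCtop := hgen C hCn hQC
  rw [Subgroup.commutator_le]
  intro d hd x _
  have hx : x ∈ C := by rw [hCtop]; trivial
  rw [hC, Subgroup.mem_comap, Subgroup.mem_centralizer_iff] at hx
  have h3 := hx (π d) ⟨d, hd, rfl⟩
  have h4 : π ⁅d, x⁆ = 1 := by
    rw [map_commutatorElement, commutatorElement_eq_one_iff_commute]
    exact h3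
  rwa [hπ, QuotientGroup.mk'_apply, QuotientGroup.eq_one_iff] at h4

omit [Finite G] [Fact p.Prime] in
theorem comm_comm_le_of (N : Subgroup G) [N.Normal]
    (hD' : ⁅⁅H₁, H₂⁆, (⊤ : Subgroup G)⁆ ≤ N) : ⁅⁅H₁, H₁⁆, H₂⁆ ≤ N := by
  have h1 : ⁅⁅H₁, H₂⁆, H₁⁆ ≤ N := (Subgroup.commutator_mono le_rfl le_top).trans hD'
  have h2 : ⁅⁅H₂, H₁⁆, H₁⁆ ≤ N := by rwa [Subgroup.commutator_comm H₂ H₁]
  exact three_mod h1 h2

theorem resOf_weakClosure_le_comm (hQ : IsPGroup p Q) (hu : UniqueConj p Q) [hn₁ : H₁.Normal]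
    [hn₂ : H₂.Normal] (hsup : H₁ ⊔ H₂ = ⊤) (hD' : ⁅⁅H₁, H₂⁆, (⊤ : Subgroup G)⁆ ≤ pCore p G) :
    resOf p (weakClosure Q (H₁ ⊔ Q)) ≤ ⁅H₁, H₁⁆ := by
  haveI hOn : (pCore p G).Normal := Cfsg.pCore_normal p G
  have hH1 : (⊤ : Subgroup G) ≤ normalizer (H₁ : Set G) := by
    rw [Subgroup.normalizer_eq_top]
  set W : Subgroup G := ⁅H₁, H₁⁆ ⊔ pCore p G with hW
  haveI hWn : W.Normal := Subgroup.sup_normal _ _
  set π := QuotientGroup.mk' W with hπ
  have hker : ∀ x ∈ W, π x = 1 := by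
    intro x hx
    rwa [hπ, QuotientGroup.mk'_apply, QuotientGroup.eq_one_iff]
  have hcen : ∀ d ∈ ⁅H₁, H₂⁆, π d ∈ center (G ⧸ W) := by
    intro d hd
    rw [Subgroup.mem_center_iff]
    intro z
    obtain ⟨x, rfl⟩ := QuotientGroup.mk'_surjective W z
    have h1 : π ⁅d, x⁆ = 1 := hker _ (le_sup_right (a := ⁅H₁, H₁⁆)
      (hD' (Subgroup.commutator_mem_commutator hd (Subgroup.mem_top x))))
    rw [map_commutatorElement, commutatorElement_eq_one_iff_commute] at h1
    exact h1.symm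
  have hc : ∀ h ∈ H₁, ∀ q ∈ Q, ⁅π h, π q⁆ ∈ center (G ⧸ W) := by
    intro h hh q hq
    have hq2 : q ∈ H₁ ⊔ H₂ := by rw [hsup]; trivial
    obtain ⟨a, ha, b, hb, rfl⟩ := mem_sup_of_le_normalizer (le_top.trans hH1) hq2
    have h1 : π ⁅h, a⁆ = 1 := hker _ (le_sup_left (b := pCore p G)
      (Subgroup.commutator_mem_commutator hh ha))
    rw [map_commutatorElement, commutatorElement_eq_one_iff_commute] at h1
    have h2 : ⁅π h, π (a * b)⁆ = π a * ⁅π h, π b⁆ * (π a)⁻¹ := by
      rw [map_mul]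
      simp only [commutatorElement_def]
      have e : π h * π a = π a * π h := h1.eq
      calc π h * (π a * π b) * (π h)⁻¹ * (π a * π b)⁻¹
          = (π h * π a) * π b * (π h)⁻¹ * (π b)⁻¹ * (π a)⁻¹ := by group
        _ = _ := by rw [e]; group
    have h3 : ⁅π h, π b⁆ ∈ center (G ⧸ W) := by
      rw [← map_commutatorElement]
      exact hcen _ (Subgroup.commutator_mem_commutator hh hb)
    rw [h2, (Subgroup.mem_center_iff.mp h3) (π a)]
    simpa using h3
  have hk : ∀ h ∈ H₁, ∀ q ∈ Q, ⁅π h, π q⁆ ∈ pCore p (G ⧸ W) := by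
    intro h hh q hq
    apply mem_pCore_of_central (hc h hh q hq)
    obtain ⟨k, hk⟩ := hQ ⟨q, hq⟩
    refine ⟨k, ?_⟩
    rw [← comm_pow_of_central (hc h hh q hq), ← map_pow]
    have : q ^ p ^ k = 1 := by simpa using congrArg Subtype.val hk
    rw [this, map_one]
    simp
  haveI hOn2 : (pCore p (G ⧸ W)).Normal := Cfsg.pCore_normal p _
  set T : Subgroup (G ⧸ W) := pCore p (G ⧸ W) ⊔ Q.map π with hT
  have hTp : IsPGroup p T := IsPGroup.to_sup_of_normal_left pCore_isPGroup (hQ.map π)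
  have hP : weakClosure Q (H₁ ⊔ Q) ≤ T.comap π := by
    apply weakClosure_le
    intro g hg
    obtain ⟨h, hh, e⟩ := exists_conj_of_le_sup hQ hu (le_top.trans hH1) hg
    rw [e]
    rintro _ ⟨q, hq, rfl⟩
    rw [Subgroup.mem_comap]
    have e2 : π ((MulAut.conj h).toMonoidHom q) = ⁅π h, π q⁆ * π q := by
      simp only [MulEquiv.coe_toMonoidHom, MulAut.conj_apply, map_mul, map_inv,
        commutatorElement_def]
      group
    rw [e2]
    exact Subgroup.mul_mem _ (le_sup_left (a := pCore p (G ⧸ W)) (hk h hh q hq))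
      (le_sup_right (a := pCore p (G ⧸ W)) ⟨q, hq, rfl⟩)
  have h3 : resOf p (weakClosure Q (H₁ ⊔ Q)) ≤ W := by
    have := resOf_le_ker_of_isPGroup_map (p := p) π
      (hTp.to_le (Subgroup.map_le_iff_le_comap.mpr hP))
    rwa [hπ, QuotientGroup.ker_mk'] at this
  refine le_of_resOf_eq_of_le_sup (resOf_resOf _) pCore_isPGroup ?_ h3
  haveI : (⁅H₁, H₁⁆).Normal := Subgroup.commutator_normal H₁ H₁
  rw [Subgroup.normalizer_eq_top]
  exact le_top

theorem resOf_weakClosure_normal (hQ : IsPGroup p Q) (hu : UniqueConj p Q) [hn₁ : H₁.Normal]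
    [hn₂ : H₂.Normal] (hsup : H₁ ⊔ H₂ = ⊤) (hle : resOf p (weakClosure Q (H₁ ⊔ Q)) ≤ ⁅H₁, H₁⁆)
    (hcomm : ⁅⁅H₁, H₁⁆, H₂⁆ ≤ pCore p G) : (resOf p (weakClosure Q (H₁ ⊔ Q))).Normal := by
  haveI hOn : (pCore p G).Normal := Cfsg.pCore_normal p G
  set K : Subgroup G := resOf p (weakClosure Q (H₁ ⊔ Q)) with hK
  have hKK : resOf p K = K := resOf_resOf _
  have hO : pCore p G ≤ normalizer (K : Set G) :=
    (le_normalizer_weakClosure_of_normal hQ hu hOn pCore_isPGroup).trans
      (normalizer_le_normalizer_resOf _)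
  have h1 : H₁ ≤ normalizer (K : Set G) := le_normalizer_resOf_weakClosure le_sup_left
  have h2 : H₂ ≤ normalizer (K : Set G) := by
    intro h hh
    apply mem_normalizer_of_conj_mem
    have h3 : K.map (MulAut.conj h).toMonoidHom ≤ K := by
      refine le_of_resOf_eq_of_le_sup (resOf_conj_idem hKK h) (pCore_isPGroup (p := p)) hO ?_
      rintro _ ⟨k, hk, rfl⟩
      have e : (MulAut.conj h).toMonoidHom k = k * ⁅k⁻¹, h⁆ := by
        simp only [MulEquiv.coe_toMonoidHom, MulAut.conj_apply, commutatorElement_def]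
        group
      rw [e]
      refine Subgroup.mul_mem _ (le_sup_left (a := K) hk) (le_sup_right (a := K) ?_)
      exact hcomm (Subgroup.commutator_mem_commutator (hle (K.inv_mem hk)) hh)
    exact fun x hx => h3 ⟨x, hx, rfl⟩
  have h3 : (⊤ : Subgroup G) ≤ normalizer (K : Set G) := by
    rw [← hsup]; exact sup_le h1 h2
  exact Subgroup.normalizer_eq_top_iff.mp (top_le_iff.mp h3)

theorem comm_resOf_weakClosure_eq (hQ : IsPGroup p Q) (hu : UniqueConj p Q) [hn₁ : H₁.Normal]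
    (hle : resOf p (weakClosure Q (H₁ ⊔ Q)) ≤ ⁅H₁, H₁⁆)
    (hKn : (resOf p (weakClosure Q (H₁ ⊔ Q))).Normal) :
    ⁅resOf p (weakClosure Q (H₁ ⊔ Q)), H₁⁆ = resOf p (weakClosure Q (H₁ ⊔ Q)) := by
  have hX : Q ≤ H₁ ⊔ Q := le_sup_right
  have hKQ := commutator_resOf_weakClosure hQ hu hX
  set P : Subgroup G := weakClosure Q (H₁ ⊔ Q) with hP
  set K : Subgroup G := resOf p P with hK
  have hQP : Q ≤ P := le_weakClosure hX
  have hKH : K ≤ H₁ := hle.trans (Subgroup.commutator_le_left H₁ H₁)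
  set U : Subgroup G := H₁ ⊓ normalizer (Q : Set G) with hU
  have hFr : ∀ h ∈ H₁, ∃ a ∈ K, ∃ u ∈ U, h = a * u := by
    intro h hh
    have h1 : Q.map (MulAut.conj h).toMonoidHom ≤ P :=
      conj_le_weakClosure (conj_le_of_mem hX (le_sup_left (a := H₁) hh))
    obtain ⟨k, hk, e⟩ := hu.exists_conj_of_le hQ hQP h1
    obtain ⟨a, ha, e2⟩ := conj_eq_conj_resOf hQ hu hQP hk
    refine ⟨a, ha, a⁻¹ * h, ⟨H₁.mul_mem (H₁.inv_mem (hKH ha)) hh, ?_⟩, by group⟩
    show a⁻¹ * h ∈ normalizer (Q : Set G)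
    rw [mem_normalizer_iff_map, map_conj_mul, e, e2, map_conj_inv_map_conj]
  set L : Subgroup G := ⁅K, H₁⁆ with hL
  haveI hLn : L.Normal := Subgroup.commutator_normal K H₁
  have hLK : L ≤ K := Subgroup.commutator_le_left K H₁
  apply le_antisymm hLK
  set π := QuotientGroup.mk' L with hπ
  have hcom : ∀ a ∈ K, ∀ h ∈ H₁, Commute (π a) (π h) := by
    intro a ha h hh
    have h1 : π ⁅a, h⁆ = 1 := by
      rw [hπ, QuotientGroup.mk'_apply, QuotientGroup.eq_one_iff]
      exact Subgroup.commutator_mem_commutator ha hh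
    rwa [map_commutatorElement, commutatorElement_eq_one_iff_commute] at h1
  have h2 : ⁅H₁, H₁⁆ ≤ (U.map π).comap π := by
    rw [Subgroup.commutator_le]
    intro h hh h' hh'
    obtain ⟨a, ha, u, hu', rfl⟩ := hFr h hh
    obtain ⟨a', ha', u', hu'', rfl⟩ := hFr h' hh'
    rw [Subgroup.mem_comap, map_commutatorElement, map_mul, map_mul]
    have hA : ∀ {y : G}, y ∈ H₁ → Commute (π a) (π y) := fun hy => hcom a ha _ hy
    have hA' : ∀ {y : G}, y ∈ H₁ → Commute (π a') (π y) := fun hy => hcom a' ha' _ hy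
    rw [comm_mul_left_of_commute (hA hu'.1) ((hA (hKH ha')).mul_right (hA hu''.1)),
      comm_mul_right_of_commute (hA' hu''.1) (hA' hu'.1), ← map_commutatorElement]
    refine ⟨_, ?_, rfl⟩
    rw [commutatorElement_def]
    exact U.mul_mem (U.mul_mem (U.mul_mem hu' hu'') (U.inv_mem hu')) (U.inv_mem hu'')
  have h3 : K.map π ≤ U.map π := Subgroup.map_le_iff_le_comap.mpr (hle.trans h2)
  have h4 : K.map π ≤ normalizer ((Q.map π : Subgroup _) : Set _) :=
    h3.trans ((Subgroup.map_mono inf_le_right).trans (Subgroup.le_normalizer_map π))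
  have h5 : K.map π ≤ Q.map π := by
    have h6 : ⁅K.map π, Q.map π⁆ ≤ Q.map π := commutator_le_right_of_le_normalizer h4
    rw [← Subgroup.map_commutator, hKQ] at h6
    exact h6
  have h6 : resOf p K ≤ π.ker :=
    resOf_le_ker_of_isPGroup_map π ((hQ.map π).to_le h5)
  rw [hπ, QuotientGroup.ker_mk', hK, resOf_resOf] at h6
  exact h6

/-- the core of the factorisation lemma, one side -/
theorem core_side (hQ : IsPGroup p Q) (hu : UniqueConj p Q) [hn₁ : H₁.Normal]
    [hn₂ : H₂.Normal] (hsup : H₁ ⊔ H₂ = ⊤) (hD : ⁅H₁, H₂⁆ ≤ normalizer (Q : Set G))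
    (hgen : ∀ N : Subgroup G, N.Normal → Q ≤ N → N = ⊤) :
    ⁅resOf p (weakClosure Q (H₁ ⊔ Q)), Q⁆ = resOf p (weakClosure Q (H₁ ⊔ Q)) ∧
    ⁅resOf p (weakClosure Q (H₁ ⊔ Q)), H₁⁆ = resOf p (weakClosure Q (H₁ ⊔ Q)) ∧
    resOf p (weakClosure Q (H₁ ⊔ Q)) ≤ ⁅H₁, H₁⁆ ∧
    (resOf p (weakClosure Q (H₁ ⊔ Q))).Normal ∧ ⁅⁅H₁, H₁⁆, H₂⁆ ≤ pCore p G := by
  haveI hOn : (pCore p G).Normal := Cfsg.pCore_normal p G
  have hD' := comm_D_le_pCore hQ hD hgen
  have hcomm : ⁅⁅H₁, H₁⁆, H₂⁆ ≤ pCore p G := comm_comm_le_of _ hD'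
  have hle := resOf_weakClosure_le_comm hQ hu hsup hD'
  have hKn := resOf_weakClosure_normal hQ hu hsup hle hcomm
  exact ⟨commutator_resOf_weakClosure hQ hu le_sup_right,
    comm_resOf_weakClosure_eq hQ hu hle hKn, hle, hKn, hcomm⟩

theorem core_sup (hQ : IsPGroup p Q) (hu : UniqueConj p Q) [hn₁ : H₁.Normal]
    [hn₂ : H₂.Normal] (hsup : H₁ ⊔ H₂ = ⊤)
    (hgen : ∀ N : Subgroup G, N.Normal → Q ≤ N → N = ⊤)
    (hK₁ : (resOf p (weakClosure Q (H₁ ⊔ Q))).Normal)
    (hK₂ : (resOf p (weakClosure Q (H₂ ⊔ Q))).Normal) :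
    resOf p (weakClosure Q (H₁ ⊔ Q)) ⊔ resOf p (weakClosure Q (H₂ ⊔ Q)) = pResidual p G := by
  set K₁ : Subgroup G := resOf p (weakClosure Q (H₁ ⊔ Q)) with hK1
  set K₂ : Subgroup G := resOf p (weakClosure Q (H₂ ⊔ Q)) with hK2
  apply le_antisymm
  · exact sup_le ((map_pResidual_subtype_le _)) ((map_pResidual_subtype_le _))
  set M : Subgroup G := K₁ ⊔ K₂ with hM
  haveI hMn : M.Normal := Subgroup.sup_normal _ _
  have key : ∀ {H K : Subgroup G}, K ≤ M → resOf p (weakClosure Q (H ⊔ Q)) = K →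
      H ≤ normalizer ((M ⊔ Q : Subgroup G) : Set G) := by
    intro H K hKM hKe h hh
    apply mem_normalizer_of_conj_mem
    have h1 : (M ⊔ Q).map (MulAut.conj h).toMonoidHom ≤ M ⊔ Q := by
      rw [Subgroup.map_sup]
      apply sup_le
      · rw [(mem_normalizer_iff_map.mp (by
          rw [Subgroup.normalizer_eq_top]; trivial))]
        exact le_sup_left
      · have h2 : Q.map (MulAut.conj h).toMonoidHom ≤ weakClosure Q (H ⊔ Q) :=
          conj_le_weakClosure (conj_le_of_mem le_sup_right (le_sup_left (a := H) hh))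
        rw [← resOf_sup_weakClosure hQ hu (le_sup_right : Q ≤ H ⊔ Q), hKe] at h2
        exact h2.trans (sup_le_sup_right hKM _)
    exact fun x hx => h1 ⟨x, hx, rfl⟩
  have h3 : (⊤ : Subgroup G) ≤ normalizer ((M ⊔ Q : Subgroup G) : Set G) := by
    rw [← hsup]
    exact sup_le (key le_sup_left rfl) (key le_sup_right rfl)
  have h4 : (M ⊔ Q).Normal := Subgroup.normalizer_eq_top_iff.mp (top_le_iff.mp h3)
  have h5 : M ⊔ Q = ⊤ := hgen _ h4 le_sup_right
  exact (isPGroup_quotient_iff (p := p) M).mp (isPGroup_quotient_of_sup_eq_top M hQ h5)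

end Core

end Cfsg.Agent.Lib.LocalStruct.WeakFact
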