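/-
A large subgroup acting on a module with quasisimple image: abstract core.
-/
import Cfsg.Agent.Lib.LocalStruct.WeakFact
import Cfsg.Agent.Lib.Components.Central
import Cfsg.Agent.Lib.LocalStruct.BasicProp

set_option autoImplicit false

namespace Cfsg.Agent.Lib.LocalStruct.LargeQS

open Subgroup Cfsg Cfsg.Agent.Lib.Core.Basic Cfsg.Agent.Lib.Core.Residual
  Cfsg.Agent.Lib.LocalStruct.Basic Cfsg.Agent.Lib.LocalStruct.Comm
  Cfsg.Agent.Lib.LocalStruct.WeakClosed Cfsg.Agent.Lib.LocalStruct.PCoreOf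
  Cfsg.Agent.Lib.LocalStruct.PClosed Cfsg.Agent.Lib.LocalStruct.FrakH
  Cfsg.Agent.Lib.LocalStruct.Large2 Cfsg.Agent.Lib.LocalStruct.WeakFact
  Cfsg.Agent.Lib.Components.Basic Cfsg.Agent.Lib.Components.Central
open scoped commutatorElement

universe u v

variable {B : Type u} [Group B] [Finite B] {p : ℕ} [Fact p.Prime]

/-- if `O_p(B) = 1` and `O^p(B)` is quasisimple, then nontrivial `p`-subgroups act nontrivially. -/
theorem not_le_centralizer_residual (hred : pCore p B = ⊥) {Y : Subgroup B} (hY : IsPGroup p Y)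
    (hY1 : Y ≠ ⊥) : ¬ Y ≤ centralizer ((pResidual p B : Subgroup B) : Set B) := by
  intro hYZ
  haveI hLn : (pResidual p B).Normal := inferInstance
  set Zc : Subgroup B := centralizer ((pResidual p B : Subgroup B) : Set B) with hZc
  haveI hZn : Zc.Normal := by rw [hZc]; infer_instance
  obtain ⟨T, hT⟩ := exists_sylow_of_subgroup_ge hYZ hY
  have h1 : pResidual p ↥Zc ≤ center ↥Zc := by
    intro x hx
    rw [Subgroup.mem_center_iff]
    intro y
    have h2 : (x : B) ∈ pResidual p B := map_pResidual_subtype_le Zc ⟨x, hx, rfl⟩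
    have h3 := Subgroup.mem_centralizer_iff.mp y.2 (x : B) h2
    exact Subtype.ext h3.symm
  have h2 := sylow_sup_pResidual T
  have hTn : (T : Subgroup ↥Zc).Normal := by
    apply Subgroup.normalizer_eq_top_iff.mp
    apply top_le_iff.mp
    rw [← h2]
    refine sup_le Subgroup.le_normalizer (h1.trans ?_)
    intro z hz
    rw [Subgroup.mem_normalizer_iff]
    intro t
    rw [(show z * (t : ↥Zc) = t * z from ((Subgroup.mem_center_iff.mp hz) t).symm)]
    simp
  have h3 : (T : Subgroup ↥Zc) ≤ pCore p ↥Zc := le_pCore hTn T.isPGroup'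
  have h4 : (T : Subgroup ↥Zc).map Zc.subtype ≤ pCore p B :=
    (Subgroup.map_mono h3).trans (map_pCore_le_of_isSubnormal hZn.isSubnormal)
  rw [hred] at h4
  exact hY1 (le_bot_iff.mp (hT.trans h4))

/-- if `O_p(B) = 1` and `O^p(B)` is quasisimple, nontrivial `p`-subgroups act nontrivially. -/
theorem comm_residual_eq (hred : pCore p B = ⊥) (hqs : IsQuasisimple ↥(pResidual p B))
    {Y : Subgroup B} (hY : IsPGroup p Y) (hY1 : Y ≠ ⊥) :
    ⁅pResidual p B, Y⁆ = pResidual p B := by
  haveI hLn : (pResidual p B).Normal := inferInstance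
  set L : Subgroup B := pResidual p B with hL
  have hP : ⁅L, L⁆ = L := commutator_self_of_quasisimple hqs
  have hJL : ⁅L, Y⁆ ≤ L := Subgroup.commutator_le_left L Y
  haveI hJn : ((⁅L, Y⁆).subgroupOf L).Normal :=
    (FrakH.normal_subgroupOf_iff hJL).mpr (le_normalizer_commutator_left L Y)
  rcases normal_eq_top_or_le_center hqs ((⁅L, Y⁆).subgroupOf L) with ht | hc
  · exact le_antisymm hJL (Subgroup.subgroupOf_eq_top.mp ht)
  · exfalso
    have h1 : ⁅⁅L, Y⁆, L⁆ = ⊥ := by
      rw [commutator_eq_bot_iff_forall]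
      intro a ha b hb
      have h2 : (⟨a, hJL ha⟩ : ↥L) ∈ center ↥L := hc ((Subgroup.mem_subgroupOf).mpr ha)
      have h3 := (Subgroup.mem_center_iff.mp h2) ⟨b, hb⟩
      exact (congrArg Subtype.val h3).symm
    have h2 := commutator_eq_bot_of_perfect hP h1
    apply not_le_centralizer_residual hred hY hY1
    rw [Subgroup.commutator_comm] at h2
    exact commutator_eq_bot_iff_le_centralizer'.mp h2

/-- abstract: a normal subgroup `J` with `X = J W`, `[W, X] ≤ P` normal `p`-subgroup, `X` perfect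
and `O^p(X) = X` is `X`. -/
theorem eq_top_of_sup_central_mod (hP : commutator B = ⊤) (hres : pResidual p B = ⊤)
    {P W J : Subgroup B} [P.Normal] [W.Normal] [J.Normal] (hPp : IsPGroup p P)
    (hW : ⁅W, (⊤ : Subgroup B)⁆ ≤ P) (hJW : J ⊔ W = ⊤) : J = ⊤ := by
  set J₁ : Subgroup B := J ⊔ P with hJ₁
  haveI hJ₁n : J₁.Normal := Subgroup.sup_normal _ _
  set π := QuotientGroup.mk' J₁ with hπ
  have hsurj : Function.Surjective π := QuotientGroup.mk'_surjective _
  have hker : ∀ x ∈ J₁, π x = 1 := fun x hx => by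
    rwa [hπ, QuotientGroup.mk'_apply, QuotientGroup.eq_one_iff]
  have hcen : (⊤ : Subgroup B) ≤ (center (B ⧸ J₁)).comap π := by
    rw [← hJW]
    apply sup_le
    · intro j hj
      rw [Subgroup.mem_comap, hker j (le_sup_left (a := J) hj)]
      exact Subgroup.one_mem _
    · intro w hw
      rw [Subgroup.mem_comap, Subgroup.mem_center_iff]
      intro z
      obtain ⟨x, rfl⟩ := hsurj z
      have h1 : π ⁅w, x⁆ = 1 := hker _ (le_sup_right (a := J)
        (hW (Subgroup.commutator_mem_commutator hw (Subgroup.mem_top x))))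
      rw [map_commutatorElement, commutatorElement_eq_one_iff_commute] at h1
      exact h1.symm
  have h1 : commutator (B ⧸ J₁) = ⊥ := by
    rw [commutator_def, commutator_eq_bot_iff_forall]
    intro a _ b _
    obtain ⟨x, rfl⟩ := hsurj a
    exact ((Subgroup.mem_center_iff.mp (hcen (Subgroup.mem_top x))) b).symm
  have h2 : (⊤ : Subgroup B).map π = ⊥ := by
    rw [← hP, commutator_def, Subgroup.map_commutator,
      Subgroup.map_top_of_surjective π hsurj, ← commutator_def, h1]
  have h3 : J₁ = ⊤ := by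
    rw [Subgroup.map_eq_bot_iff, hπ, QuotientGroup.ker_mk'] at h2
    exact top_le_iff.mp h2
  have h4 : IsPGroup p (B ⧸ J) := isPGroup_quotient_of_sup_eq_top J hPp h3
  have h5 := (isPGroup_quotient_iff (p := p) J).mp h4
  rw [hres] at h5
  exact top_le_iff.mp h5

/-- perfect central extension of a quasisimple group is quasisimple. -/
theorem quasisimple_of_central_ker {X Y : Type*} [Group X] [Group Y] (f : X →* Y)
    (hf : Function.Surjective f) (hker : f.ker ≤ center X) (hP : commutator X = ⊤)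
    (hY : IsQuasisimple Y) : IsQuasisimple X := by
  have h := (commutator_quasisimple_of_central_ker f hf hker hY).2
  rw [hP] at h
  exact quasisimple_of_mulEquiv Subgroup.topEquiv h

/-- transport of quasisimplicity of quotients. -/
theorem quasisimple_quot_congr {X Y : Type*} [Group X] [Group Y] (e : X ≃* Y)
    (N : Subgroup X) (M : Subgroup Y) [N.Normal] [M.Normal] (he : M = N.map e.toMonoidHom)
    (h : IsQuasisimple (X ⧸ N)) : IsQuasisimple (Y ⧸ M) :=
  quasisimple_of_mulEquiv (QuotientGroup.congr N M e he.symm) h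

/-! ### Core -/

section Core

variable {A : Type u} [Group A] [Finite A] {Q C : Subgroup A}

theorem comm_le_pCore_of_normal {D : Subgroup A} (hDn : D.Normal) (hQ : IsPGroup p Q)
    (hD : D ≤ normalizer (Q : Set A)) : ⁅D, Q⁆ ≤ pCore p A := by
  have hDnorm : Q ≤ normalizer (D : Set A) := by
    rw [Subgroup.normalizer_eq_top_iff.mpr hDn]; exact le_top
  have h1 : D ⊓ Q ≤ pCore p A := by
    apply le_pCore_of_isSubnormal
    · refine Subgroup.IsSubnormal.step (D ⊓ Q) D inf_le_left hDn.isSubnormal ?_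
      rw [Subgroup.normal_subgroupOf_iff_le_normalizer inf_le_left]
      intro d hd
      apply mem_normalizer_of_conj_mem
      rintro x ⟨hx1, hx2⟩
      exact ⟨hDn.conj_mem x hx1 d, conj_mem_of_mem_normalizer (hD hd) hx2⟩
    · exact hQ.to_le inf_le_right
  exact (commutator_le_inf_of_normalizes hDnorm hD).trans h1

omit [Finite A] in
/-- `[D, Q] ≤ O` for normal subgroups `D, O` gives `[D, ⟨Q^A⟩] ≤ O` -/
theorem comm_weakClosure_le {D O : Subgroup A} [hDn : D.Normal] [hOn : O.Normal] (L : Subgroup A)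
    (h : ⁅D, Q⁆ ≤ O) : ⁅D, weakClosure Q L⁆ ≤ O := by
  set π := QuotientGroup.mk' O with hπ
  have hsurj : Function.Surjective π := QuotientGroup.mk'_surjective _
  have hker : ∀ x, π x = 1 ↔ x ∈ O := fun x => by
    rw [hπ, QuotientGroup.mk'_apply, QuotientGroup.eq_one_iff]
  haveI hDπ : (D.map π).Normal := hDn.map π hsurj
  set Cn : Subgroup A := (centralizer ((D.map π : Subgroup _) : Set _)).comap π with hCn
  haveI hCnn : Cn.Normal := Subgroup.Normal.comap inferInstance π
  have hQC : Q ≤ Cn := by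
    intro q hq
    rw [hCn, Subgroup.mem_comap, Subgroup.mem_centralizer_iff]
    rintro _ ⟨d, hd, rfl⟩
    have h1 : π ⁅d, q⁆ = 1 := (hker _).mpr (h (Subgroup.commutator_mem_commutator hd hq))
    rw [map_commutatorElement, commutatorElement_eq_one_iff_commute] at h1
    exact h1
  have h2 : weakClosure Q L ≤ Cn := by
    refine iSup_le fun g => ?_
    rintro _ ⟨q, hq, rfl⟩
    exact hCnn.conj_mem q (hQC hq) g.1
  rw [Subgroup.commutator_le]
  intro d hd x hx
  have hx2 := h2 hx
  rw [hCn, Subgroup.mem_comap, Subgroup.mem_centralizer_iff] at hx2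
  have h3 := hx2 (π d) ⟨d, hd, rfl⟩
  apply (hker _).mp
  rw [map_commutatorElement, commutatorElement_eq_one_iff_commute]
  exact h3

theorem core (hC : C.Normal) (hQp : IsPGroup p Q) (hu : UniqueConj p Q)
    (hCQ : C ≤ normalizer (Q : Set A)) (hQC : ¬ Q ≤ C) (hred : pCore p (A ⧸ C) = ⊥)
    (hqs : IsQuasisimple ↥((pResidual p A).map (QuotientGroup.mk' C))) :
    pResidual p A ⊔ C = resOf p (weakClosure Q ⊤) ⊔ C ∧
    ⁅resOf p (weakClosure Q ⊤), resOf p (weakClosure Q ⊤)⁆ = resOf p (weakClosure Q ⊤) ∧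
    IsQuasisimple (↥(resOf p (weakClosure Q ⊤)) ⧸ C.subgroupOf (resOf p (weakClosure Q ⊤))) ∧
    IsQuasisimple (↥(resOf p (weakClosure Q ⊤)) ⧸ pCore p ↥(resOf p (weakClosure Q ⊤))) ∧
    ∀ Y : Subgroup A, IsPGroup p ↥Y → ¬ Y ≤ C →
      ⁅resOf p (weakClosure Q ⊤), Y⁆ = resOf p (weakClosure Q ⊤) := by
  set Ec : Subgroup A := weakClosure Q ⊤ with hEc
  set Er : Subgroup A := resOf p Ec with hEr
  set π := QuotientGroup.mk' C with hπ
  have hsurj : Function.Surjective π := QuotientGroup.mk'_surjective _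
  have hkerπ : π.ker = C := QuotientGroup.ker_mk' C
  set Lb : Subgroup (A ⧸ C) := (pResidual p A).map π with hLb
  have hLb2 : Lb = pResidual p (A ⧸ C) := map_pResidual_of_surjective π hsurj
  have hqs2 : IsQuasisimple ↥(pResidual p (A ⧸ C)) := by rw [← hLb2]; exact hqs
  have hAct : ∀ Y : Subgroup A, IsPGroup p ↥Y → ¬ Y ≤ C → ⁅Lb, Y.map π⁆ = Lb := by
    intro Y hY hYC
    rw [hLb2]
    refine comm_residual_eq hred hqs2 (hY.map π) ?_
    intro h
    rw [Subgroup.map_eq_bot_iff, hkerπ] at h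
    exact hYC h
  have hQX : Q ≤ (⊤ : Subgroup A) := le_top
  have hEcn : Ec.Normal := Subgroup.normalizer_eq_top_iff.mp
    (top_le_iff.mp (le_normalizer_weakClosure Q ⊤))
  have hErn : Er.Normal := Subgroup.normalizer_eq_top_iff.mp
    (top_le_iff.mp (le_normalizer_resOf_weakClosure le_rfl))
  have hEE : resOf p Er = Er := resOf_resOf _
  have hErQ : ⁅Er, Q⁆ = Er := commutator_resOf_weakClosure hQp hu hQX
  have hQcomm : ⁅(⊤ : Subgroup A), Q⁆ ≤ Ec := by
    rw [Subgroup.commutator_le]
    intro x _ q hq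
    rw [commutatorElement_def]
    refine Ec.mul_mem ?_ (Ec.inv_mem (le_weakClosure hQX hq))
    exact conj_le_weakClosure (g := x) (L := ⊤) le_top (conj_mem_conj hq)
  have hLbEc : Lb ≤ Ec.map π := by
    calc Lb = ⁅Lb, Q.map π⁆ := (hAct Q hQp hQC).symm
      _ ≤ ⁅(⊤ : Subgroup A).map π, Q.map π⁆ :=
        Subgroup.commutator_mono (Subgroup.map_mono le_top) le_rfl
      _ = (⁅(⊤ : Subgroup A), Q⁆).map π := (Subgroup.map_commutator _ _ _).symm
      _ ≤ Ec.map π := Subgroup.map_mono hQcomm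
  have hmapEr : Er.map π = Lb := by
    have e1 : Er.map π = resOf p (Ec.map π) := map_resOf π Ec
    have e2 : resOf p Lb = Lb := by
      rw [hLb2]
      show (pResidual p ↥(pResidual p (A ⧸ C))).map _ = _
      rw [pResidual_pResidual, ← MonoidHom.range_eq_map, Subgroup.range_subtype]
    apply le_antisymm
    · rw [e1, hLb2]; exact map_pResidual_subtype_le _
    · calc Lb = resOf p Lb := e2.symm
        _ ≤ resOf p (Ec.map π) := resOf_mono hLbEc
        _ = Er.map π := e1.symm
  have hcomap : ∀ {J : Subgroup A}, J.map π = Er.map π → Er ≤ J ⊔ C := by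
    intro J h
    have h1 := Subgroup.le_comap_map π Er
    rwa [← h, Subgroup.comap_map_eq, hkerπ] at h1
  have hfact : ∀ {J : Subgroup A}, J ≤ Er → Er ≤ J ⊔ C → ∀ x ∈ Er, ∃ j ∈ J, ∃ w ∈ Er ⊓ C, x = j * w := by
    intro J hJ h x hx
    have hx2 : x ∈ C ⊔ J := by rw [sup_comm]; exact h hx
    have hJC : J ≤ normalizer (C : Set A) := by
      rw [Subgroup.normalizer_eq_top_iff.mpr hC]; exact le_top
    obtain ⟨c, hc, j, hj, rfl⟩ := mem_sup_of_le_normalizer hJC hx2
    refine ⟨j, hj, j⁻¹ * c * j, ⟨?_, ?_⟩, by group⟩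
    · have : c ∈ Er := by
        have := Er.mul_mem hx (Er.inv_mem (hJ hj))
        simpa using this
      exact Er.mul_mem (Er.mul_mem (Er.inv_mem (hJ hj)) this) (hJ hj)
    · have := hC.conj_mem c hc j⁻¹
      simpa using this
  have hLbP : ⁅Lb, Lb⁆ = Lb := commutator_self_of_quasisimple hqs
  have hD : ⁅Er, Er⁆ = Er := by
    haveI hDn : (⁅Er, Er⁆).Normal := Subgroup.commutator_normal Er Er
    set D : Subgroup A := ⁅Er, Er⁆ with hDdef
    have hDEr : D ≤ Er := Subgroup.commutator_le_left Er Er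
    have hmapD : D.map π = Er.map π := by
      rw [hDdef, Subgroup.map_commutator, hmapEr, hLbP]
    have hfac := hfact hDEr (hcomap hmapD)
    set R : Subgroup A := ⁅Er ⊓ C, Q⁆ with hR
    have hRQ : R ≤ Q := commutator_le_right_of_le_normalizer (inf_le_right.trans hCQ)
    have hR2 : Er ≤ D ⊔ R := by
      calc Er = ⁅Er, Q⁆ := hErQ.symm
        _ ≤ D ⊔ R := by
          rw [Subgroup.commutator_le]
          intro x hx q hq
          obtain ⟨d, hd, w, hw, rfl⟩ := hfac x hx
          have e : ⁅d * w, q⁆ = (d * (⁅w, q⁆ * d⁻¹ * ⁅w, q⁆⁻¹)) * ⁅w, q⁆ * (d * (q * d⁻¹ * q⁻¹)) := by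
            simp only [commutatorElement_def]; group
          rw [e]
          refine Subgroup.mul_mem _ (Subgroup.mul_mem _ ?_ ?_) ?_
          · exact le_sup_left (a := D)
              (D.mul_mem hd (hDn.conj_mem _ (D.inv_mem hd) _))
          · exact le_sup_right (a := D) (Subgroup.commutator_mem_commutator hw hq)
          · exact le_sup_left (a := D)
              (D.mul_mem hd (hDn.conj_mem _ (D.inv_mem hd) _))
    have hRD : R ≤ normalizer (D : Set A) := by
      rw [Subgroup.normalizer_eq_top_iff.mpr hDn]; exact le_top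
    exact le_antisymm hDEr (le_of_resOf_eq_of_le_sup hEE (hQp.to_le hRQ) hRD hR2)
  haveI hPerf : Group.IsPerfect ↥Er := Subgroup.isPerfect_iff.mpr hD
  have hPX : commutator ↥Er = ⊤ := hPerf.commutator_eq_top
  have hresX : pResidual p ↥Er = ⊤ := by
    apply Subgroup.map_injective Er.subtype_injective
    rw [← MonoidHom.range_eq_map, Subgroup.range_subtype]
    exact hEE
  haveI hWn : (C.subgroupOf Er).Normal := inferInstance
  haveI hPn : (pCore p ↥Er).Normal := Cfsg.pCore_normal p _
  -- `[C, Er] ≤ O_p(Er)`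
  have hWc : ⁅C.subgroupOf Er, (⊤ : Subgroup ↥Er)⁆ ≤ pCore p ↥Er := by
    haveI hOn : (pCore p A).Normal := Cfsg.pCore_normal p A
    have h1 : ⁅C, Ec⁆ ≤ pCore p A :=
      comm_weakClosure_le ⊤ (comm_le_pCore_of_normal hC hQp hCQ)
    rw [Subgroup.commutator_le]
    intro x hx y _
    apply subgroupOf_pCore_le
    rw [Subgroup.mem_subgroupOf]
    exact h1 (Subgroup.commutator_mem_commutator (Subgroup.mem_subgroupOf.mp hx) (resOf_le Ec y.2))
  -- `O_p(Er) ≤ C`
  have hPW : pCore p ↥Er ≤ C.subgroupOf Er := by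
    have hPGn : (pCoreOf p Er).Normal := by
      apply Subgroup.normalizer_eq_top_iff.mp
      apply top_le_iff.mp
      intro g _
      rw [mem_normalizer_iff_map, pCoreOf_conj,
        mem_normalizer_iff_map.mp (show g ∈ normalizer (Er : Set A) by
          rw [Subgroup.normalizer_eq_top_iff.mpr hErn]; trivial)]
    have h1 : (pCoreOf p Er).map π ≤ pCore p (A ⧸ C) :=
      le_pCore (hPGn.map π hsurj) ((isPGroup_pCoreOf Er).map π)
    rw [hred, le_bot_iff, Subgroup.map_eq_bot_iff, hkerπ] at h1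
    intro x hx
    rw [Subgroup.mem_subgroupOf]
    exact h1 ⟨x, hx, rfl⟩
  have hq4 : IsQuasisimple (↥Er ⧸ C.subgroupOf Er) := by
    let f : ↥Er →* ↥Lb := (π.comp Er.subtype).codRestrict Lb (fun x => by
      rw [← hmapEr]; exact ⟨x, x.2, rfl⟩)
    have hf : Function.Surjective f := by
      intro y
      have hy : (y : A ⧸ C) ∈ Er.map π := by rw [hmapEr]; exact y.2
      obtain ⟨x, hx, hxy⟩ := hy
      exact ⟨⟨x, hx⟩, Subtype.ext hxy⟩
    have hker : f.ker = C.subgroupOf Er := by
      ext x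
      rw [MonoidHom.mem_ker, Subgroup.mem_subgroupOf, Subtype.ext_iff]
      show π x = 1 ↔ _
      rw [← MonoidHom.mem_ker, hkerπ]
    exact quasisimple_of_mulEquiv
      ((QuotientGroup.quotientKerEquivOfSurjective f hf).symm.trans
        (QuotientGroup.quotientMulEquivOfEq hker)) hqs
  refine ⟨?_, hD, hq4, ?_, ?_⟩
  · have h1 : (pResidual p A).map π = Er.map π := hmapEr.symm
    have h2 := congrArg (Subgroup.comap π) h1
    rwa [Subgroup.comap_map_eq, Subgroup.comap_map_eq, hkerπ] at h2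
  · let f₂ : (↥Er ⧸ pCore p ↥Er) →* (↥Er ⧸ C.subgroupOf Er) :=
      QuotientGroup.map _ _ (MonoidHom.id _) hPW
    have hf₂ : Function.Surjective f₂ := by
      intro z
      obtain ⟨x, rfl⟩ := QuotientGroup.mk'_surjective _ z
      exact ⟨QuotientGroup.mk x, rfl⟩
    refine quasisimple_of_central_ker f₂ hf₂ ?_ ?_ hq4
    · intro z hz
      obtain ⟨x, rfl⟩ := QuotientGroup.mk'_surjective _ z
      rw [Subgroup.mem_center_iff]
      intro w
      obtain ⟨y, rfl⟩ := QuotientGroup.mk'_surjective _ w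
      have hx : x ∈ C.subgroupOf Er := by
        have h1 : f₂ (QuotientGroup.mk' _ x) = 1 := hz
        exact (QuotientGroup.eq_one_iff x).mp h1
      have h2 : QuotientGroup.mk' (pCore p ↥Er) ⁅x, y⁆ = 1 := by
        rw [QuotientGroup.mk'_apply, QuotientGroup.eq_one_iff]
        exact hWc (Subgroup.commutator_mem_commutator hx (Subgroup.mem_top y))
      rw [map_commutatorElement, commutatorElement_eq_one_iff_commute] at h2
      exact h2.symm
    · exact (inferInstance : Group.IsPerfect (↥Er ⧸ pCore p ↥Er)).commutator_eq_top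
  · intro Y hY hYC
    set J : Subgroup A := ⁅Er, Y⁆ with hJdef
    have hJEr : J ≤ Er := Subgroup.commutator_le_left Er Y
    have hmapJ : J.map π = Er.map π := by
      rw [hJdef, Subgroup.map_commutator, hmapEr, hAct Y hY hYC]
    have hfac := hfact hJEr (hcomap hmapJ)
    haveI hJn : (J.subgroupOf Er).Normal :=
      (FrakH.normal_subgroupOf_iff hJEr).mpr (le_normalizer_commutator_left Er Y)
    have hsup : J.subgroupOf Er ⊔ C.subgroupOf Er = ⊤ := by
      rw [eq_top_iff]
      rintro x -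
      obtain ⟨j, hj, w, hw, hx⟩ := hfac x x.2
      have : x = ⟨j, hJEr hj⟩ * ⟨w, hw.1⟩ := Subtype.ext hx
      rw [this]
      exact Subgroup.mul_mem _ (le_sup_left (a := J.subgroupOf Er) (Subgroup.mem_subgroupOf.mpr hj))
        (le_sup_right (a := J.subgroupOf Er) (Subgroup.mem_subgroupOf.mpr hw.2))
    have h1 : J.subgroupOf Er = ⊤ :=
      eq_top_of_sup_central_mod hPX hresX (pCore_isPGroup (p := p) (G := ↥Er)) hWc hsup
    exact le_antisymm hJEr (Subgroup.subgroupOf_eq_top.mp h1)

end Core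

/-- the weak closure of a subgroup `Q ≤ H` with unique conjugates can be computed in `H`. -/
theorem map_weakClosure_subgroupOf {G : Type u} [Group G] [Finite G] {Q H : Subgroup G}
    (hQp : IsPGroup p Q) (hu : UniqueConj p Q) (hQH : Q ≤ H) (L : Subgroup ↥H)
    (hQL : Q.subgroupOf H ≤ L) :
    (weakClosure (Q.subgroupOf H) L).map H.subtype = weakClosure Q (L.map H.subtype) := by
  have mQ' : (Q.subgroupOf H).map H.subtype = Q := Subgroup.map_subgroupOf_eq_of_le hQH
  have hQL2 : Q ≤ L.map H.subtype := by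
    rw [← mQ']; exact Subgroup.map_mono hQL
  apply le_antisymm
  · rw [Subgroup.map_le_iff_le_comap]
    apply weakClosure_le
    intro g hg
    rw [← Subgroup.map_le_iff_le_comap]
    have e := Cfsg.Agent.Lib.LocalStruct.BasicProp.map_subtype_conj_subgroupOf hQH g
    have hg2 : Q.map (MulAut.conj (g : G)).toMonoidHom ≤ L.map H.subtype := by
      rw [← e]; exact Subgroup.map_mono hg
    rw [e]
    exact conj_le_weakClosure hg2
  · apply weakClosure_le
    intro g hg
    obtain ⟨k, hk, e⟩ := hu.exists_conj_of_le hQp hQL2 hg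
    obtain ⟨k', hk', rfl⟩ := hk
    rw [e]
    have hk2 : (Q.subgroupOf H).map (MulAut.conj k').toMonoidHom ≤ L := conj_le_of_mem hQL hk'
    have e3 := Subgroup.map_mono (f := H.subtype) (conj_le_weakClosure hk2)
    rwa [Cfsg.Agent.Lib.LocalStruct.BasicProp.map_subtype_conj_subgroupOf hQH k'] at e3

end Cfsg.Agent.Lib.LocalStruct.LargeQS
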