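/-
The trace (relative norm) argument on elementary abelian subgroups.
-/
import Cfsg.Agent.Lib.PReduced.RelNorm
import Cfsg.Agent.Lib.LocalStruct.PReducedOf

set_option autoImplicit false

namespace Cfsg.Agent.Lib.LocalStruct.Trace

open Subgroup Cfsg Cfsg.Agent.Lib.Core.Basic Cfsg.Agent.Lib.Core.Residual
  Cfsg.Agent.Lib.LocalStruct.Basic Cfsg.Agent.Lib.LocalStruct.Comm
  Cfsg.Agent.Lib.LocalStruct.PClosed Cfsg.Agent.Lib.PReduced.RelNorm
open scoped commutatorElement

universe u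

variable {p : ℕ} [Fact p.Prime] {G : Type u} [Group G] [Finite G]

/-- The trace argument. -/
theorem trace_mem {V R X T : Subgroup G} (hV : IsElementaryAbelian p V)
    (hRV : R ≤ normalizer (V : Set G)) (hTV : T ≤ normalizer (V : Set G))
    (hTR : T ≤ normalizer (R : Set G)) (hTX : T ≤ normalizer (X : Set G)) {a : G} (ha : a ∈ V)
    (haX : ∀ x ∈ X, x * a = a * x) (haT : ∀ t ∈ T, t * a = a * t)
    (hind : ¬ p ∣ X.relIndex R) :
    a ∈ (V ⊓ centralizer (R : Set G) ⊓ centralizer (T : Set G)) ⊔ ⁅V, R⁆ := by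
  haveI : IsMulCommutative V := hV.1
  set b : V := relNorm V R X hRV ⟨a, ha⟩ with hb
  have hbR : (b : G) ∈ centralizer (R : Set G) := relNorm_mem_centralizer hRV _ haX
  have hbT : (b : G) ∈ centralizer (T : Set G) := by
    rw [Subgroup.mem_centralizer_iff]
    intro t ht
    have h1 := relNorm_equivariant hRV t (hTV ht) (hTR ht) (hTX ht) ⟨a, ha⟩ haX
    have h2 : (⟨t * a * t⁻¹, conj_mem_of_normalizer (hTV ht) ha⟩ : V) = ⟨a, ha⟩ := by
      apply Subtype.ext
      show t * a * t⁻¹ = a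
      rw [haT t ht]
      group
    rw [h2] at h1
    calc t * (b : G) = t * (b : G) * t⁻¹ * t := by group
      _ = _ := by rw [h1]
  have h3 := relNorm_div_pow_mem (X := X) hRV ⟨a, ha⟩ ⁅V, R⁆ (by
    intro r hr
    have h4 := Subgroup.commutator_mem_commutator ha hr
    have h5 := (⁅V, R⁆ : Subgroup G).inv_mem h4
    have e : (⁅a, r⁆)⁻¹ = r * a * r⁻¹ * a⁻¹ := by
      simp [commutatorElement_def]
      group
    rwa [e] at h5)
  set m : ℕ := X.relIndex R with hm
  have hma : a ^ m ∈ (V ⊓ centralizer (R : Set G) ⊓ centralizer (T : Set G)) ⊔ ⁅V, R⁆ := by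
    have e : a ^ m = ((b : G) * (a ^ m)⁻¹)⁻¹ * (b : G) := by group
    rw [e]
    refine Subgroup.mul_mem _ (Subgroup.mem_sup_right (Subgroup.inv_mem _ h3)) ?_
    exact Subgroup.mem_sup_left ⟨⟨b.2, hbR⟩, hbT⟩
  have hc : (orderOf a).Coprime m := by
    have h6 : orderOf a ∣ p := orderOf_dvd_of_pow_eq_one (hV.2 a ha)
    have h7 : Nat.Coprime p m := (Nat.Prime.coprime_iff_not_dvd Fact.out).mpr hind
    exact Nat.Coprime.coprime_dvd_left h6 h7
  exact Cfsg.Agent.Lib.PReduced.Basic.mem_of_pow_mem_of_coprime hc hma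

end Cfsg.Agent.Lib.LocalStruct.Trace
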