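/-
Transitive families of subgroups generating `H` modulo `O_p(H)`: `p`-minimality.
-/
import Cfsg.Agent.Lib.LocalStruct.LargeQS
import Cfsg.Agent.Lib.LocalStruct.Minimal

set_option autoImplicit false

namespace Cfsg.Agent.Lib.LocalStruct.TransFam

open Subgroup Cfsg Cfsg.Agent.Lib.Core.Basic Cfsg.Agent.Lib.Core.Residual
  Cfsg.Agent.Lib.LocalStruct.Basic Cfsg.Agent.Lib.LocalStruct.Comm
  Cfsg.Agent.Lib.LocalStruct.WeakClosed Cfsg.Agent.Lib.LocalStruct.PCoreOf
  Cfsg.Agent.Lib.LocalStruct.PClosed Cfsg.Agent.Lib.LocalStruct.FrakH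
  Cfsg.Agent.Lib.LocalStruct.Large2 Cfsg.Agent.Lib.LocalStruct.WeakFact
  Cfsg.Agent.Lib.LocalStruct.Minimal
open scoped commutatorElement

universe u

variable {H : Type u} [Group H]

/-- `M` is the unique maximal subgroup of `F` over `S`. -/
def IsUMax (F S M : Subgroup H) : Prop :=
  M ≤ F ∧ S ≤ M ∧ M ≠ F ∧ ∀ X : Subgroup H, S ≤ X → X ≤ F → X ≠ F → X ≤ M

theorem IsUMax.eq {F S M₁ M₂ : Subgroup H} (h1 : IsUMax F S M₁) (h2 : IsUMax F S M₂) : M₁ = M₂ :=
  le_antisymm (h2.2.2.2 M₁ h1.2.1 h1.1 h1.2.2.1) (h1.2.2.2 M₂ h2.2.1 h2.1 h2.2.2.1)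

theorem IsUMax.conj {F S M : Subgroup H} (h : IsUMax F S M) (g : H) :
    IsUMax (F.map (MulAut.conj g).toMonoidHom) (S.map (MulAut.conj g).toMonoidHom)
      (M.map (MulAut.conj g).toMonoidHom) := by
  obtain ⟨h1, h2, h3, h4⟩ := h
  refine ⟨map_conj_mono g h1, map_conj_mono g h2, ?_, ?_⟩
  · intro e
    apply h3
    exact Subgroup.map_injective (MulAut.conj g).injective e
  · intro X hSX hXF hne
    have h5 : X.map (MulAut.conj g⁻¹).toMonoidHom ≤ M := by
      apply h4
      · rw [← map_conj_le_iff g, map_conj_map_conj_inv]; exact hSX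
      · rw [← map_conj_le_iff g, map_conj_map_conj_inv]; exact hXF
      · intro e
        apply hne
        rw [← e, map_conj_map_conj_inv]
    rw [← map_conj_le_iff g⁻¹, map_conj_inv_map_conj]
    exact h5

variable [Finite H] {p : ℕ} [Fact p.Prime]

/-- Sylow subgroup of a subnormal subgroup by intersection. -/
theorem exists_sylow_inf_chain (T : Sylow p H) {R F : Subgroup H} (hR : R.Normal) (hF : F ≤ R)
    (hRF : R ≤ normalizer (F : Set H)) :
    ∃ S : Sylow p ↥F, (S : Subgroup ↥F).map F.subtype = (T : Subgroup H) ⊓ F := by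
  obtain ⟨T₁, hT₁⟩ := exists_sylow_inf T (K := R) (by
    rw [Subgroup.normalizer_eq_top]; exact le_top)
  have e1 : (T₁ : Subgroup ↥R) = (T : Subgroup H).subgroupOf R := by
    apply Subgroup.map_injective R.subtype_injective
    rw [hT₁, Subgroup.subgroupOf_map_subtype]
  have h1 := not_dvd_relIndex_of_le_normalizer T₁ (K := F.subgroupOf R) (by
    rw [(Subgroup.normalizer_eq_top_iff.mpr
      ((FrakH.normal_subgroupOf_iff hF).mpr hRF))]; exact le_top)
  have h2 : (T₁ : Subgroup ↥R).relIndex (F.subgroupOf R) = (T : Subgroup H).relIndex F := by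
    rw [e1]
    change ((T : Subgroup H).comap R.subtype).relIndex (F.comap R.subtype) = _
    rw [Subgroup.relIndex_comap, Subgroup.map_comap_eq_self]
    simpa using hF
  rw [h2] at h1
  have hp : IsPGroup p ((T : Subgroup H).subgroupOf F) :=
    T.isPGroup'.comap_of_injective _ F.subtype_injective
  refine ⟨hp.toSylow h1, ?_⟩
  change ((T : Subgroup H).subgroupOf F).map F.subtype = _
  rw [Subgroup.subgroupOf_map_subtype]

omit [Finite H] [Fact p.Prime] in
theorem exists_mul_of_mem_sup {E O : Subgroup H} (hO : O.Normal) {x : H} (hx : x ∈ E ⊔ O) :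
    ∃ e ∈ E, ∃ o ∈ O, x = e * o := by
  have hx2 : x ∈ O ⊔ E := by rwa [sup_comm]
  have hE : E ≤ normalizer (O : Set H) := by
    rw [Subgroup.normalizer_eq_top_iff.mpr hO]; exact le_top
  exact mem_sup_of_le_normalizer' hE hx2

theorem exists_isUMax_sup {E O S F : Subgroup H} (hF : F = E ⊔ O) (hO : O.Normal)
    (hOp : IsPGroup p O) (hE : ∀ T : Sylow p ↥E, IsMinimalOver (T : Subgroup ↥E))
    (S' : Sylow p ↥F) (hS : (S' : Subgroup ↥F).map F.subtype = S) :
    ∃ M : Subgroup H, IsUMax F S M ∧ ¬ F ≤ normalizer (M : Set H) := by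
  have hOF : O ≤ F := hF ▸ le_sup_right
  have hEF : E ≤ F := hF ▸ le_sup_left
  have hFE : F ≤ E ⊔ O := hF.le
  have hSF : S ≤ F := by
    rw [← hS]; rintro _ ⟨x, -, rfl⟩; exact x.2
  have hSmem : ∀ x : ↥F, x ∈ (S' : Subgroup ↥F) ↔ (x : H) ∈ S := by
    intro x
    rw [← hS]
    constructor
    · intro hx; exact ⟨x, hx, rfl⟩
    · rintro ⟨y, hy, hyx⟩
      have : y = x := Subtype.ext hyx
      rwa [← this]
  have hOS : O ≤ S := by
    intro x hx
    have h1 : O.subgroupOf F ≤ pCore p ↥F :=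
      le_pCore inferInstance (hOp.comap_of_injective _ F.subtype_injective)
    have h2 := pCore_le_sylow S' (h1 (Subgroup.mem_subgroupOf.mpr hx : (⟨x, hOF hx⟩ : ↥F) ∈ _))
    exact (hSmem _).mp h2
  have hSp : IsPGroup p ↥S := by
    rw [← hS]; exact S'.isPGroup'.map _
  obtain ⟨T, hT⟩ := (hSp.comap_of_injective E.subtype E.subtype_injective :
    IsPGroup p ↥(S.subgroupOf E)).exists_le_sylow
  set P : Subgroup H := (T : Subgroup ↥E).map E.subtype with hP
  have hPp : IsPGroup p ↥P := T.isPGroup'.map _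
  have hPO : IsPGroup p ↥(P ⊔ O) := IsPGroup.to_sup_of_normal_right hPp hOp
  have hSPO : S ≤ P ⊔ O := by
    intro x hx
    obtain ⟨e, he, o, ho, rfl⟩ := exists_mul_of_mem_sup hO (hFE (hSF hx))
    have h1 : e ∈ S := by
      have := S.mul_mem hx (S.inv_mem (hOS ho))
      simpa using this
    have h2 : (⟨e, he⟩ : ↥E) ∈ (T : Subgroup ↥E) := hT (Subgroup.mem_subgroupOf.mpr h1)
    exact Subgroup.mul_mem _ (le_sup_left (a := P) ⟨_, h2, rfl⟩) (le_sup_right (a := P) ho)
  have hPOF : P ⊔ O ≤ F := by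
    apply sup_le _ hOF
    rintro _ ⟨x, -, rfl⟩
    exact hEF x.2
  have hPS : P ≤ S := by
    have h1 : IsPGroup p ↥((P ⊔ O).subgroupOf F) :=
      hPO.comap_of_injective _ F.subtype_injective
    have h2 : (S' : Subgroup ↥F) ≤ (P ⊔ O).subgroupOf F := by
      intro x hx
      exact Subgroup.mem_subgroupOf.mpr (hSPO ((hSmem x).mp hx))
    have h3 := S'.is_maximal' h1 h2
    intro y hy
    have hy2 : y ∈ P ⊔ O := le_sup_left (a := P) hy
    have h4 : (⟨y, hPOF hy2⟩ : ↥F) ∈ (P ⊔ O).subgroupOf F := Subgroup.mem_subgroupOf.mpr hy2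
    rw [h3] at h4
    exact (hSmem _).mp h4
  have hTmem : ∀ x : ↥E, x ∈ (T : Subgroup ↥E) ↔ (x : H) ∈ S := by
    intro x
    constructor
    · intro hx; exact hPS ⟨x, hx, rfl⟩
    · intro hx; exact hT (Subgroup.mem_subgroupOf.mpr hx)
  have hmin := hE T
  obtain ⟨M₀, ⟨hM₁, hM₂⟩, -⟩ := hmin.2
  set M : Subgroup H := M₀.map E.subtype ⊔ O with hM
  have hEO : ∀ x : ↥E, (x : H) ∈ O → x ∈ M₀ := fun x hx => hM₂ ((hTmem x).mpr (hOS hx))
  have hMmem : ∀ x : ↥E, (x : H) ∈ M → x ∈ M₀ := by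
    intro x hx
    obtain ⟨m, hm, o, ho, hxe⟩ := exists_mul_of_mem_sup hO hx
    obtain ⟨m', hm', rfl⟩ := hm
    have h1 : (m' : H)⁻¹ * x = o := by
      rw [show ((x : H)) = _ from hxe]
      simp
    have h2 : m'⁻¹ * x ∈ M₀ := by
      apply hEO
      show (m' : H)⁻¹ * x ∈ O
      rw [h1]; exact ho
    have := M₀.mul_mem hm' h2
    simpa using this
  have hMF : M ≠ F := by
    intro e
    apply hM₁.1
    rw [eq_top_iff]
    intro x _
    apply hMmem
    rw [e]
    exact hEF x.2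
  have hmax : ∀ X : Subgroup H, S ≤ X → X ≤ F → X ≠ F → X ≤ M := by
    intro X hSX hXF hne
    have h1 : X.subgroupOf E ≠ ⊤ := by
      intro ht
      apply hne
      apply le_antisymm hXF
      rw [hF]
      exact sup_le (Subgroup.subgroupOf_eq_top.mp ht) (hOS.trans hSX)
    have h2 : (T : Subgroup ↥E) ≤ X.subgroupOf E := fun x hx =>
      Subgroup.mem_subgroupOf.mpr (hSX ((hTmem x).mp hx))
    have h3 := le_of_minimalOver hmin hM₁ hM₂ h2 h1
    intro x hx
    obtain ⟨e, he, o, ho, rfl⟩ := exists_mul_of_mem_sup hO (hFE (hXF hx))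
    have h4 : e ∈ X := by
      have := X.mul_mem hx (X.inv_mem (hSX (hOS ho)))
      simpa using this
    exact Subgroup.mul_mem _
      (le_sup_left (a := M₀.map E.subtype) ⟨⟨e, he⟩, h3 (Subgroup.mem_subgroupOf.mpr h4), rfl⟩)
      (le_sup_right (a := M₀.map E.subtype) ho)
  have hSM : S ≤ M := by
    intro x hx
    obtain ⟨e, he, o, ho, rfl⟩ := exists_mul_of_mem_sup hO (hFE (hSF hx))
    have h1 : e ∈ S := by
      have := S.mul_mem hx (S.inv_mem (hOS ho))
      simpa using this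
    exact Subgroup.mul_mem _
      (le_sup_left (a := M₀.map E.subtype) ⟨⟨e, he⟩, hM₂ ((hTmem _).mpr h1), rfl⟩)
      (le_sup_right (a := M₀.map E.subtype) ho)
  have hMleF : M ≤ F := by
    apply sup_le _ hOF
    rintro _ ⟨x, -, rfl⟩
    exact hEF x.2
  refine ⟨M, ⟨hMleF, hSM, hMF, hmax⟩, ?_⟩
  intro hn
  apply not_normal_of_minimalOver hmin hM₂ hM₁.1
  constructor
  intro m hm e
  apply hMmem
  have h1 : ((e : H) ∈ normalizer (M : Set H)) := hn (hEF e.2)
  have h2 : (m : H) ∈ M := le_sup_left (a := M₀.map E.subtype) ⟨m, hm, rfl⟩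
  exact conj_mem_of_mem_normalizer h1 h2

section Part1

variable {𝒦 : Set (Subgroup H)}

omit [Finite H] [Fact p.Prime] in
theorem sSup_normal (hinv : ∀ h : H, ∀ E ∈ 𝒦, E.map (MulAut.conj h).toMonoidHom ∈ 𝒦) :
    (sSup 𝒦).Normal := by
  constructor
  intro n hn g
  have h1 : sSup 𝒦 ≤ (sSup 𝒦).comap (MulAut.conj g).toMonoidHom := by
    apply sSup_le
    intro E hE x hx
    rw [Subgroup.mem_comap]
    exact (le_sSup (hinv g E hE)) ⟨x, hx, rfl⟩
  exact h1 hn

omit [Fact p.Prime] in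
theorem exists_subgroup_of_mul_closed (P : H → Prop) (h1 : P 1) (hm : ∀ a b, P a → P b → P (a * b)) :
    ∃ W : Subgroup H, ∀ x, x ∈ W ↔ P x := by
  have hpow : ∀ a, P a → ∀ n : ℕ, P (a ^ n) := by
    intro a ha n
    induction n with
    | zero => simpa using h1
    | succ n ih => rw [pow_succ]; exact hm _ _ ih ha
  refine ⟨{ carrier := {x | P x}, one_mem' := h1, mul_mem' := fun {a b} ha hb => hm a b ha hb,
            inv_mem' := fun {a} ha => ?_ }, fun x => Iff.rfl⟩
  have h2 : a⁻¹ = a ^ (orderOf a - 1) := by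
    apply inv_eq_of_mul_eq_one_right
    rw [← pow_succ', Nat.sub_add_cancel (orderOf_pos a), pow_orderOf_eq_one]
  show P a⁻¹
  rw [h2]
  exact hpow a ha _

theorem part1 (hne : 𝒦.Nonempty)
    (hinv : ∀ h : H, ∀ E ∈ 𝒦, E.map (MulAut.conj h).toMonoidHom ∈ 𝒦)
    (htr : ∀ E ∈ 𝒦, ∀ K ∈ 𝒦, ∃ h : H, K = E.map (MulAut.conj h).toMonoidHom)
    (hres : pResidual p H ≤ sSup 𝒦)
    (hnorm : ∀ E ∈ 𝒦, sSup 𝒦 ⊔ pCore p H ≤ normalizer ((E ⊔ pCore p H : Subgroup H) : Set H))
    (hmin : ∀ E ∈ 𝒦, ∀ T : Sylow p ↥E, IsMinimalOver (T : Subgroup ↥E)) (T : Sylow p H) :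
    IsMinimalOver (T : Subgroup H) := by
  set O : Subgroup H := pCore p H with hO
  set R : Subgroup H := sSup 𝒦 with hR
  have hRn : R.Normal := sSup_normal hinv
  have hOn : O.Normal := Cfsg.pCore_normal p H
  have hOp : IsPGroup p O := pCore_isPGroup
  have hOT : O ≤ (T : Subgroup H) := pCore_le_sylow T
  have hTR : (T : Subgroup H) ⊔ R = ⊤ := by
    apply top_le_iff.mp
    rw [← sylow_sup_pResidual T]
    exact sup_le_sup_left hres _
  have hconjO : ∀ h : H, O.map (MulAut.conj h).toMonoidHom = O := fun h =>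
    mem_normalizer_iff_map.mp (by rw [Subgroup.normalizer_eq_top_iff.mpr hOn]; trivial)
  have hFconj : ∀ (E : Subgroup H) (h : H),
      (E ⊔ O).map (MulAut.conj h).toMonoidHom = E.map (MulAut.conj h).toMonoidHom ⊔ O := by
    intro E h
    rw [Subgroup.map_sup, hconjO]
  constructor
  · rw [eq_top_iff, ← hTR]
    have hNn : (normalClosure ((T : Subgroup H) : Set H)).Normal := Subgroup.normalClosure_normal
    have hTN : (T : Subgroup H) ≤ normalClosure ((T : Subgroup H) : Set H) :=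
      Subgroup.le_normalClosure
    refine sup_le hTN (sSup_le ?_)
    intro E hE
    obtain ⟨TE⟩ : Nonempty (Sylow p ↥E) := inferInstance
    have h1 : (TE : Subgroup ↥E).map E.subtype ≤ normalClosure ((T : Subgroup H) : Set H) := by
      obtain ⟨g, hg⟩ := exists_le_conj_sylow T (TE.isPGroup'.map E.subtype)
      refine hg.trans ?_
      rintro _ ⟨x, hx, rfl⟩
      exact hNn.conj_mem x (hTN hx) g
    have h2 : normalClosure ((TE : Subgroup ↥E) : Set ↥E) ≤
        (normalClosure ((T : Subgroup H) : Set H)).subgroupOf E := by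
      apply Subgroup.normalClosure_le_normal
      intro x hx
      exact Subgroup.mem_subgroupOf.mpr (h1 ⟨x, hx, rfl⟩)
    rw [(hmin E hE TE).1] at h2
    exact Subgroup.subgroupOf_eq_top.mp (top_le_iff.mp h2)
  · have hexist : ∀ E ∈ 𝒦, ∃ M : Subgroup H, IsUMax (E ⊔ O) ((T : Subgroup H) ⊓ (E ⊔ O)) M ∧
        ¬ (E ⊔ O) ≤ normalizer (M : Set H) := by
      intro E hE
      have hE1 : E ⊔ O ≤ R ⊔ O := sup_le_sup_right (le_sSup hE) _
      obtain ⟨S, hS⟩ := exists_sylow_inf_chain T (Subgroup.sup_normal R O) hE1 (hnorm E hE)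
      exact exists_isUMax_sup rfl hOn hOp (hmin E hE) S hS
    let Pr : Subgroup H → Subgroup H → Prop := fun F M =>
      (∃ E ∈ 𝒦, F = E ⊔ O) ∧ IsUMax F ((T : Subgroup H) ⊓ F) M
    obtain ⟨W, hW⟩ := exists_subgroup_of_mul_closed
      (fun h : H => ∀ F M, Pr F M →
        Pr (F.map (MulAut.conj h).toMonoidHom) (M.map (MulAut.conj h).toMonoidHom))
      (by
        intro F M h
        simpa only [map_conj_one] using h)
      (by
        intro a b ha hb F M h
        rw [map_conj_mul, map_conj_mul]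
        exact ha _ _ (hb _ _ h))
    have hPrF : ∀ {F M : Subgroup H} (h : H), (∃ E ∈ 𝒦, F = E ⊔ O) →
        ∃ E ∈ 𝒦, F.map (MulAut.conj h).toMonoidHom = E ⊔ O := by
      rintro F M h ⟨E, hE, rfl⟩
      exact ⟨_, hinv h E hE, hFconj E h⟩
    have hTW : (T : Subgroup H) ≤ W := by
      intro t ht
      rw [hW]
      intro F M h
      refine ⟨hPrF (M := M) t h.1, ?_⟩
      have h1 := h.2.conj t
      have h2 : ((T : Subgroup H) ⊓ F).map (MulAut.conj t).toMonoidHom =
          (T : Subgroup H) ⊓ F.map (MulAut.conj t).toMonoidHom := by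
        rw [Subgroup.map_inf _ _ _ (MulAut.conj t).injective,
          mem_normalizer_iff_map.mp (Subgroup.le_normalizer ht)]
      rwa [h2] at h1
    have hTtrans : ∀ E ∈ 𝒦, ∀ K ∈ 𝒦, ∃ t ∈ (T : Subgroup H),
        K ⊔ O = (E ⊔ O).map (MulAut.conj t).toMonoidHom := by
      intro E hE K hK
      obtain ⟨h, rfl⟩ := htr E hE K hK
      have hh : h ∈ R ⊔ (T : Subgroup H) := by rw [sup_comm, hTR]; trivial
      obtain ⟨t, ht, r, hr, rfl⟩ := mem_sup_of_le_normalizer'
        (by rw [Subgroup.normalizer_eq_top_iff.mpr hRn]; exact le_top :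
          (T : Subgroup H) ≤ normalizer (R : Set H)) hh
      refine ⟨t, ht, ?_⟩
      rw [← hFconj, map_conj_mul, mem_normalizer_iff_map.mp
        (hnorm E hE (le_sup_left (a := R) hr))]
    have hX : ∀ X : Subgroup H, (T : Subgroup H) ≤ X → X ≠ ⊤ → X ≤ W := by
      intro X hTX hXne x hx
      rw [hW]
      intro F M h
      obtain ⟨⟨E, hE, rfl⟩, hM⟩ := h
      have hE' := hinv x E hE
      refine ⟨⟨_, hE', hFconj E x⟩, ?_⟩
      rw [hFconj]
      obtain ⟨M', hM', -⟩ := hexist _ hE'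
      set F' : Subgroup H := E.map (MulAut.conj x).toMonoidHom ⊔ O with hF'
      have hXF' : ¬ F' ≤ X := by
        intro hle
        apply hXne
        rw [eq_top_iff, ← hTR]
        refine sup_le hTX (sSup_le ?_)
        intro K hK
        obtain ⟨t, ht, e⟩ := hTtrans _ hE' K hK
        have h1 : K ≤ K ⊔ O := le_sup_left
        rw [e] at h1
        exact h1.trans
          ((map_conj_mono t hle).trans (conj_le_of_mem le_rfl (hTX ht)))
      have h1 : X ⊓ F' ≤ M' := by
        apply hM'.2.2.2 _ (inf_le_inf_right _ hTX) inf_le_right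
        intro e
        apply hXF'
        rw [← e]; exact inf_le_left
      have hS₂ := hM.conj x
      rw [hFconj] at hS₂
      have h2 : ((T : Subgroup H) ⊓ (E ⊔ O)).map (MulAut.conj x).toMonoidHom ≤ X ⊓ F' := by
        apply le_inf
        · exact (map_conj_mono x inf_le_left).trans (conj_le_of_mem hTX hx)
        · rw [hF', ← hFconj]; exact map_conj_mono x inf_le_right
      have h3 : M' ≤ M.map (MulAut.conj x).toMonoidHom :=
        hS₂.2.2.2 M' (h2.trans h1) hM'.1 hM'.2.2.1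
      have h5 : M.map (MulAut.conj x).toMonoidHom ≤ M' :=
        hM'.2.2.2 _ (hM'.2.1.trans h3) hS₂.1 hS₂.2.2.1
      rw [le_antisymm h5 h3]
      exact hM'
    have hWne : W ≠ ⊤ := by
      intro ht
      obtain ⟨E, hE⟩ := hne
      obtain ⟨M, hM, hnn⟩ := hexist E hE
      apply hnn
      intro f hf
      have hfW : f ∈ W := by rw [ht]; trivial
      rw [hW] at hfW
      have h1 := (hfW _ M ⟨⟨E, hE, rfl⟩, hM⟩).2
      have hFf : (E ⊔ O).map (MulAut.conj f).toMonoidHom = E ⊔ O :=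
        mem_normalizer_iff_map.mp (Subgroup.le_normalizer hf)
      rw [hFf] at h1
      show f ∈ normalizer (M : Set H)
      rw [mem_normalizer_iff_map]
      exact h1.eq hM
    obtain ⟨M₀, hM₀, hWM₀⟩ := exists_coatom_ge hWne
    have hM₀W : M₀ ≤ W := hX M₀ (hTW.trans hWM₀) hM₀.1
    have hWe : W = M₀ := le_antisymm hWM₀ hM₀W
    refine ⟨W, ⟨hWe ▸ hM₀, hTW⟩, ?_⟩
    rintro M₁ ⟨hM₁, hTM₁⟩
    have h1 := hX M₁ hTM₁ hM₁.1
    by_contra hne2
    have h2 : M₁ < W := lt_of_le_of_ne h1 hne2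
    have h3 := hM₁.2 W h2
    exact hWne h3

end Part1

end Cfsg.Agent.Lib.LocalStruct.TransFam
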