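/-
Transitive families of strongly `p`-irreducible subgroups, in the quotient by `O_p`.
-/
import Cfsg.Agent.Lib.LocalStruct.TransFam

set_option autoImplicit false

namespace Cfsg.Agent.Lib.LocalStruct.TransFam2

open Subgroup Cfsg Cfsg.Agent.Lib.Core.Basic Cfsg.Agent.Lib.Core.Residual
  Cfsg.Agent.Lib.LocalStruct.Basic Cfsg.Agent.Lib.LocalStruct.Comm
  Cfsg.Agent.Lib.LocalStruct.WeakClosed Cfsg.Agent.Lib.LocalStruct.PCoreOf
  Cfsg.Agent.Lib.LocalStruct.PClosed Cfsg.Agent.Lib.LocalStruct.FrakH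
  Cfsg.Agent.Lib.LocalStruct.Large2 Cfsg.Agent.Lib.LocalStruct.WeakFact
  Cfsg.Agent.Lib.LocalStruct.Minimal Cfsg.Agent.Lib.LocalStruct.TransFam
open scoped commutatorElement

universe u

variable {B : Type u} [Group B] [Finite B] {p : ℕ} [Fact p.Prime]

/-- the hypotheses of the reduced situation. -/
structure CleanHyp (p : ℕ) (𝒦 : Set (Subgroup B)) : Prop where
  hinv : ∀ h : B, ∀ E ∈ 𝒦, E.map (MulAut.conj h).toMonoidHom ∈ 𝒦
  htr : ∀ E ∈ 𝒦, ∀ K ∈ 𝒦, ∃ h : B, K = E.map (MulAut.conj h).toMonoidHom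
  hres : pResidual p B ≤ sSup 𝒦
  hnorm : ∀ E ∈ 𝒦, sSup 𝒦 ≤ normalizer (E : Set B)
  hO : pCore p B = ⊥
  hSI : ∀ E ∈ 𝒦, ∀ N : Subgroup B, N ≤ E → E ≤ normalizer (N : Set B) →
    ⁅N, E⁆ = ⊥ ∨ resOf p E ≤ N
  hNC : ∀ E ∈ 𝒦, ¬ IsPClosed p ↥E

variable {𝒦 : Set (Subgroup B)} {E K : Subgroup B}

theorem nilpotent_pclosed (hc : ⁅⁅E, E⁆, E⁆ = ⊥) : IsPClosed p ↥E := by
  have h2 : Group.IsNilpotent ↥E := by
    rw [Subgroup.nilpotent_iff_lowerCentralSeries]
    refine ⟨2, ?_⟩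
    apply Subgroup.map_injective E.subtype_injective
    have e1 : (⊤ : Subgroup ↥E).map E.subtype = E := by
      rw [← MonoidHom.range_eq_map, Subgroup.range_subtype]
    rw [Subgroup.lowerCentralSeries_succ, Subgroup.lowerCentralSeries_succ,
      Subgroup.lowerCentralSeries_zero, Subgroup.map_bot]
    rw [Subgroup.map_commutator, Subgroup.map_commutator, e1]
    exact hc
  intro P
  exact Sylow.normal_of_normalizerCondition (Group.normalizerCondition_of_isNilpotent (G := ↥E)) P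

theorem CleanHyp.rn (h : CleanHyp p 𝒦) : (sSup 𝒦).Normal := sSup_normal h.hinv

theorem CleanHyp.sup_resOf_inf (h : CleanHyp p 𝒦) (hE : E ∈ 𝒦) (T : Sylow p B) :
    resOf p E ⊔ ((T : Subgroup B) ⊓ E) = E := by
  obtain ⟨S, hS⟩ := exists_sylow_inf_chain T h.rn (le_sSup hE) (h.hnorm E hE)
  have h1 := congrArg (Subgroup.map E.subtype) (sylow_sup_pResidual S)
  rw [Subgroup.map_sup, hS, ← MonoidHom.range_eq_map, Subgroup.range_subtype] at h1
  rwa [sup_comm]

theorem CleanHyp.isSubnormal (h : CleanHyp p 𝒦) (hE : E ∈ 𝒦) : E.IsSubnormal :=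
  Subgroup.IsSubnormal.step E (sSup 𝒦) (le_sSup hE) h.rn.isSubnormal
    ((FrakH.normal_subgroupOf_iff (le_sSup hE)).mpr (h.hnorm E hE))

theorem CleanHyp.pCore_eq_bot (h : CleanHyp p 𝒦) (hE : E ∈ 𝒦) : pCore p ↥E = ⊥ := by
  have h1 := map_pCore_le_of_isSubnormal (p := p) (h.isSubnormal hE)
  rw [h.hO, le_bot_iff, Subgroup.map_eq_bot_iff_of_injective _ E.subtype_injective] at h1
  exact h1

/-- `T ∩ E` is not central in `E` -/
theorem CleanHyp.not_comm_inf (h : CleanHyp p 𝒦) (hE : E ∈ 𝒦) (T : Sylow p B) :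
    ¬ ⁅(T : Subgroup B) ⊓ E, E⁆ = ⊥ := by
  intro hc
  obtain ⟨S, hS⟩ := exists_sylow_inf_chain T h.rn (le_sSup hE) (h.hnorm E hE)
  apply h.hNC E hE
  apply isPClosed_of_normal_sylow S
  constructor
  intro n hn g
  have hn2 : (n : B) ∈ (T : Subgroup B) ⊓ E := by
    rw [← hS]; exact ⟨n, hn, rfl⟩
  have h1 := commutator_eq_bot_iff_forall.mp hc _ hn2 _ g.2
  have h2 : g * n * g⁻¹ = n := by
    apply Subtype.ext
    simp only [Subgroup.coe_mul, Subgroup.coe_inv]
    rw [← h1]; simp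
  rwa [h2]

theorem CleanHyp.resOf_le_comm (h : CleanHyp p 𝒦) (hE : E ∈ 𝒦) : resOf p E ≤ ⁅E, E⁆ := by
  have hle : ⁅E, E⁆ ≤ E := by
    rw [Subgroup.commutator_le]
    intro a ha b hb
    rw [commutatorElement_def]
    exact E.mul_mem (E.mul_mem (E.mul_mem ha hb) (E.inv_mem ha)) (E.inv_mem hb)
  rcases h.hSI E hE ⁅E, E⁆ hle (le_normalizer_commutator_left E E) with hc | hc
  · exact absurd (nilpotent_pclosed hc) (h.hNC E hE)
  · exact hc

theorem CleanHyp.comm_resOf (h : CleanHyp p 𝒦) (hE : E ∈ 𝒦) {X : Subgroup B}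
    (hX : ⁅⁅X, E⁆, E⁆ = ⊥) : ⁅resOf p E, X⁆ = ⊥ := by
  have h2 : ⁅⁅E, X⁆, E⁆ = ⊥ := by rwa [Subgroup.commutator_comm E X]
  have h3 := Subgroup.commutator_commutator_eq_bot_of_rotate h2 hX
  exact le_bot_iff.mp (h3 ▸ Subgroup.commutator_mono (h.resOf_le_comm hE) le_rfl)

theorem CleanHyp.comm_of_both (h : CleanHyp p 𝒦) (hE : E ∈ 𝒦) (hK : K ∈ 𝒦)
    (h1 : ⁅resOf p E, K⁆ = ⊥) (h2 : ⁅resOf p K, E⁆ = ⊥) : ⁅E, K⁆ = ⊥ := by
  obtain ⟨T⟩ : Nonempty (Sylow p B) := inferInstance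
  have hsE := h.sup_resOf_inf hE T
  have hsK := h.sup_resOf_inf hK T
  have hEK : E ≤ normalizer (K : Set B) := (le_sSup hE).trans (h.hnorm K hK)
  have hKE : K ≤ normalizer (E : Set B) := (le_sSup hK).trans (h.hnorm E hE)
  have key : ⁅E, K⁆ ≤ (T : Subgroup B) := by
    rw [Subgroup.commutator_le]
    intro e he k hk
    have he2 : e ∈ resOf p E ⊔ ((T : Subgroup B) ⊓ E) := by rw [hsE]; exact he
    have hk2 : k ∈ resOf p K ⊔ ((T : Subgroup B) ⊓ K) := by rw [hsK]; exact hk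
    obtain ⟨a, ha, s, hs, rfl⟩ := mem_sup_of_le_normalizer
      (inf_le_right.trans (le_normalizer_resOf E)) he2
    obtain ⟨b, hb, t, ht, rfl⟩ := mem_sup_of_le_normalizer
      (inf_le_right.trans (le_normalizer_resOf K)) hk2
    have hac : ∀ y ∈ K, a * y = y * a := commutator_eq_bot_iff_forall.mp h1 a ha
    have hbc : ∀ y ∈ E, b * y = y * b := commutator_eq_bot_iff_forall.mp h2 b hb
    have hbt : b * t ∈ K := K.mul_mem (resOf_le K hb) ht.2
    have hs' : s * (b * t) * s⁻¹ ∈ K := conj_mem_of_mem_normalizer (hEK hs.2) hbt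
    have e1 : ⁅a * s, b * t⁆ = ⁅s, b * t⁆ := by
      simp only [commutatorElement_def]
      calc a * s * (b * t) * (a * s)⁻¹ * (b * t)⁻¹
          = (a * (s * (b * t) * s⁻¹)) * a⁻¹ * (b * t)⁻¹ := by group
        _ = _ := by rw [hac _ hs']; group
    have hst : ⁅s, t⁆ ∈ E := by
      rw [commutatorElement_def]
      have : t * s⁻¹ * t⁻¹ ∈ E := conj_mem_of_mem_normalizer (hKE ht.2) (E.inv_mem hs.2)
      simpa [mul_assoc] using E.mul_mem hs.2 this
    have e2 : ⁅s, b * t⁆ = ⁅s, t⁆ := by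
      have e3 : ⁅s, b * t⁆ = (s * b) * t * s⁻¹ * t⁻¹ * b⁻¹ := by
        simp only [commutatorElement_def]; group
      have e4 : (s * b) * t * s⁻¹ * t⁻¹ * b⁻¹ = (b * ⁅s, t⁆) * b⁻¹ := by
        rw [← hbc s hs.2]
        simp only [commutatorElement_def]; group
      rw [e3, e4, hbc _ hst]
      simp
    rw [e1, e2]
    have hT := (T : Subgroup B)
    rw [commutatorElement_def]
    exact Subgroup.mul_mem _ (Subgroup.mul_mem _ (Subgroup.mul_mem _ hs.1 ht.1)
      (Subgroup.inv_mem _ hs.1)) (Subgroup.inv_mem _ ht.1)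
  have hJR : ⁅E, K⁆ ≤ sSup 𝒦 :=
    (Subgroup.commutator_le.mpr fun a ha b hb => by
      rw [commutatorElement_def]
      have : b * a⁻¹ * b⁻¹ ∈ E := conj_mem_of_mem_normalizer (hKE hb) (E.inv_mem ha)
      simpa [mul_assoc] using E.mul_mem ha this).trans (le_sSup hE)
  have hRJ : sSup 𝒦 ≤ normalizer ((⁅E, K⁆ : Subgroup B) : Set B) := by
    intro r hr
    rw [mem_normalizer_iff_map, map_conj_commutator, mem_normalizer_iff_map.mp (h.hnorm E hE hr),
      mem_normalizer_iff_map.mp (h.hnorm K hK hr)]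
  have hsub : (⁅E, K⁆ : Subgroup B).IsSubnormal :=
    Subgroup.IsSubnormal.step _ (sSup 𝒦) hJR h.rn.isSubnormal
      ((FrakH.normal_subgroupOf_iff hJR).mpr hRJ)
  have := le_pCore_of_isSubnormal hsub (T.isPGroup'.to_le key)
  rw [h.hO] at this
  exact le_bot_iff.mp this

/-- the dichotomy -/
theorem CleanHyp.dichotomy (h : CleanHyp p 𝒦) (hE : E ∈ 𝒦) (hK : K ∈ 𝒦) :
    resOf p E = resOf p K ∨ ⁅E, K⁆ = ⊥ := by
  have hdich : ∀ {E K : Subgroup B}, E ∈ 𝒦 → K ∈ 𝒦 → ⁅E ⊓ K, E⁆ = ⊥ ∨ resOf p E ≤ K := by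
    intro E K hE hK
    have hEK : E ≤ normalizer (K : Set B) := (le_sSup hE).trans (h.hnorm K hK)
    have h1 : E ≤ normalizer ((E ⊓ K : Subgroup B) : Set B) := by
      intro e he
      apply mem_normalizer_of_conj_mem
      rintro x ⟨hx1, hx2⟩
      exact ⟨E.mul_mem (E.mul_mem he hx1) (E.inv_mem he), conj_mem_of_mem_normalizer (hEK he) hx2⟩
    rcases h.hSI E hE (E ⊓ K) inf_le_left h1 with hc | hc
    · exact Or.inl hc
    · exact Or.inr (hc.trans inf_le_right)
  have hcommle : ∀ {E K : Subgroup B}, E ∈ 𝒦 → K ∈ 𝒦 → ⁅K, E⁆ ≤ E ⊓ K := by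
    intro E K hE hK
    have hEK : E ≤ normalizer (K : Set B) := (le_sSup hE).trans (h.hnorm K hK)
    have hKE : K ≤ normalizer (E : Set B) := (le_sSup hK).trans (h.hnorm E hE)
    rw [inf_comm]
    exact commutator_le_inf_of_normalizes hEK hKE
  have aux : ∀ {E K : Subgroup B}, E ∈ 𝒦 → K ∈ 𝒦 → ⁅E ⊓ K, E⁆ = ⊥ → ⁅resOf p E, K⁆ = ⊥ := by
    intro E K hE hK hc
    apply h.comm_resOf hE
    exact le_bot_iff.mp (hc ▸ Subgroup.commutator_mono (hcommle hE hK) le_rfl)
  have aux2 : ∀ {E K : Subgroup B}, E ∈ 𝒦 → K ∈ 𝒦 → ⁅E ⊓ K, E⁆ = ⊥ → ⁅resOf p K, E⁆ = ⊥ := by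
    intro E K hE hK hc
    rcases hdich hK hE with hc2 | hc2
    · exact aux hK hE hc2
    · exact le_bot_iff.mp (hc ▸ Subgroup.commutator_mono (le_inf hc2 (resOf_le K)) le_rfl)
  rcases hdich hE hK with h1 | h1
  · exact Or.inr (h.comm_of_both hE hK (aux hE hK h1) (aux2 hE hK h1))
  · rcases hdich hK hE with h2 | h2
    · right
      rw [Subgroup.commutator_comm]
      exact h.comm_of_both hK hE (aux hK hE h2) (aux2 hK hE h2)
    · left
      apply le_antisymm
      · rw [← resOf_resOf E]; exact resOf_mono h1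
      · rw [← resOf_resOf K]; exact resOf_mono h2

theorem CleanHyp.comm_of_gens (h : CleanHyp p 𝒦) (hE : E ∈ 𝒦) (T : Sylow p B) {x : B}
    (h1 : ∀ y ∈ resOf p E, y * x = x * y) (h2 : ∀ y ∈ (T : Subgroup B) ⊓ E, y * x = x * y) :
    ∀ y ∈ E, y * x = x * y := by
  have h3 : E ≤ centralizer ({x} : Set B) := by
    rw [← h.sup_resOf_inf hE T]
    apply sup_le
    · intro y hy
      rw [Subgroup.mem_centralizer_iff]
      rintro _ rfl
      exact (h1 y hy).symm
    · intro y hy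
      rw [Subgroup.mem_centralizer_iff]
      rintro _ rfl
      exact (h2 y hy).symm
  intro y hy
  exact (Subgroup.mem_centralizer_iff.mp (h3 hy) x rfl).symm

/-- `p`-irreducibility in the reduced situation. -/
theorem CleanHyp.irreducible (h : CleanHyp p 𝒦) (N : Subgroup B) (hNn : N.Normal)
    (hN : ¬ IsPClosed p ↥N) : pResidual p B ≤ N := by
  by_contra hnot
  have hRn := h.rn
  have h1 : ∀ E ∈ 𝒦, ¬ resOf p E ≤ N := by
    intro E hE hle
    apply hnot
    have hall : ∀ K ∈ 𝒦, resOf p K ≤ N := by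
      intro K hK
      obtain ⟨g, rfl⟩ := h.htr E hE K hK
      rw [resOf_conj_eq]
      rintro _ ⟨x, hx, rfl⟩
      exact hNn.conj_mem x (hle hx) g
    obtain ⟨T⟩ : Nonempty (Sylow p B) := inferInstance
    have hsup : N ⊔ (T : Subgroup B) = ⊤ := by
      rw [eq_top_iff, ← sylow_sup_pResidual T]
      apply sup_le le_sup_right
      refine h.hres.trans (sSup_le fun K hK => ?_)
      rw [← h.sup_resOf_inf hK T]
      exact sup_le ((hall K hK).trans le_sup_left) (inf_le_left.trans le_sup_right)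
    exact (isPGroup_quotient_iff N).mp (isPGroup_quotient_of_sup_eq_top N T.isPGroup' hsup)
  have h2 : ∀ E ∈ 𝒦, ⁅E ⊓ N, E⁆ = ⊥ := by
    intro E hE
    have h3 : E ≤ normalizer ((E ⊓ N : Subgroup B) : Set B) := by
      intro e he
      apply mem_normalizer_of_conj_mem
      rintro x ⟨hx1, hx2⟩
      exact ⟨E.mul_mem (E.mul_mem he hx1) (E.inv_mem he), hNn.conj_mem x hx2 e⟩
    rcases h.hSI E hE (E ⊓ N) inf_le_left h3 with hc | hc
    · exact hc
    · exact absurd (hc.trans inf_le_right) (h1 E hE)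
  have h3 : ∀ E ∈ 𝒦, ∀ z ∈ E ⊓ N, IsPElt p z → z = 1 := by
    intro E hE z hz hzp
    have hc : (⟨z, hz.1⟩ : ↥E) ∈ center ↥E := by
      rw [Subgroup.mem_center_iff]
      intro g
      apply Subtype.ext
      exact (commutator_eq_bot_iff_forall.mp (h2 E hE) z hz g g.2).symm
    have hp : IsPElt p (⟨z, hz.1⟩ : ↥E) :=
      IsPElt.of_injective E.subtype E.subtype_injective hzp
    have h4 := mem_pCore_of_central hc hp
    rw [h.pCore_eq_bot hE] at h4
    exact congrArg Subtype.val ((Subgroup.mem_bot).mp h4)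
  have h4 : ∀ E ∈ 𝒦, ∀ x ∈ N, x ∈ normalizer (E : Set B) → ∀ a ∈ resOf p E, a * x = x * a := by
    intro E hE x hxN hxE
    have h5 : ⁅N ⊓ normalizer (E : Set B), E⁆ ≤ E ⊓ N := by
      rw [Subgroup.commutator_le]
      rintro y ⟨hy1, hy2⟩ e he
      rw [commutatorElement_def]
      refine ⟨?_, ?_⟩
      · exact E.mul_mem (conj_mem_of_mem_normalizer hy2 he) (E.inv_mem he)
      · have := hNn.conj_mem y⁻¹ (N.inv_mem hy1) e
        have h6 := N.mul_mem hy1 this
        simpa [mul_assoc] using h6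
    have h6 : ⁅⁅N ⊓ normalizer (E : Set B), E⁆, E⁆ = ⊥ :=
      le_bot_iff.mp (h2 E hE ▸ Subgroup.commutator_mono h5 le_rfl)
    have h7 := h.comm_resOf hE h6
    intro a ha
    exact commutator_eq_bot_iff_forall.mp h7 a ha x ⟨hxN, hxE⟩
  have h5 : ∀ x ∈ N ⊓ sSup 𝒦, IsPElt p x → x = 1 := by
    intro x hx hxp
    obtain ⟨T, hT⟩ := exists_sylow_mem hxp
    have hcomm : ∀ E ∈ 𝒦, ∀ y ∈ E, y * x = x * y := by
      intro E hE
      have hxE : x ∈ normalizer (E : Set B) := h.hnorm E hE hx.2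
      apply h.comm_of_gens hE T (h4 E hE x hx.1 hxE)
      intro s hs
      have hz : ⁅x, s⁆ ∈ E ⊓ N := by
        rw [commutatorElement_def]
        refine ⟨E.mul_mem (conj_mem_of_mem_normalizer hxE hs.2) (E.inv_mem hs.2), ?_⟩
        have := hNn.conj_mem x⁻¹ (N.inv_mem hx.1) s
        have h6 := N.mul_mem hx.1 this
        simpa [mul_assoc] using h6
      have hzT : ⁅x, s⁆ ∈ (T : Subgroup B) := by
        rw [commutatorElement_def]
        exact Subgroup.mul_mem _ (Subgroup.mul_mem _ (Subgroup.mul_mem _ hT hs.1)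
          (Subgroup.inv_mem _ hT)) (Subgroup.inv_mem _ hs.1)
      have h6 := h3 E hE _ hz (IsPElt.of_mem T.isPGroup' hzT)
      rw [commutatorElement_eq_one_iff_commute] at h6
      exact h6.eq.symm
    have hR : sSup 𝒦 ≤ centralizer ({x} : Set B) := by
      apply sSup_le
      intro E hE y hy
      rw [Subgroup.mem_centralizer_iff]
      rintro _ rfl
      exact (hcomm E hE y hy).symm
    have hc : (⟨x, hx.2⟩ : ↥(sSup 𝒦)) ∈ center ↥(sSup 𝒦) := by
      rw [Subgroup.mem_center_iff]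
      intro g
      apply Subtype.ext
      exact (Subgroup.mem_centralizer_iff.mp (hR g.2) x rfl).symm
    have hp : IsPElt p (⟨x, hx.2⟩ : ↥(sSup 𝒦)) :=
      IsPElt.of_injective (sSup 𝒦).subtype (sSup 𝒦).subtype_injective hxp
    have h6 := mem_pCore_of_central hc hp
    have h7 : x ∈ pCore p B := map_pCore_le_of_isSubnormal hRn.isSubnormal ⟨_, h6, rfl⟩
    rwa [h.hO] at h7
  have h6 : ∀ x ∈ N, IsPElt p x → ∀ E ∈ 𝒦, ∀ y ∈ E, y * x = x * y := by
    intro x hx hxp E hE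
    obtain ⟨T, hT⟩ := exists_sylow_mem hxp
    have hs : ∀ s ∈ (T : Subgroup B) ⊓ E, s * x = x * s := by
      intro s hs
      have hz : ⁅s, x⁆ ∈ N ⊓ sSup 𝒦 := by
        rw [commutatorElement_def]
        refine ⟨N.mul_mem (hNn.conj_mem x hx s) (N.inv_mem hx), ?_⟩
        have hsR : s ∈ sSup 𝒦 := le_sSup hE hs.2
        have := hRn.conj_mem s⁻¹ ((sSup 𝒦).inv_mem hsR) x
        have h7 := (sSup 𝒦).mul_mem hsR this
        simpa [mul_assoc] using h7
      have hzT : ⁅s, x⁆ ∈ (T : Subgroup B) := by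
        rw [commutatorElement_def]
        exact Subgroup.mul_mem _ (Subgroup.mul_mem _ (Subgroup.mul_mem _ hs.1 hT)
          (Subgroup.inv_mem _ hs.1)) (Subgroup.inv_mem _ hT)
      have h7 := h5 _ hz (IsPElt.of_mem T.isPGroup' hzT)
      rw [commutatorElement_eq_one_iff_commute] at h7
      exact h7.eq
    have hT1 : (T : Subgroup B) ⊓ E ≤ E.map (MulAut.conj x).toMonoidHom := by
      intro s hs'
      rw [mem_conj_iff]
      have : x⁻¹ * s * x = s := by
        rw [mul_assoc, hs s hs']; group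
      rw [this]
      exact hs'.2
    have hEx := h.hinv x E hE
    have hinf : E ≤ normalizer ((E ⊓ E.map (MulAut.conj x).toMonoidHom : Subgroup B) : Set B) := by
      intro e he
      apply mem_normalizer_of_conj_mem
      rintro y ⟨hy1, hy2⟩
      exact ⟨E.mul_mem (E.mul_mem he hy1) (E.inv_mem he),
        conj_mem_of_mem_normalizer (h.hnorm _ hEx (le_sSup hE he)) hy2⟩
    rcases h.hSI E hE _ inf_le_left hinf with hc | hc
    · exact absurd (le_bot_iff.mp (hc ▸ Subgroup.commutator_mono (le_inf inf_le_right hT1) le_rfl))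
        (h.not_comm_inf hE T)
    · have hEle : E ≤ E.map (MulAut.conj x).toMonoidHom := by
        calc E = resOf p E ⊔ ((T : Subgroup B) ⊓ E) := (h.sup_resOf_inf hE T).symm
          _ ≤ _ := sup_le (hc.trans inf_le_right) hT1
      have hEq : E = E.map (MulAut.conj x).toMonoidHom :=
        Subgroup.eq_of_le_of_card_ge hEle (card_map_conj x E).le
      have hxE : x ∈ normalizer (E : Set B) := mem_normalizer_iff_map.mpr hEq.symm
      exact h.comm_of_gens hE T (h4 E hE x hx hxE) hs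
  obtain ⟨S⟩ : Nonempty (Sylow p ↥N) := inferInstance
  apply hN
  apply isPClosed_of_normal_sylow S
  apply Subgroup.normalizer_eq_top_iff.mp
  apply top_le_iff.mp
  rw [← sylow_sup_pResidual S]
  refine sup_le Subgroup.le_normalizer ?_
  intro y hy
  have hyR : (y : B) ∈ sSup 𝒦 := h.hres (map_pResidual_subtype_le N ⟨y, hy, rfl⟩)
  apply mem_normalizer_of_conj_mem
  intro s hs
  have hsp : IsPElt p (s : B) :=
    IsPElt.map N.subtype (IsPElt.of_mem S.isPGroup' hs)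
  have hR : sSup 𝒦 ≤ centralizer ({(s : B)} : Set B) := by
    apply sSup_le
    intro E hE z hz
    rw [Subgroup.mem_centralizer_iff]
    rintro _ rfl
    exact (h6 _ s.2 hsp E hE z hz).symm
  have h7 : (y : B) * s = s * y := (Subgroup.mem_centralizer_iff.mp (hR hyR) (s : B) rfl).symm
  have h8 : y * s * y⁻¹ = s := by
    apply Subtype.ext
    simp only [Subgroup.coe_mul, Subgroup.coe_inv]
    rw [h7]; simp
  rwa [h8]

end Cfsg.Agent.Lib.LocalStruct.TransFam2
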